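import Cfsg.Agent.H51.FormAsch.OrthMax
import Cfsg.Agent.H44.Classes
import Cfsg.Agent.H44.Classify

/-!
Even-dimensional orthogonal spaces: semilinear functionals, maximal totally singular subspaces, types of
subspaces, and elementary facts on the commutator subgroup of the isometry group.
-/

set_option autoImplicit false
set_option linter.unusedSectionVars false
set_option linter.style.haveILetI false

open Cfsg.Geo
open scoped Matrix MatrixGroups

namespace H98

namespace OE

variable {ι : Type} [Fintype ι] [DecidableEq ι] {F : Type*} [Field F]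

local notation "V" => (ι → F)

/-! ### Groups and invariant subspaces -/

theorem mulVec_inv_cancel (g : GL ι F) (v : V) :
    ((g⁻¹ : GL ι F) : Matrix ι ι F) *ᵥ ((g : Matrix ι ι F) *ᵥ v) = v := by
  rw [Matrix.mulVec_mulVec, ← Units.val_mul, inv_mul_cancel, Units.val_one, Matrix.one_mulVec]

theorem mulVec_cancel_inv (g : GL ι F) (v : V) :
    (g : Matrix ι ι F) *ᵥ (((g⁻¹ : GL ι F) : Matrix ι ι F) *ᵥ v) = v := by
  rw [Matrix.mulVec_mulVec, ← Units.val_mul, mul_inv_cancel, Units.val_one, Matrix.one_mulVec]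

theorem mulVec_inj (g : GL ι F) : Function.Injective fun v : V => (g : Matrix ι ι F) *ᵥ v :=
  Function.LeftInverse.injective (g := fun v : V => ((g⁻¹ : GL ι F) : Matrix ι ι F) *ᵥ v) (mulVec_inv_cancel g)

theorem le_stab_of_maps {H : Subgroup (GL ι F)} {W : Submodule F V}
    (h : ∀ g ∈ H, ∀ v ∈ W, (g : Matrix ι ι F) *ᵥ v ∈ W) : H ≤ subspaceStabilizer W :=
  fun g hg v => ⟨h g hg v, fun hv => by
    have h' : ((g⁻¹ : GL ι F) : Matrix ι ι F) *ᵥ ((g : Matrix ι ι F) *ᵥ v) ∈ W := h g⁻¹ (inv_mem hg) _ hv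
    rwa [mulVec_inv_cancel] at h'⟩

/-- Invariant subspaces are trivial. -/
def Irr (H : Subgroup (GL ι F)) : Prop :=
  ∀ W : Submodule F V, H ≤ subspaceStabilizer W → W = ⊥ ∨ W = ⊤

theorem irr_iff {H : Subgroup (GL ι F)} : Irr H ↔ ActsIrreducibly (matrixSet H) := by
  constructor
  · intro h W hW
    refine h W (le_stab_of_maps fun g hg v hv => ?_)
    exact hW _ (H46.mem_matrixSet hg) ⟨v, hv, Matrix.toLin'_apply _ _⟩
  · intro h W hW
    refine h W ?_
    rintro _ ⟨g, hg, rfl⟩ _ ⟨v, hv, rfl⟩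
    exact (hW hg v).1 hv

theorem map_eq_of_maps (g : GL ι F) {A B : Submodule F V} (h : ∀ v ∈ A, (g : Matrix ι ι F) *ᵥ v ∈ B)
    (hd : Module.finrank F B ≤ Module.finrank F A) : A.map (Matrix.toLin' (g : Matrix ι ι F)) = B :=
  H45.map_eq_of_maps_into g h hd

/-! ### Semilinear functionals -/

/-- The kernel of an additive function scaling by squares. -/
def sqKer (D : V → F) (hadd : ∀ u v, D (u + v) = D u + D v) (hsm : ∀ (a : F) v, D (a • v) = a ^ 2 * D v) :
    Submodule F V where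
  carrier := {v | D v = 0}
  zero_mem' := by
    show D 0 = 0
    have := hsm 0 0
    rwa [zero_smul, zero_pow two_ne_zero, zero_mul] at this
  add_mem' := fun {u v} (hu : D u = 0) (hv : D v = 0) => by
    show D (u + v) = 0
    rw [hadd, hu, hv, add_zero]
  smul_mem' := fun a v (hv : D v = 0) => by
    show D (a • v) = 0
    rw [hsm, hv, mul_zero]

theorem mem_sqKer {D : V → F} {hadd : ∀ u v, D (u + v) = D u + D v}
    {hsm : ∀ (a : F) v, D (a • v) = a ^ 2 * D v} {v : V} : v ∈ sqKer D hadd hsm ↔ D v = 0 := Iff.rfl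

variable [Fintype F]

/-- On a subspace of dimension at least two an additive square-scaling function has a non-zero zero. -/
theorem exists_zero_of_semilinear (D : V → F) (hadd : ∀ u v, D (u + v) = D u + D v)
    {W : Submodule F V} (hW : 2 ≤ Module.finrank F W) : ∃ v ∈ W, v ≠ 0 ∧ D v = 0 := by
  classical
  by_contra h
  push Not at h
  have hinj : Function.Injective fun v : W => D (v : V) := by
    intro u v huv
    by_contra hne
    apply h _ (W.sub_mem u.2 v.2) (sub_ne_zero.2 fun e => hne (Subtype.ext e))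
    have h1 := hadd ((u : V) - v) (v : V)
    rw [sub_add_cancel] at h1
    exact right_eq_add.1 (huv.symm.trans h1)
  have h1 := Fintype.card_le_of_injective _ hinj
  have h0 : Fintype.card W = Fintype.card F ^ Module.finrank F W := Module.card_eq_pow_finrank
  rw [h0] at h1
  have h2 : Fintype.card F ^ 1 < Fintype.card F ^ Module.finrank F W :=
    Nat.pow_lt_pow_right Fintype.one_lt_card (by omega)
  rw [pow_one] at h2
  omega

/-- An invariant additive square-scaling function of an irreducible group vanishes. -/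
theorem semilinear_eq_zero {H : Subgroup (GL ι F)} (hirr : Irr H) (hn : 2 ≤ Fintype.card ι) (D : V → F)
    (hadd : ∀ u v, D (u + v) = D u + D v) (hsm : ∀ (a : F) v, D (a • v) = a ^ 2 * D v)
    (hinv : ∀ g ∈ H, ∀ v, D v = 0 → D ((g : Matrix ι ι F) *ᵥ v) = 0) (v : V) : D v = 0 := by
  rcases hirr (sqKer D hadd hsm) (le_stab_of_maps fun g hg u hu => hinv g hg u hu) with h | h
  · obtain ⟨u, -, hu0, hu⟩ := exists_zero_of_semilinear D hadd (W := ⊤)
      (by rw [finrank_top, Module.finrank_pi]; exact hn)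
    exact absurd ((Submodule.mem_bot F).1 (h ▸ (hu : u ∈ sqKer D hadd hsm))) hu0
  · exact mem_sqKer.1 (h ▸ Submodule.mem_top : v ∈ sqKer D hadd hsm)

/-! ### The form -/

variable {q : QuadraticForm F (ι → F)}

theorem omega_det (hq : (H43.polB q).Nondegenerate) (hn : 5 ≤ Fintype.card ι) {g : GL ι F}
    (hg : g ∈ omegaGL ⇑q) : (g : Matrix ι ι F).det = 1 := by
  rw [H45.omegaGL_eq_map] at hg
  obtain ⟨x, hx, rfl⟩ := hg
  have hgen : H43.ReflGenerates F V := Or.inr (by rw [Module.finrank_pi]; omega)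
  have h1 := H44.det_eq_dickson hq hgen x
  rw [if_pos ((H44.mem_commutator_iff hq hgen x).1 hx).1] at h1
  rw [← LinearMap.det_toLin', ← h1]
  congr 1
  exact LinearMap.ext fun v => by rw [Matrix.toLin'_apply]; exact H45.toGL_apply q x v

theorem isometry_polar {g : GL ι F} (hg : ∀ v, q ((g : Matrix ι ι F) *ᵥ v) = q v) (u v : V) :
    QuadraticMap.polar ⇑q ((g : Matrix ι ι F) *ᵥ u) ((g : Matrix ι ι F) *ᵥ v) = QuadraticMap.polar ⇑q u v := by
  simp only [QuadraticMap.polar, ← Matrix.mulVec_add, hg]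

theorem le_similarity {H : Subgroup (GL ι F)} (hH : ∀ g ∈ H, ∀ v, q ((g : Matrix ι ι F) *ᵥ v) = q v) :
    H ≤ similarityGroup (QuadraticMap.polar ⇑q) :=
  fun g hg => ⟨1, fun u v => by rw [Units.val_one, one_mul, isometry_polar (hH g hg)]⟩

theorem polar_self (v : V) : QuadraticMap.polar ⇑q v v = 2 * q v := by
  rw [← H43.polB_apply, H43.polB_self]

theorem tsFor_of_tsQuad {W : Submodule F V} (h : IsTotallySingularQuad ⇑q W) :
    IsTotallySingularFor (QuadraticMap.polar ⇑q) W := fun u hu v hv => by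
  rw [← H43.polB_apply]
  exact H43.polB_eq_zero_of_singular h hu hv

theorem tsQuad_of_tsFor (h2 : (2 : F) ≠ 0) {W : Submodule F V}
    (h : IsTotallySingularFor (QuadraticMap.polar ⇑q) W) : IsTotallySingularQuad ⇑q W := fun v hv => by
  have h1 := h v hv v hv
  rw [polar_self] at h1
  exact (mul_eq_zero.1 h1).resolve_left h2

theorem mem_orth {W : Submodule F V} {v : V} :
    v ∈ (H43.polB q).orthogonal W ↔ ∀ w ∈ W, H43.polB q w v = 0 := Iff.rfl

theorem nondegOn_iff {W : Submodule F V} :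
    IsNondegenerateOn (QuadraticMap.polar ⇑q) W ↔ W ⊓ (H43.polB q).orthogonal W = ⊥ := by
  refine ⟨H45.orth_inf_eq_bot_of_nondegenerateOn, fun h w hw hw0 => ?_⟩
  obtain ⟨x, hx, hxw⟩ : ∃ x ∈ W, H43.polB q x w ≠ 0 := by
    by_contra hc
    push Not at hc
    have : w ∈ W ⊓ (H43.polB q).orthogonal W := ⟨hw, hc⟩
    rw [h, Submodule.mem_bot] at this
    exact hw0 this
  exact ⟨⟨x, hx, hxw⟩, ⟨x, hx, fun e => hxw (by rw [H43.polB_comm]; exact e)⟩⟩

theorem sup_orth_eq_top (hq : (H43.polB q).Nondegenerate) {W : Submodule F V}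
    (h : W ⊓ (H43.polB q).orthogonal W = ⊥) : W ⊔ (H43.polB q).orthogonal W = ⊤ := by
  apply Submodule.eq_top_of_finrank_eq
  have h1 := Submodule.finrank_sup_add_finrank_inf_eq W ((H43.polB q).orthogonal W)
  rw [h, finrank_bot] at h1
  have h3 : Module.finrank F ↥((H43.polB q).orthogonal W) + Module.finrank F ↥W = Module.finrank F V :=
    H43.finrank_orth_add hq W
  omega

theorem orth_orth_nondeg (hq : (H43.polB q).Nondegenerate) {W : Submodule F V}
    (h : W ⊓ (H43.polB q).orthogonal W = ⊥) :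
    (H43.polB q).orthogonal W ⊓ (H43.polB q).orthogonal ((H43.polB q).orthogonal W) = ⊥ := by
  rw [LinearMap.BilinForm.orthogonal_orthogonal hq (H43.polB_isRefl q), inf_comm]
  exact h

theorem le_stab_orth {H : Subgroup (GL ι F)} (hH : ∀ g ∈ H, ∀ v, q ((g : Matrix ι ι F) *ᵥ v) = q v)
    {W : Submodule F V} (h : H ≤ subspaceStabilizer W) :
    H ≤ subspaceStabilizer ((H43.polB q).orthogonal W) := by
  refine le_stab_of_maps fun g hg v hv => mem_orth.2 fun w hw => ?_
  have hw' : ((g⁻¹ : GL ι F) : Matrix ι ι F) *ᵥ w ∈ W := (h (inv_mem hg) w).1 hw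
  have h1 := mem_orth.1 hv _ hw'
  rw [H43.polB_apply] at h1 ⊢
  rw [← mulVec_cancel_inv g w, isometry_polar (hH g hg)]
  exact h1

/-! ### Halves -/

/-- A totally singular subspace lies in one of half dimension, if there is one. -/
theorem half_extend (hq : (H43.polB q).Nondegenerate) (hplus : IsPlusTypeOn ⇑q ⊤) {S : Submodule F V}
    (hS : IsTotallySingularQuad ⇑q S) :
    ∃ U, S ≤ U ∧ IsTotallySingularQuad ⇑q U ∧ 2 * Module.finrank F U = Fintype.card ι := by
  obtain ⟨U₀, -, hU₀, hdim⟩ := hplus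
  rw [finrank_top, Module.finrank_pi] at hdim
  refine ⟨(U₀ ⊓ (H43.polB q).orthogonal S) ⊔ S, le_sup_right, ?_, ?_⟩
  · intro w hw
    obtain ⟨a, ha, b, hb, rfl⟩ := Submodule.mem_sup.1 hw
    rw [H43.qmap_add, hU₀ a ha.1, hS b hb, H43.polB_comm, mem_orth.1 ha.2 b hb, add_zero, add_zero]
  · set U : Submodule F V := (U₀ ⊓ (H43.polB q).orthogonal S) ⊔ S
    have hU : IsTotallySingularQuad ⇑q U := by
      intro w hw
      obtain ⟨a, ha, b, hb, rfl⟩ := Submodule.mem_sup.1 hw
      rw [H43.qmap_add, hU₀ a ha.1, hS b hb, H43.polB_comm, mem_orth.1 ha.2 b hb, add_zero, add_zero]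
    have h1 := Submodule.finrank_sup_add_finrank_inf_eq (U₀ ⊓ (H43.polB q).orthogonal S) S
    have h2 := Submodule.finrank_sup_add_finrank_inf_eq U₀ ((H43.polB q).orthogonal S)
    -- the intersection with S is the intersection of the two singular spaces
    have h3 : U₀ ⊓ (H43.polB q).orthogonal S ⊓ S = U₀ ⊓ S := by
      refine le_antisymm (inf_le_inf_right _ inf_le_left) ?_
      rintro x ⟨hx, hx'⟩
      exact ⟨⟨hx, mem_orth.2 fun w hw => H43.polB_eq_zero_of_singular hS hw hx'⟩, hx'⟩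
    have h4 : U₀ ⊔ (H43.polB q).orthogonal S ≤ (H43.polB q).orthogonal (U₀ ⊓ S) := by
      refine sup_le (fun x hx => mem_orth.2 fun w hw => H43.polB_eq_zero_of_singular hU₀ hw.1 hx)
        fun x hx => mem_orth.2 fun w hw => mem_orth.1 hx w hw.2
    have h5 := Submodule.finrank_mono h4
    have h6 : Module.finrank F ↥((H43.polB q).orthogonal S) + Module.finrank F ↥S = Module.finrank F V :=
      H43.finrank_orth_add hq S
    have h7 : Module.finrank F ↥((H43.polB q).orthogonal (U₀ ⊓ S)) + Module.finrank F ↥(U₀ ⊓ S) =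
        Module.finrank F V := H43.finrank_orth_add hq (U₀ ⊓ S)
    have h8 : U ≤ (H43.polB q).orthogonal U :=
      fun x hx => mem_orth.2 fun w hw => H43.polB_eq_zero_of_singular hU hw hx
    have h9 := Submodule.finrank_mono h8
    have h10 : Module.finrank F ↥((H43.polB q).orthogonal U) + Module.finrank F ↥U = Module.finrank F V :=
      H43.finrank_orth_add hq U
    rw [h3] at h1
    rw [Module.finrank_pi] at h6 h7 h10
    have e : Module.finrank F ↥U = Module.finrank F
      ↥((U₀ ⊓ (H43.polB q).orthogonal S) ⊔ S : Submodule F V) := rfl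
    omega

/-- The cancellation of a hyperbolic summand. -/
theorem plus_split (hq : (H43.polB q).Nondegenerate) (hplus : IsPlusTypeOn ⇑q ⊤) {W S : Submodule F V}
    (hW : W ⊓ (H43.polB q).orthogonal W = ⊥) (hS : IsTotallySingularQuad ⇑q S)
    (hSW : S ≤ (H43.polB q).orthogonal W)
    (hdim : 2 * Module.finrank F S + Module.finrank F W = Fintype.card ι) : IsPlusTypeOn ⇑q W := by
  obtain ⟨U, hSU, hU, hUdim⟩ := half_extend hq hplus hS
  refine ⟨U ⊓ W, inf_le_right, fun w hw => hU w hw.1, ?_⟩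
  -- U lies in the span of S and W
  have h0 : S ⊓ W = ⊥ := eq_bot_iff.2 fun x hx => hW ▸ ⟨hx.2, hSW hx.1⟩
  have hperp : (H43.polB q).orthogonal S = S ⊔ W := by
    symm
    refine Submodule.eq_of_le_of_finrank_le (sup_le (fun x hx => mem_orth.2 fun w hw =>
      H43.polB_eq_zero_of_singular hS hw hx) fun x hx => mem_orth.2 fun w hw => ?_) ?_
    · rw [H43.polB_comm]; exact mem_orth.1 (hSW hw) x hx
    · have h1 := Submodule.finrank_sup_add_finrank_inf_eq S W
      rw [h0, finrank_bot] at h1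
      have h2 : Module.finrank F ↥((H43.polB q).orthogonal S) + Module.finrank F ↥S = Module.finrank F V :=
        H43.finrank_orth_add hq S
      rw [Module.finrank_pi] at h2
      show Module.finrank F ↥((H43.polB q).orthogonal S) ≤ _
      omega
  have hUS : U = S ⊔ (U ⊓ W) := by
    refine le_antisymm (fun u hu => ?_) (sup_le hSU inf_le_left)
    have h1 : u ∈ S ⊔ W := hperp ▸ mem_orth.2 fun w hw => H43.polB_eq_zero_of_singular hU (hSU hw) hu
    obtain ⟨a, ha, b, hb, rfl⟩ := Submodule.mem_sup.1 h1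
    exact Submodule.add_mem_sup ha ⟨(U.add_mem_iff_right (hSU ha)).1 hu, hb⟩
  have h1 := Submodule.finrank_sup_add_finrank_inf_eq S (U ⊓ W)
  have h2 : S ⊓ (U ⊓ W) = ⊥ := eq_bot_iff.2 fun x hx => h0 ▸ ⟨hx.1, hx.2.2⟩
  rw [h2, finrank_bot, ← hUS] at h1
  omega

theorem plus_sum {W S : Submodule F V} (hW : W ⊓ (H43.polB q).orthogonal W = ⊥) (hplus : IsPlusTypeOn ⇑q W)
    (hS : IsTotallySingularQuad ⇑q S) (hSW : S ≤ (H43.polB q).orthogonal W)
    (hdim : 2 * Module.finrank F S + Module.finrank F W = Fintype.card ι) : IsPlusTypeOn ⇑q ⊤ := by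
  obtain ⟨U, hUW, hU, hUdim⟩ := hplus
  refine ⟨S ⊔ U, le_top, fun w hw => ?_, ?_⟩
  · obtain ⟨a, ha, b, hb, rfl⟩ := Submodule.mem_sup.1 hw
    rw [H43.qmap_add, hS a ha, hU b hb, H43.polB_comm, mem_orth.1 (hSW ha) b (hUW hb), add_zero, add_zero]
  · have h1 := Submodule.finrank_sup_add_finrank_inf_eq S U
    have h2 : S ⊓ U = ⊥ := eq_bot_iff.2 fun x hx => hW ▸ ⟨hUW hx.2, hSW hx.1⟩
    rw [h2, finrank_bot] at h1
    rw [finrank_top, Module.finrank_pi]
    omega

/-- The commutator subgroup preserves the two classes of halves. -/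
theorem even_inf_omega (hq : (H43.polB q).Nondegenerate) (hn : 5 ≤ Fintype.card ι) {m : ℕ}
    (hm : Fintype.card ι = 2 * m) {g : GL ι F} (hg : g ∈ omegaGL ⇑q) {U W : Submodule F V}
    (hU : IsTotallySingularQuad ⇑q U) (hW : IsTotallySingularQuad ⇑q W)
    (hUm : Module.finrank F U = m) (hWm : Module.finrank F W = m) :
    Even (m - Module.finrank F ↥(U ⊓ W.map (Matrix.toLin' (g : Matrix ι ι F)))) ↔
      Even (m - Module.finrank F ↥(U ⊓ W)) := by
  rw [H45.omegaGL_eq_map] at hg
  obtain ⟨x, hx, rfl⟩ := hg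
  have hgen : H43.ReflGenerates F V := Or.inr (by rw [Module.finrank_pi]; omega)
  have h1 := H44.even_inf_map_iff hq hgen (m := m) (by rw [Module.finrank_pi]; exact hm) x hU hW hUm hWm
  have e : W.map (Matrix.toLin' ((H45.toGL q x : GL ι F) : Matrix ι ι F)) = W.map (x.1 : V →ₗ[F] V) := by
    congr 1
    exact LinearMap.ext fun v => by rw [Matrix.toLin'_apply]; exact H45.toGL_apply q x v
  rw [e]
  simp only [((H44.mem_commutator_iff hq hgen x).1 hx).1, iff_true] at h1
  exact h1

/-- A totally singular subspace one below half dimension: a half above it is stable. -/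
theorem half_stable (hq : (H43.polB q).Nondegenerate) (hn : 5 ≤ Fintype.card ι) (hplus : IsPlusTypeOn ⇑q ⊤)
    {H : Subgroup (GL ι F)} (hH : H ≤ omegaGL ⇑q) {W : Submodule F V} (hW : IsTotallySingularQuad ⇑q W)
    (hdim : 2 * Module.finrank F W + 2 = Fintype.card ι) (h : H ≤ subspaceStabilizer W) :
    ∃ U, IsTotallySingularQuad ⇑q U ∧ 2 * Module.finrank F U = Fintype.card ι ∧ H ≤ subspaceStabilizer U := by
  obtain ⟨U, hWU, hU, hUdim⟩ := half_extend hq hplus hW
  refine ⟨U, hU, hUdim, le_stab_of_maps fun g hg => ?_⟩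
  have hm : Fintype.card ι = 2 * Module.finrank F U := hUdim.symm
  have h1 := even_inf_omega hq hn hm (hH hg) hU hU rfl rfl
  rw [inf_idem, Nat.sub_self] at h1
  have h2 := h1.2 (by simp)
  have hle : W ≤ U ⊓ U.map (Matrix.toLin' (g : Matrix ι ι F)) := le_inf hWU fun w hw =>
    ⟨((g⁻¹ : GL ι F) : Matrix ι ι F) *ᵥ w, hWU ((h (inv_mem hg) w).1 hw), by
      rw [Matrix.toLin'_apply, mulVec_cancel_inv]⟩
  have h3 := Submodule.finrank_mono hle
  have h4 := Submodule.finrank_mono (inf_le_left : U ⊓ U.map (Matrix.toLin' (g : Matrix ι ι F)) ≤ U)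
  have h5 : U ⊓ U.map (Matrix.toLin' (g : Matrix ι ι F)) = U :=
    Submodule.eq_of_le_of_finrank_le inf_le_left (by
      obtain ⟨j, hj⟩ := h2
      omega)
  have h6 : U.map (Matrix.toLin' (g : Matrix ι ι F)) = U := by
    refine (Submodule.eq_of_le_of_finrank_le (inf_eq_left.1 h5) ?_).symm
    exact Submodule.finrank_map_le _ _
  intro v hv
  rw [← h6]
  exact ⟨v, hv, Matrix.toLin'_apply _ _⟩

/-- A pair of complementary halves of odd dimension is not exchanged. -/
theorem no_swap (hq : (H43.polB q).Nondegenerate) (hn : 5 ≤ Fintype.card ι) {m : ℕ} (hm : Fintype.card ι = 2 * m)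
    (hodd : Odd m) {g : GL ι F} (hg : g ∈ omegaGL ⇑q) {U W : Submodule F V}
    (hU : IsTotallySingularQuad ⇑q U) (hW : IsTotallySingularQuad ⇑q W)
    (hUm : Module.finrank F U = m) (hWm : Module.finrank F W = m) (hUW : U ⊓ W = ⊥) :
    U.map (Matrix.toLin' (g : Matrix ι ι F)) ≠ W := by
  intro h
  have h1 := even_inf_omega hq hn hm hg hU hU hUm hUm
  rw [h, inf_idem, hUW, finrank_bot, hUm, Nat.sub_self, Nat.sub_zero] at h1
  exact Nat.not_even_iff_odd.2 hodd (h1.2 (by simp))

/-! ### Types of subspaces -/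

/-- Normal forms of a non-degenerate even-dimensional subspace. -/
theorem type_cases (hq : (H43.polB q).Nondegenerate) {W : Submodule F V}
    (hW : W ⊓ (H43.polB q).orthogonal W = ⊥) {m : ℕ} (hm : Module.finrank F W = 2 * m) :
    (IsPlusTypeOn ⇑q W ∧ ∃ φ : W ≃ₗ[F] (Fin m ⊕ Fin m → F),
      ∀ w : W, q (w : V) = Cfsg.quadFormPlus m F (φ w)) ∨
    (¬ IsPlusTypeOn ⇑q W ∧ 1 ≤ m ∧ ∃ (ζ : F) (φ : W ≃ₗ[F] ((Fin (m - 1) ⊕ Fin (m - 1)) ⊕ Fin 2 → F)),
      (∀ t : F, t ^ 2 + t + ζ ≠ 0) ∧ ∀ w : W, q (w : V) = Cfsg.quadFormMinus (m - 1) F 1 ζ (φ w)) := by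
  classical
  have hsep : H44.PolarSep (q.restrict W) := fun x hx => (H43.restrict_nondeg W hW).1 x hx
  rcases H44.equiv_plus_or_minus hm (q.restrict W) hsep with ⟨φ, hφ⟩ | ⟨hm1, ζ, φ, hζ, hφ⟩
  · refine Or.inl ⟨?_, φ, hφ⟩
    let f : (Fin m → F) →ₗ[F] V := W.subtype.comp (φ.symm.toLinearMap.comp
      ((LinearEquiv.sumArrowLequivProdArrow (Fin m) (Fin m) F F).symm.toLinearMap.comp
        (LinearMap.inl F (Fin m → F) (Fin m → F))))
    have hf : Function.Injective f := Subtype.val_injective.comp (φ.symm.injective.comp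
      ((LinearEquiv.sumArrowLequivProdArrow (Fin m) (Fin m) F F).symm.injective.comp LinearMap.inl_injective))
    refine ⟨LinearMap.range f, ?_, ?_, ?_⟩
    · rintro _ ⟨u, rfl⟩
      exact Subtype.mem _
    · rintro _ ⟨u, rfl⟩
      refine (hφ _).trans ?_
      simp [Cfsg.quadFormPlus]
    · rw [LinearMap.finrank_range_of_inj hf, Module.finrank_fintype_fun_eq_card, Fintype.card_fin, hm]
  · refine Or.inr ⟨?_, hm1, ζ, φ, hζ, hφ⟩
    rintro ⟨U, hUW, hU, hUdim⟩
    have hani := H44.binForm_one_anisotropic hζ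
    let px : W →ₗ[F] (Fin (m - 1) → F) := (LinearMap.funLeft F F (Sum.inl ∘ Sum.inl)).comp φ.toLinearMap
    let py : W →ₗ[F] (Fin (m - 1) → F) := (LinearMap.funLeft F F (Sum.inl ∘ Sum.inr)).comp φ.toLinearMap
    let pz : W →ₗ[F] (Fin 2 → F) := (LinearMap.funLeft F F Sum.inr).comp φ.toLinearMap
    have h1 := H44.finrank_le_of_totally_singular px py pz
      (fun v hx hy hz => φ.injective (by
        rw [map_zero]
        funext i
        rcases i with (i | i) | i
        · exact congr_fun hx i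
        · exact congr_fun hy i
        · exact congr_fun hz i))
      (fun w : W => q (w : V)) (fun z => H44.binForm 1 ζ z)
      (fun z hz => H44.binForm_anisotropic hani z hz)
      (fun v => by
        refine (hφ v).trans ?_
        simp [Cfsg.quadFormMinus, px, py, pz, dotProduct, H44.binForm_apply, LinearMap.funLeft_apply])
      (U.comap W.subtype) (fun u hu => hU _ hu)
    rw [(Submodule.comapSubtypeEquivOfLe hUW).finrank_eq] at h1
    omega

/-- Non-degenerate subspaces of equal even dimension and type are isometric. -/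
theorem isometric_of_same_type (hq : (H43.polB q).Nondegenerate) {W W' : Submodule F V}
    (hW : W ⊓ (H43.polB q).orthogonal W = ⊥) (hW' : W' ⊓ (H43.polB q).orthogonal W' = ⊥) {m : ℕ}
    (hm : Module.finrank F W = 2 * m) (hm' : Module.finrank F W' = 2 * m)
    (htype : IsPlusTypeOn ⇑q W ↔ IsPlusTypeOn ⇑q W') : AreIsometricFor ⇑q W W' := by
  rcases type_cases hq hW hm with ⟨hp, φ, hφ⟩ | ⟨hp, hm1, ζ, φ, hζ, hφ⟩
  · rcases type_cases hq hW' hm' with ⟨-, ψ, hψ⟩ | ⟨hp', -⟩
    · exact ⟨φ.trans ψ.symm, fun w => by rw [hψ, hφ]; simp⟩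
    · exact absurd (htype.1 hp) hp'
  · rcases type_cases hq hW' hm' with ⟨hp', -⟩ | ⟨-, -, ζ', ψ, hζ', hψ⟩
    · exact absurd (htype.2 hp') hp
    · obtain ⟨χ, hχ⟩ := H44.minus_equiv_normal hζ' (m - 1) 1 ζ (fun z₁ z₂ hz => by
        have h0 := H44.binForm_anisotropic (H44.binForm_one_anisotropic hζ) ![z₁, z₂]
          (by rw [H44.binForm_apply]; simpa using hz)
        exact ⟨congrFun h0 0, congrFun h0 1⟩)
      exact ⟨φ.trans (χ.trans ψ.symm), fun w => by rw [hψ, hφ, hχ]; simp⟩

/-- Isometric subspaces have the same type. -/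
theorem plus_of_isometric {W W' : Submodule F V} (h : AreIsometricFor ⇑q W W') (hp : IsPlusTypeOn ⇑q W) :
    IsPlusTypeOn ⇑q W' := by
  obtain ⟨e, he⟩ := h
  obtain ⟨U, hUW, hU, hdim⟩ := hp
  refine ⟨((U.comap W.subtype).map e.toLinearMap).map W'.subtype, ?_, ?_, ?_⟩
  · rintro _ ⟨x, -, rfl⟩
    exact x.2
  · rintro _ ⟨_, ⟨x, hx, rfl⟩, rfl⟩
    exact (he x).trans (hU _ hx)
  · rw [Submodule.finrank_map_subtype_eq, LinearEquiv.finrank_map_eq,
      (Submodule.comapSubtypeEquivOfLe hUW).finrank_eq, ← e.finrank_eq]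
    exact hdim

theorem isometric_symm {W W' : Submodule F V} (h : AreIsometricFor ⇑q W W') : AreIsometricFor ⇑q W' W := by
  obtain ⟨e, he⟩ := h
  exact ⟨e.symm, fun w => by rw [← he (e.symm w), LinearEquiv.apply_symm_apply]⟩

theorem isometric_of_map {g : GL ι F} (hg : ∀ v, q ((g : Matrix ι ι F) *ᵥ v) = q v) {W W' : Submodule F V}
    (h : W.map (Matrix.toLin' (g : Matrix ι ι F)) = W') : AreIsometricFor ⇑q W W' := by
  have hinj : Function.Injective (Matrix.toLin' (g : Matrix ι ι F)) := fun u v huv =>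
    mulVec_inj g (by simpa using huv)
  refine ⟨(Submodule.equivMapOfInjective _ hinj W).trans (LinearEquiv.ofEq _ _ h), fun w => ?_⟩
  rw [LinearEquiv.trans_apply, LinearEquiv.coe_ofEq_apply, Submodule.coe_equivMapOfInjective_apply,
    Matrix.toLin'_apply]
  exact hg _

/-- In a non-degenerate plane, a non-zero singular vector makes plus type. -/
theorem plus_of_singular_plane {W : Submodule F V} (hW2 : Module.finrank F W = 2) {v : V} (hv : v ∈ W)
    (hv0 : v ≠ 0) (hqv : q v = 0) : IsPlusTypeOn ⇑q W := by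
  refine ⟨F ∙ v, (Submodule.span_singleton_le_iff_mem v W).2 hv, fun w hw => ?_, ?_⟩
  · obtain ⟨a, rfl⟩ := Submodule.mem_span_singleton.1 hw
    rw [H43.qmap_smul, hqv, mul_zero]
  · rw [finrank_span_singleton hv0, hW2]

end OE

end H98
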