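import Cfsg.Agent.H98.OrthEven.Disc
import Cfsg.Agent.H51.FormAsch.OrthProper
import Mathlib.FieldTheory.Finite.Extension

/-!
Structures over a subfield carrying the polar form: they carry the quadratic form, and over a subfield of index
two the space has plus type.
-/

set_option autoImplicit false
set_option linter.unusedSectionVars false
set_option linter.style.haveILetI false
set_option maxHeartbeats 800000

open Cfsg.Geo
open scoped Matrix MatrixGroups

namespace H98

namespace OE

open H51.FormAsch (sform_polar)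

variable {ι : Type} [Fintype ι] [DecidableEq ι] {F : Type*} [Field F] [Fintype F]
variable {q : QuadraticForm F (ι → F)}

local notation "V" => (ι → F)

/-- A field automorphism fixing exactly a given subfield. -/
theorem exists_fixing (F₁ : Subfield F) : ∃ φ : F ≃+* F, ∀ x, φ x = x ↔ x ∈ F₁ := by
  classical
  haveI : Fintype F₁ := Fintype.ofFinite _
  obtain ⟨p, hp⟩ := CharP.exists F
  haveI := hp
  haveI : CharP F₁ p := F₁.subtype.charP F₁.subtype.injective p
  obtain ⟨k, hpp, hk⟩ := FiniteField.card F₁ p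
  haveI : Fact p.Prime := ⟨hpp⟩
  haveI : ExpChar F p := ExpChar.prime hpp
  let φ : F →+* F := iterateFrobenius F p k
  refine ⟨RingEquiv.ofBijective φ (Finite.injective_iff_bijective.1 φ.injective), fun x => ?_⟩
  show φ x = x ↔ x ∈ F₁
  have hle : ∀ x ∈ F₁, φ x = x := fun x hx => by
    have := FiniteField.pow_card (⟨x, hx⟩ : F₁)
    rw [hk] at this
    exact congrArg Subtype.val this
  refine ⟨fun hx => ?_, hle x⟩
  set N := p ^ (k : ℕ) with hN
  have hN1 : 1 < N := Nat.one_lt_pow k.pos.ne' hpp.one_lt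
  let roots := (Polynomial.X ^ N - Polynomial.X : Polynomial F).roots.toFinset
  have hpoly : (Polynomial.X ^ N - Polynomial.X : Polynomial F) ≠ 0 :=
    FiniteField.X_pow_card_sub_X_ne_zero F hN1
  have hmem : ∀ y, φ y = y → y ∈ roots := fun y hy => by
    simp only [roots, Multiset.mem_toFinset, Polynomial.mem_roots', ne_eq, hpoly, not_false_eq_true,
      Polynomial.IsRoot, Polynomial.eval_sub, Polynomial.eval_pow, Polynomial.eval_X, true_and]
    rw [sub_eq_zero]
    exact hy
  have hcard : roots.card ≤ (Finset.univ.filter fun y => y ∈ F₁).card := by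
    refine (Multiset.toFinset_card_le _).trans ((Polynomial.card_roots' _).trans ?_)
    rw [FiniteField.X_pow_card_sub_X_natDegree_eq F hN1, ← hk, ← Fintype.card_subtype]
  have := Finset.eq_of_subset_of_card_le (fun y hy => hmem y (hle y (Finset.mem_filter.1 hy).2)) hcard
  exact (Finset.mem_filter.1 (this ▸ hmem x hx)).2

/-- A structure carrying the polar form carries the quadratic form. -/
theorem rational_quad (hq : (H43.polB q).Nondegenerate) (hn : 2 ≤ Fintype.card ι) {H : Subgroup (GL ι F)}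
    (hirr : Irr H) (hH : ∀ g ∈ H, ∀ v, q ((g : Matrix ι ι F) *ᵥ v) = q v) {F₁ : Subfield F} {P : GL ι F} {ζ : F}
    (hζ : ζ ≠ 0) (hR : IsFormRationalStructure (QuadraticMap.polar ⇑q) F₁ ζ P)
    (hle : H ≤ subfieldSubgroup F₁ P) : IsQuadFormRationalStructure (fun v => ζ * q v) F₁ P := by
  classical
  haveI : Nonempty ι := Fintype.card_pos_iff.1 (by omega)
  by_cases h2 : (2 : F) = 0
  swap
  · intro u hu
    have h1 := hR u u hu hu
    rw [polar_self] at h1
    show ζ * q ((P : Matrix ι ι F) *ᵥ u) ∈ F₁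
    have e : ζ * q ((P : Matrix ι ι F) *ᵥ u) = ζ * (2 * q ((P : Matrix ι ι F) *ᵥ u)) / (1 + 1) := by
      rw [one_add_one_eq_two]; field_simp
    rw [e]
    exact div_mem h1 (add_mem (one_mem _) (one_mem _))
  obtain ⟨φ, hφ⟩ := exists_fixing F₁
  have hs := sform_polar hq
  set f := QuadraticMap.polar ⇑q
  set Pm := (P : Matrix ι ι F)
  set B : V → V → F := fun u v => ζ * f (Pm *ᵥ u) (Pm *ᵥ v) with hBdef
  set M : Matrix ι ι F := gramMatrix B
  have hBM : ∀ u v, B u v = formOfGram (id : F → F) M u v := fun u v =>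
    congrFun (congrFun (H46.eq_formOfGram (RingEquiv.refl F) B
      (fun x y v => by simp only [hBdef, Matrix.mulVec_add, hs.add_left, mul_add])
      (fun c x v => by simp only [hBdef, Matrix.mulVec_smul, hs.smul_left]; ring)
      (fun v x y => by simp only [hBdef, Matrix.mulVec_add, hs.add_right, mul_add])
      (fun c v x => by simp only [hBdef, Matrix.mulVec_smul, hs.smul_right]; ring)) u) v
  have hsingle : ∀ j k, (Pi.single j 1 : V) k ∈ F₁ := fun j k => by
    rw [Pi.single_apply]; split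
    · exact one_mem _
    · exact zero_mem _
  have hMφ : ∀ i j, φ (M i j) = M i j := fun i j => (hφ _).2 (hR _ _ (hsingle i) (hsingle j))
  -- elements of the group commute with the automorphism
  have hent : ∀ g ∈ H, ∀ i j, φ ((((P⁻¹ * g * P : GL ι F)) : Matrix ι ι F) i j) =
      (((P⁻¹ * g * P : GL ι F)) : Matrix ι ι F) i j := by
    intro g hg i j
    obtain ⟨g', hg', hgg⟩ := hle hg
    obtain ⟨a, ⟨A, rfl⟩, s, hs', rfl⟩ := Subgroup.mem_sup_of_normal_right.1 hg'
    obtain ⟨z, rfl⟩ := H46.exists_scl hs'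
    set a : GL ι F := Matrix.GeneralLinearGroup.map (F₁.subtype : F₁ →+* F) A with ha
    have hM : (((P⁻¹ * g * P : GL ι F)) : Matrix ι ι F) = (z : F) • (a : Matrix ι ι F) := by
      rw [← hgg]
      show ((P⁻¹ * (P * (a * H46.scl ι z) * P⁻¹) * P : GL ι F) : Matrix ι ι F) = _
      rw [show P⁻¹ * (P * (a * H46.scl ι z) * P⁻¹) * P = a * H46.scl ι z by group, ← (H46.scl_comm z a).eq,
        H46.scl_mul_val]
    have haF : ∀ i j, (a : Matrix ι ι F) i j ∈ F₁ := fun i j => ((A : Matrix ι ι F₁) i j).2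
    have hzF : φ (z : F) = z := by
      obtain ⟨i₀, j₀, h0⟩ : ∃ i j, M i j ≠ 0 := by
        by_contra hcon
        push Not at hcon
        obtain ⟨i⟩ := ‹Nonempty ι›
        have hne : Pm *ᵥ Pi.single i 1 ≠ 0 := fun e0 => by
          have := mulVec_inj P (e0.trans (Matrix.mulVec_zero Pm).symm)
          simpa using congrFun this i
        obtain ⟨x, hx⟩ := (hs.nondegenerate _ hne).1
        obtain ⟨y, rfl⟩ : ∃ y, Pm *ᵥ y = x := ⟨_, mulVec_cancel_inv P x⟩
        have h1 := hBM y (Pi.single i 1)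
        rw [show M = 0 from Matrix.ext hcon] at h1
        simp [formOfGram, hBdef, hζ] at h1
        exact hx (by simpa [Matrix.mulVec_single_one] using h1)
      have hav : ∀ j : ι, ∀ k, ((a : Matrix ι ι F) *ᵥ Pi.single j 1) k ∈ F₁ := fun j k => by
        rw [Matrix.mulVec_single_one]; exact haF k j
      set m' := B ((a : Matrix ι ι F) *ᵥ Pi.single i₀ 1) ((a : Matrix ι ι F) *ᵥ Pi.single j₀ 1)
      have hm' : m' ∈ F₁ := hR _ _ (hav i₀) (hav j₀)
      have hm : (z : F) * z * m' = M i₀ j₀ := by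
        show _ = ζ * f (Pm *ᵥ Pi.single i₀ 1) (Pm *ᵥ Pi.single j₀ 1)
        have hgP : ∀ u, (g : Matrix ι ι F) *ᵥ (Pm *ᵥ u) = (z : F) • (Pm *ᵥ ((a : Matrix ι ι F) *ᵥ u)) := by
          intro u
          rw [← Matrix.mulVec_smul, ← Matrix.smul_mulVec, ← hM, Matrix.mulVec_mulVec, Matrix.mulVec_mulVec,
            ← Units.val_mul, ← Units.val_mul, show P * (P⁻¹ * g * P) = g * P by group]
        rw [show f (Pm *ᵥ Pi.single i₀ 1) (Pm *ᵥ Pi.single j₀ 1) =
          f ((g : Matrix ι ι F) *ᵥ (Pm *ᵥ Pi.single i₀ 1)) ((g : Matrix ι ι F) *ᵥ (Pm *ᵥ Pi.single j₀ 1)) from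
          (isometry_polar (hH g hg) _ _).symm, hgP, hgP, hs.smul_left, hs.smul_right]
        simp only [m', hBdef, RingEquiv.refl_apply]
        ring
      have hm'0 : m' ≠ 0 := fun e0 => h0 (by rw [← hm, e0, mul_zero])
      have hzz : φ ((z : F) * z) = (z : F) * z := by
        rw [(eq_div_iff hm'0).2 hm, map_div₀, hMφ, (hφ _).2 hm']
      rw [map_mul] at hzz
      have h3 : (φ (z : F) - z) * (φ (z : F) - z) = 0 := by
        linear_combination hzz + ((z : F) * z - φ (z : F) * z) * h2
      exact sub_eq_zero.1 (mul_self_eq_zero.1 h3)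
    rw [hM, Matrix.smul_apply, smul_eq_mul, map_mul, hzF, (hφ _).2 (haF i j)]
  -- the obstruction
  let tw : V → V := fun x i => φ.symm (x i)
  let D : V → F := fun x => φ (ζ * q (Pm *ᵥ tw x)) - ζ * q (Pm *ᵥ x)
  have hcomm : ∀ g ∈ H, ∀ x, tw ((((P⁻¹ * g * P : GL ι F)) : Matrix ι ι F) *ᵥ x) =
      (((P⁻¹ * g * P : GL ι F)) : Matrix ι ι F) *ᵥ tw x := by
    intro g hg x
    funext i
    simp only [tw, Matrix.mulVec, dotProduct, map_sum, map_mul]
    refine Finset.sum_congr rfl fun j _ => ?_
    rw [(RingEquiv.symm_apply_eq φ).2 (hent g hg i j).symm]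
  have hBφ : ∀ u v, φ (B (tw u) (tw v)) = B u v := by
    intro u v
    simp only [hBM, formOfGram, tw, id, map_sum, map_mul, RingEquiv.apply_symm_apply, hMφ]
  have hadd : ∀ u v, D (u + v) = D u + D v := by
    intro u v
    have e1 : tw (u + v) = tw u + tw v := funext fun i => map_add φ.symm _ _
    have e2 := hBφ u v
    simp only [D, e1, Matrix.mulVec_add, QuadraticMap.map_add ⇑q, mul_add, map_add]
    simp only [hBdef] at e2
    linear_combination e2
  have hsm : ∀ (c : F) u, D (c • u) = c ^ 2 * D u := by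
    intro c u
    have e1 : tw (c • u) = φ.symm c • tw u := funext fun i => map_mul φ.symm _ _
    simp only [D, e1, Matrix.mulVec_smul, H43.qmap_smul, map_mul, map_pow, RingEquiv.apply_symm_apply]
    ring
  have hzero := semilinear_eq_zero hirr hn (fun w => D (((P⁻¹ : GL ι F) : Matrix ι ι F) *ᵥ w))
    (fun u v => by simp only [Matrix.mulVec_add, hadd]) (fun c u => by simp only [Matrix.mulVec_smul, hsm])
    (fun g hg w hw => by
      simp only [D] at hw ⊢
      have e : ((P⁻¹ : GL ι F) : Matrix ι ι F) *ᵥ ((g : Matrix ι ι F) *ᵥ w) =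
          (((P⁻¹ * g * P : GL ι F)) : Matrix ι ι F) *ᵥ (((P⁻¹ : GL ι F) : Matrix ι ι F) *ᵥ w) := by
        rw [Matrix.mulVec_mulVec, Matrix.mulVec_mulVec, ← Units.val_mul, ← Units.val_mul, mul_inv_cancel_right]
      have hq' : ∀ x, q (Pm *ᵥ ((((P⁻¹ * g * P : GL ι F)) : Matrix ι ι F) *ᵥ x)) = q (Pm *ᵥ x) := fun x => by
        rw [Matrix.mulVec_mulVec, ← Units.val_mul, show P * (P⁻¹ * g * P) = g * P by group, Units.val_mul,
          ← Matrix.mulVec_mulVec, hH g hg]
      rw [e, hcomm g hg, hq', hq']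
      exact hw)
  intro u hu
  have h := hzero (Pm *ᵥ u)
  rw [show ((P⁻¹ : GL ι F) : Matrix ι ι F) *ᵥ (Pm *ᵥ u) = u from mulVec_inv_cancel P u] at h
  simp only [D] at h
  rw [show tw u = u from funext fun i => (RingEquiv.symm_apply_eq φ).2 ((hφ _).2 (hu i)).symm, sub_eq_zero] at h
  exact (hφ _).1 h

/-- A quadratic polynomial over a subfield of index two has a root. -/
theorem exists_root_quadratic {F₁ : Subfield F} (hc : Fintype.card F = Nat.card F₁ ^ 2) (c : F₁) :
    ∃ t : F, t ^ 2 + t + (c : F) = 0 := by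
  classical
  by_contra hno
  push Not at hno
  set p : Polynomial F₁ := Polynomial.X ^ 2 + Polynomial.X + Polynomial.C c with hp
  have hdeg : p.natDegree = 2 := by rw [hp]; compute_degree!
  have hp0 : p ≠ 0 := fun e => by simp [e] at hdeg
  have hirr : Irreducible p := by
    rw [Polynomial.irreducible_iff_roots_eq_zero_of_degree_le_three (by omega) (by omega),
      Multiset.eq_zero_iff_forall_notMem]
    intro x hx
    rw [Polynomial.mem_roots hp0, Polynomial.IsRoot, hp] at hx
    simp at hx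
    exact hno (x : F) (by exact_mod_cast congrArg Subtype.val hx)
  obtain ⟨g, hg⟩ : p ∣ Polynomial.X ^ (Nat.card F₁) ^ 2 - Polynomial.X :=
    hirr.natDegree_dvd_iff_dvd_X_pow_card_pow_sub_X.1 (dvd_of_eq hdeg)
  set g' := g.map F₁.subtype
  have hg' : (Polynomial.X : Polynomial F) ^ Fintype.card F - Polynomial.X = p.map F₁.subtype * g' := by
    have h := congrArg (Polynomial.map F₁.subtype) hg
    rw [Polynomial.map_mul, Polynomial.map_sub, Polynomial.map_pow, Polynomial.map_X, ← hc] at h
    exact h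
  have hne : g' ≠ 0 := fun e => FiniteField.X_pow_card_sub_X_ne_zero F (Fintype.one_lt_card (α := F))
    (by rw [hg', e, mul_zero])
  have hp' : p.map F₁.subtype ≠ 0 := Polynomial.map_ne_zero hp0
  have hroots : ∀ x : F, g'.eval x = 0 := by
    intro x
    have h := congrArg (Polynomial.eval x) hg'
    rw [Polynomial.eval_sub, Polynomial.eval_pow, Polynomial.eval_X, FiniteField.pow_card, sub_self,
      Polynomial.eval_mul] at h
    refine (mul_eq_zero.1 h.symm).resolve_left ?_
    simpa [hp] using hno x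
  have hd := congrArg Polynomial.natDegree hg'
  rw [Polynomial.natDegree_mul hp' hne, FiniteField.X_pow_card_sub_X_natDegree_eq F (Fintype.one_lt_card (α := F)),
    Polynomial.natDegree_map, hdeg] at hd
  exact hne (Polynomial.eq_zero_of_natDegree_lt_card_of_eval_eq_zero g' Function.injective_id hroots (by omega))

/-- A structure over a subfield of index two makes plus type. -/
theorem plus_of_index_two (hq : (H43.polB q).Nondegenerate) {m : ℕ} (hm : Fintype.card ι = 2 * m)
    {F₁ : Subfield F} (hc : Fintype.card F = Nat.card F₁ ^ 2) {P : GL ι F} {ζ : F} (hζ : ζ ≠ 0)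
    (hR : IsQuadFormRationalStructure (fun v => ζ * q v) F₁ P) : IsPlusTypeOn ⇑q ⊤ := by
  classical
  let cc : (ι → F₁) → V := fun x i => (x i : F)
  let Pv : (ι → F₁) → V := fun x => (P : Matrix ι ι F) *ᵥ cc x
  have hPadd : ∀ x y, Pv (x + y) = Pv x + Pv y := fun x y => by
    simp only [Pv, cc, ← Matrix.mulVec_add]
    congr 1
  have hPsmul : ∀ (s : F₁) x, Pv (s • x) = (s : F) • Pv x := fun s x => by
    simp only [Pv, cc, ← Matrix.mulVec_smul]
    congr 1
  let val : (ι → F₁) → F₁ := fun x => ⟨ζ * q (Pv x), hR (cc x) fun i => (x i).2⟩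
  have hval : ∀ x y, ((QuadraticMap.polar val x y : F₁) : F) = ζ * H43.polB q (Pv x) (Pv y) := fun x y => by
    simp only [QuadraticMap.polar, val, hPadd, H43.qmap_add, AddSubgroupClass.coe_sub]
    ring
  let Q₁ : QuadraticForm F₁ (ι → F₁) := QuadraticMap.ofPolar val
    (fun a x => Subtype.ext (by simp only [val, hPsmul, H43.qmap_smul, smul_eq_mul, MulMemClass.coe_mul]; ring))
    (fun x x' y => Subtype.ext (by
      rw [AddMemClass.coe_add, hval, hval, hval, hPadd, map_add, LinearMap.add_apply, mul_add]))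
    (fun a x y => Subtype.ext (by
      rw [smul_eq_mul, MulMemClass.coe_mul, hval, hval, hPsmul, map_smul, LinearMap.smul_apply, smul_eq_mul]; ring))
  have hQ₁ : ∀ x, ((Q₁ x : F₁) : F) = ζ * q (Pv x) := fun x => rfl
  have hpol : ∀ x y, ((QuadraticMap.polar ⇑Q₁ x y : F₁) : F) = ζ * H43.polB q (Pv x) (Pv y) := hval
  have hsep : H44.PolarSep Q₁ := by
    intro x hx
    have h1 : Pv x = 0 := hq.1 _ fun w => by
      obtain ⟨u, rfl⟩ : ∃ u, (P : Matrix ι ι F) *ᵥ u = w := ⟨_, mulVec_cancel_inv P w⟩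
      have e : (P : Matrix ι ι F) *ᵥ u = ∑ j, u j • Pv (Pi.single j 1) := by
        conv_lhs => rw [pi_eq_sum_univ' u, Matrix.mulVec_sum]
        refine Finset.sum_congr rfl fun j _ => ?_
        rw [Matrix.mulVec_smul]
        congr 2
        funext k
        simp only [cc, Pi.single_apply]
        split <;> simp
      rw [e, map_sum]
      refine Finset.sum_eq_zero fun j _ => ?_
      have h2 := congrArg (fun s : F₁ => (s : F)) (hx (Pi.single j 1))
      simp only [hpol, ZeroMemClass.coe_zero] at h2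
      rw [map_smul, (mul_eq_zero.1 h2).resolve_left hζ, smul_zero]
    funext i
    exact Subtype.ext (congrFun (mulVec_inj P (h1.trans (Matrix.mulVec_zero _).symm)) i)
  -- a basis over the subfield stays one
  have lift : ∀ {K : Type} [Fintype K] [DecidableEq K] (ψ : (ι → F₁) ≃ₗ[F₁] (K → F₁)),
      Function.Injective fun c : K → F => ∑ k, c k • Pv (ψ.symm (Pi.single k 1)) := by
    intro K _ _ ψ
    set N := LinearMap.toMatrix' ψ.symm.toLinearMap
    set N' := LinearMap.toMatrix' ψ.toLinearMap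
    have hNN : N' * N = 1 := by
      rw [← LinearMap.toMatrix'_comp, show ψ.toLinearMap.comp ψ.symm.toLinearMap = LinearMap.id from
        LinearMap.ext fun x => ψ.apply_symm_apply x, LinearMap.toMatrix'_id]
    have e : ∀ c : K → F, (∑ k, c k • Pv (ψ.symm (Pi.single k 1))) =
        (P : Matrix ι ι F) *ᵥ (N.map F₁.subtype *ᵥ c) := by
      intro c
      conv_rhs => rw [pi_eq_sum_univ' c, Matrix.mulVec_sum, Matrix.mulVec_sum]
      refine Finset.sum_congr rfl fun k _ => ?_
      rw [Matrix.mulVec_smul, Matrix.mulVec_smul, Matrix.mulVec_single_one]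
      congr 2
    intro c c' h
    simp only [e] at h
    have h1 := congrArg (N'.map F₁.subtype *ᵥ ·) (mulVec_inj P h)
    have h3 : N'.map F₁.subtype * N.map F₁.subtype = 1 := by
      rw [← Matrix.map_mul, hNN, Matrix.map_one _ (map_zero _) (map_one _)]
    simp only [Matrix.mulVec_mulVec, h3, Matrix.one_mulVec] at h1
    exact h1
  have finish : ∀ (J : (Fin m → F) →ₗ[F] V), Function.Injective J → (∀ x, q (J x) = 0) → IsPlusTypeOn ⇑q ⊤ :=
    fun J hJ h0 => ⟨LinearMap.range J, le_top, by rintro _ ⟨x, rfl⟩; exact h0 x, by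
      rw [LinearMap.finrank_range_of_inj hJ, finrank_top, Module.finrank_pi, Module.finrank_pi, Fintype.card_fin, hm]⟩
  have hdim : Module.finrank F₁ (ι → F₁) = 2 * m := by rw [Module.finrank_pi, hm]
  rcases H44.equiv_plus_or_minus hdim Q₁ hsep with ⟨ψ, hψ⟩ | ⟨hm1, ζ₀, ψ, -, hψ⟩
  · set u : Fin m → V := fun i => Pv (ψ.symm (Pi.single (Sum.inl i) 1))
    have hu : ∀ a b : Fin m, q (u a) = 0 ∧ H43.polB q (u a) (u b) = 0 := by
      intro a b
      have e1 := hQ₁ (ψ.symm (Pi.single (Sum.inl a) 1))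
      rw [hψ, LinearEquiv.apply_symm_apply] at e1
      have e2 := hpol (ψ.symm (Pi.single (Sum.inl a) 1)) (ψ.symm (Pi.single (Sum.inl b) 1))
      simp only [QuadraticMap.polar, hψ, map_add, LinearEquiv.apply_symm_apply] at e2
      simp [Cfsg.quadFormPlus] at e1 e2
      exact ⟨e1.resolve_left hζ, e2.resolve_left hζ⟩
    refine finish (Fintype.linearCombination F u) (fun x y h => ?_) fun x => ?_
    · have h' := @lift (Fin m ⊕ Fin m) _ _ ψ (Sum.elim x 0) (Sum.elim y 0) (by
        simpa [Fintype.sum_sum_type, u, Fintype.linearCombination_apply] using h)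
      funext i
      exact congrFun h' (Sum.inl i)
    · rw [Fintype.linearCombination_apply, qmap_sum _ _ fun a _ b _ _ => by
        simp only [map_smul, LinearMap.smul_apply, (hu a b).2, smul_zero]]
      exact Finset.sum_eq_zero fun a _ => by rw [H43.qmap_smul, (hu a a).1, mul_zero]
  · obtain ⟨t, ht⟩ := exists_root_quadratic hc ζ₀
    obtain ⟨m, rfl⟩ : ∃ j, m = j + 1 := ⟨m - 1, by omega⟩
    change (ι → F₁) ≃ₗ[F₁] ((Fin m ⊕ Fin m) ⊕ Fin 2 → F₁) at ψ
    change ∀ x, Q₁ x = Cfsg.quadFormMinus m F₁ 1 ζ₀ (ψ x) at hψ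
    set u : Fin m → V := fun i => Pv (ψ.symm (Pi.single (Sum.inl (Sum.inl i)) 1))
    set z : Fin 2 → V := fun i => Pv (ψ.symm (Pi.single (Sum.inr i) 1))
    have eQ : ∀ k, ζ * q (Pv (ψ.symm (Pi.single k 1))) =
        ((Cfsg.quadFormMinus m F₁ 1 ζ₀ (Pi.single k 1) : F₁) : F) := fun k => by
      rw [← hQ₁, hψ, LinearEquiv.apply_symm_apply]
    have eB : ∀ k l, ζ * H43.polB q (Pv (ψ.symm (Pi.single k 1))) (Pv (ψ.symm (Pi.single l 1))) =
        ((QuadraticMap.polar (Cfsg.quadFormMinus m F₁ 1 ζ₀) (Pi.single k 1) (Pi.single l 1) : F₁) : F) := fun k l => by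
      rw [← hpol]
      simp only [QuadraticMap.polar, hψ, map_add, LinearEquiv.apply_symm_apply]
    set w : V := t • z 0 + z 1
    have hu : ∀ a b, q (u a) = 0 ∧ H43.polB q (u a) (u b) = 0 ∧ H43.polB q (u a) w = 0 := by
      intro a b
      have e1 := eQ (Sum.inl (Sum.inl a))
      have e2 := eB (Sum.inl (Sum.inl a)) (Sum.inl (Sum.inl b))
      have e3 := eB (Sum.inl (Sum.inl a)) (Sum.inr 0)
      have e4 := eB (Sum.inl (Sum.inl a)) (Sum.inr 1)
      simp [Cfsg.quadFormMinus, QuadraticMap.polar, hζ] at e1 e2 e3 e4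
      exact ⟨e1, e2, by simp [w, z, u, e3, e4]⟩
    have hw : q w = 0 := by
      have e1 := eQ (Sum.inr 0)
      have e2 := eQ (Sum.inr 1)
      have e3 := eB (Sum.inr 0) (Sum.inr 1)
      simp [Cfsg.quadFormMinus, QuadraticMap.polar] at e1 e2 e3
      apply (mul_eq_zero.1 (show ζ * q w = 0 from ?_)).resolve_left hζ
      simp only [w, H43.qmap_add, H43.qmap_smul, map_smul, LinearMap.smul_apply, smul_eq_mul, z]
      linear_combination t ^ 2 * e1 + e2 + t * e3 + ht
    set v : Fin (m + 1) → V := Fin.cons w u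
    refine finish (Fintype.linearCombination F v) (fun x y h => ?_) fun x => ?_
    · have h' := @lift ((Fin m ⊕ Fin m) ⊕ Fin 2) _ _ ψ (Sum.elim (Sum.elim (Fin.tail x) 0) ![x 0 * t, x 0])
        (Sum.elim (Sum.elim (Fin.tail y) 0) ![y 0 * t, y 0]) (by
        simp [Fintype.sum_sum_type, Fin.sum_univ_two, Fin.tail]
        simp [Fintype.linearCombination_apply, Fin.sum_univ_succ, v, u, w, z, smul_add, smul_smul] at h
        linear_combination (norm := module) h)
      funext i
      refine Fin.cases ?_ (fun j => ?_) i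
      · simpa using congrFun h' (Sum.inr 1)
      · simpa [Fin.tail] using congrFun h' (Sum.inl (Sum.inl j))
    · rw [Fintype.linearCombination_apply, Fin.sum_univ_succ, H43.qmap_add, qmap_sum _ _ fun a _ b _ _ => by
        simp only [v, Fin.cons_succ]
        simp only [map_smul, LinearMap.smul_apply, (hu a b).2.1, smul_zero]]
      simp only [v, Fin.cons_succ, Fin.cons_zero, map_sum, map_smul, LinearMap.smul_apply, H43.qmap_smul, hw,
        smul_eq_mul, mul_zero, zero_add]
      rw [Finset.sum_eq_zero fun a _ => by rw [(hu a a).1, mul_zero],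
        Finset.sum_eq_zero fun a _ => by rw [H43.polB_comm, (hu a a).2.2, mul_zero, mul_zero], add_zero]

end OE

end H98
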