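import Cfsg.Agent.H98.OrthEven.Reducible
import Cfsg.Agent.H98.OrthEven.Rational

/-!
Decompositions stabilised by an irreducible group: isometry of the parts, refinement, and rational bases.
-/

set_option autoImplicit false
set_option linter.unusedSectionVars false
set_option linter.style.haveILetI false
set_option maxHeartbeats 800000

open Cfsg.Geo
open scoped Matrix MatrixGroups

namespace H98

namespace OE

open H51.FormAsch (sform_polar)

variable {ι : Type} [Fintype ι] [DecidableEq ι] {F : Type*} [Field F] [Fintype F]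
variable {q : QuadraticForm F (ι → F)} {H : Subgroup (GL ι F)}

local notation "V" => (ι → F)

/-- An irreducible group permutes the parts transitively. -/
theorem decomp_transitive (hirr : Irr H) {t k : ℕ} {D : Fin t → Submodule F V} (hD : IsMDecomposition k D)
    (h : H ≤ decompositionStabilizer D) (i j : Fin t) :
    ∃ g ∈ H, (D i).map (Matrix.toLin' (g : Matrix ι ι F)) = D j := by
  classical
  let good : Fin t → Prop := fun l => ∃ g ∈ H, (D i).map (Matrix.toLin' (g : Matrix ι ι F)) = D l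
  by_contra hne
  set W : Submodule F V := ⨆ (l) (_ : good l), D l
  have hgi : good i := ⟨1, one_mem H, by simp⟩
  have hpos : ∀ l, D l ≠ ⊥ := fun l e => by
    have h1 := hD.finrank_eq l
    rw [e, finrank_bot] at h1
    exact hD.pos.ne h1
  have hW : H ≤ subspaceStabilizer W := by
    refine le_stab_of_maps fun g hg v hv => ?_
    have hle : W ≤ W.comap (Matrix.toLin' (g : Matrix ι ι F)) := iSup₂_le fun l hl x hx => by
      obtain ⟨σ, hσ⟩ := h hg
      obtain ⟨g', hg', hg'l⟩ := hl
      have hgood : good (σ l) := ⟨g * g', mul_mem hg hg', by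
        rw [Units.val_mul, Matrix.toLin'_mul, Submodule.map_comp, hg'l, hσ]⟩
      exact (le_iSup₂ (f := fun l (_ : good l) => D l) (σ l) hgood) (hσ l ▸ Submodule.mem_map_of_mem hx)
    exact hle hv
  have hWj : W ≤ ⨆ (l) (_ : l ≠ j), D l := iSup₂_le fun l hl =>
    le_iSup₂ (f := fun l (_ : l ≠ j) => D l) l fun e => hne (e ▸ hl)
  rcases hirr W hW with e | e
  · exact hpos i (le_bot_iff.1 (e ▸ le_iSup₂ (f := fun l (_ : good l) => D l) i hgi))
  · exact hpos j (le_bot_iff.1 (((hD.indep j).eq_bot ▸ le_inf le_rfl (le_top.trans (e ▸ hWj))) : D j ≤ ⊥))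

/-- The parts are isometric. -/
theorem orth_of_irr (hirr : Irr H) (hH : ∀ g ∈ H, ∀ v, q ((g : Matrix ι ι F) *ᵥ v) = q v) {t k : ℕ}
    {D : Fin t → Submodule F V} (hD : IsNondegenerateMDecomposition (QuadraticMap.polar ⇑q) k D)
    (h : H ≤ decompositionStabilizer D) : IsOrthogonalMDecomposition ⇑q k D :=
  ⟨hD, fun i j => by
    obtain ⟨g, hg, hgij⟩ := decomp_transitive hirr hD.decomp h i j
    exact isometric_of_map (hH g hg) hgij⟩

/-- Pairwise orthogonal non-degenerate subspaces are independent. -/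
theorem indep_of_orth {α : Type*} (E : α → Submodule F V)
    (hn : ∀ a, IsNondegenerateOn (QuadraticMap.polar ⇑q) (E a))
    (ho : ∀ a b, a ≠ b → ∀ x ∈ E a, ∀ y ∈ E b, H43.polB q x y = 0) : iSupIndep E := by
  intro a
  rw [disjoint_iff, eq_bot_iff]
  rintro x ⟨hx, hx'⟩
  rw [Submodule.mem_bot]
  by_contra hx0
  obtain ⟨y, hy, hyx⟩ := (hn a x hx hx0).1
  have hle : (⨆ (b) (_ : b ≠ a), E b) ≤ LinearMap.ker (H43.polB q y) := iSup₂_le fun b hb z hz =>
    LinearMap.mem_ker.2 (ho a b (Ne.symm hb) y hy z hz)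
  exact hyx (LinearMap.mem_ker.1 (hle hx'))

/-- Refining a decomposition. -/
theorem refine_blocks {t k s k' : ℕ} {D : Fin t → Submodule F V}
    (hD : IsNondegenerateMDecomposition (QuadraticMap.polar ⇑q) k D) (h : H ≤ decompositionStabilizer D)
    (hs : 1 ≤ s) (hk' : 0 < k') (hk : s * k' = k) (E : Fin t → Fin s → Submodule F V)
    (hEd : ∀ i a, Module.finrank F (E i a) = k') (hEle : ∀ i a, E i a ≤ D i)
    (hEn : ∀ i a, IsNondegenerateOn (QuadraticMap.polar ⇑q) (E i a))
    (hEo : ∀ i a b, a ≠ b → ∀ x ∈ E i a, ∀ y ∈ E i b, H43.polB q x y = 0)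
    (hmove : ∀ g ∈ H, ∀ i j, (D i).map (Matrix.toLin' (g : Matrix ι ι F)) = D j → ∀ a,
      ∃ b, (E i a).map (Matrix.toLin' (g : Matrix ι ι F)) ≤ E j b) :
    ∃ D' : Fin (t * s) → Submodule F V, IsNondegenerateMDecomposition (QuadraticMap.polar ⇑q) k' D' ∧
      H ≤ decompositionStabilizer D' ∧ ∀ x, ∃ i a, D' x = E i a := by
  classical
  let D' : Fin (t * s) → Submodule F V := fun x =>
    E (finProdFinEquiv.symm x).1 (finProdFinEquiv.symm x).2
  have hn' : ∀ x, IsNondegenerateOn (QuadraticMap.polar ⇑q) (D' x) := fun x => hEn _ _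
  have ho' : ∀ x y, x ≠ y → ∀ u ∈ D' x, ∀ v ∈ D' y, H43.polB q u v = 0 := by
    intro x y hxy u hu v hv
    set p := finProdFinEquiv.symm x with hp
    set r := finProdFinEquiv.symm y with hr
    have hpr : p ≠ r := fun e => hxy (finProdFinEquiv.symm.injective e)
    have hu' : u ∈ E p.1 p.2 := hu
    have hv' : v ∈ E r.1 r.2 := hv
    by_cases h1 : p.1 = r.1
    · rw [← h1] at hv'
      exact hEo p.1 p.2 r.2 (fun e => hpr (Prod.ext h1 e)) u hu' v hv'
    · exact hD.orthogonal p.1 r.1 h1 u (hEle _ _ hu') v (hEle _ _ hv')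
  have hind := indep_of_orth D' hn' ho'
  have hcover : ∀ i, D i ≤ iSup D' := by
    intro i
    let φ : ((a : Fin s) → E i a) →ₗ[F] V :=
      ∑ a : Fin s, (E i a).subtype.comp (LinearMap.proj a)
    have hφ : ∀ z, φ z = ∑ a : Fin s, (z a : V) := fun z => by simp [φ, LinearMap.sum_apply]
    have hinj : Function.Injective φ := by
      rw [← LinearMap.ker_eq_bot, LinearMap.ker_eq_bot']
      intro z hz
      funext a
      by_contra hne
      obtain ⟨y, hy, hy0⟩ := (hEn i a _ (z a).2 fun e => hne (Subtype.ext e)).2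
      apply hy0
      have h1 : H43.polB q (φ z) y = 0 := by rw [hz]; simp
      rw [hφ, map_sum, LinearMap.sum_apply, Finset.sum_eq_single a
        (fun b _ hb => hEo i b a hb _ (z b).2 y hy) (by simp)] at h1
      exact h1
    have hrle : LinearMap.range φ ≤ D i := by
      rintro _ ⟨z, rfl⟩
      rw [hφ]
      exact Submodule.sum_mem _ fun a _ => hEle i a (z a).2
    have hr : LinearMap.range φ = D i := by
      refine Submodule.eq_of_le_of_finrank_le hrle ?_
      rw [LinearMap.finrank_range_of_inj hinj, Module.finrank_pi_fintype, hD.decomp.finrank_eq]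
      simp [hEd, hk]
    rw [← hr]
    rintro _ ⟨z, rfl⟩
    rw [hφ]
    refine Submodule.sum_mem _ fun a _ => ?_
    have hle : E i a ≤ iSup D' := by
      refine le_trans ?_ (le_iSup D' (finProdFinEquiv (i, a)))
      simp only [D', Equiv.symm_apply_apply]
      exact le_rfl
    exact hle (z a).2
  refine ⟨D', ⟨⟨?_, hk', fun x => hEd _ _, hind, ?_⟩, hn', fun x y hxy u hu v hv => ?_⟩, fun g hg => ?_,
    fun x => ⟨_, _, rfl⟩⟩
  · calc 2 ≤ t * 1 := by have := hD.decomp.two_le; omega
      _ ≤ t * s := Nat.mul_le_mul le_rfl hs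
  · exact le_antisymm le_top (hD.decomp.iSup_eq_top ▸ iSup_le hcover)
  · rw [← H43.polB_apply]; exact ho' x y hxy u hu v hv
  · obtain ⟨σ, hσ⟩ := h hg
    choose b hb using fun i a => hmove g hg i (σ i) (hσ i) a
    let π : Fin (t * s) → Fin (t * s) := fun x =>
      finProdFinEquiv (σ (finProdFinEquiv.symm x).1, b (finProdFinEquiv.symm x).1 (finProdFinEquiv.symm x).2)
    have hmap : ∀ x, (D' x).map (Matrix.toLin' (g : Matrix ι ι F)) = D' (π x) := by
      intro x
      have hle : (D' x).map (Matrix.toLin' (g : Matrix ι ι F)) ≤ D' (π x) := by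
        simp only [D', π, Equiv.symm_apply_apply]
        exact hb _ _
      refine Submodule.eq_of_le_of_finrank_le hle ?_
      have hinj : Function.Injective (Matrix.toLin' (g : Matrix ι ι F)) := fun u v huv =>
        mulVec_inj g (by simpa using huv)
      rw [← (Submodule.equivMapOfInjective _ hinj (D' x)).finrank_eq]
      exact (hEd _ _).trans (hEd _ _).symm |>.le
    have hπ : Function.Injective π := by
      intro x y hxy
      by_contra hne
      have h1 := (hmap x).trans (hxy ▸ (hmap y).symm)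
      have hinj : Function.Injective (Matrix.toLin' (g : Matrix ι ι F)) := fun u v huv =>
        mulVec_inj g (by simpa using huv)
      have h2 : D' x = D' y := Submodule.map_injective_of_injective hinj h1
      have h3 : D' x ⊓ D' y = ⊥ := disjoint_iff.1 (hind.pairwiseDisjoint hne)
      rw [h2, inf_idem] at h3
      have h4 : Module.finrank F (D' y) = k' := hEd _ _
      rw [h3, finrank_bot] at h4
      omega
    exact ⟨Equiv.ofBijective π (Finite.injective_iff_bijective.1 hπ), hmap⟩

/-- A frame refining a decomposition, from the vectors of one value. -/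
theorem frame_of_vectors (hirr : Irr H) (hH : ∀ g ∈ H, ∀ v, q ((g : Matrix ι ι F) *ᵥ v) = q v)
    (h2 : (2 : F) ≠ 0) {t k : ℕ} {D : Fin t → Submodule F V}
    (hD : IsNondegenerateMDecomposition (QuadraticMap.polar ⇑q) k D) (h : H ≤ decompositionStabilizer D) {c : F}
    (hc : c ≠ 0) (a : Fin t → Fin k → V) (ha : ∀ i b, a i b ∈ D i) (hqa : ∀ i b, q (a i b) = c)
    (ho : ∀ i b b', b ≠ b' → H43.polB q (a i b) (a i b') = 0)
    (hall : ∀ i, ∀ x ∈ D i, q x = c → ∃ (b : Fin k) (l : F), x = l • a i b) :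
    ∃ D' : Fin (t * k) → Submodule F V, IsOrthogonalMDecomposition ⇑q 1 D' ∧
      H ≤ decompositionStabilizer D' := by
  have ha0 : ∀ i b, a i b ≠ 0 := fun i b e => hc (by rw [← hqa i b, e, QuadraticMap.map_zero])
  obtain ⟨D', hD', hle, -⟩ := refine_blocks hD h hD.decomp.pos one_pos (mul_one k)
    (fun i b => Submodule.span F {a i b}) (fun i b => finrank_span_singleton (ha0 i b))
    (fun i b => (Submodule.span_singleton_le_iff_mem _ _).2 (ha i b))
    (fun i b => nondegOn_iff.2 (eq_bot_iff.2 (by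
      rintro x ⟨hx, hx'⟩
      obtain ⟨s, rfl⟩ := Submodule.mem_span_singleton.1 hx
      have h1 := mem_orth.1 hx' _ (Submodule.mem_span_singleton_self (a i b))
      rw [map_smul, H43.polB_self, hqa, smul_eq_mul] at h1
      rw [Submodule.mem_bot, (mul_eq_zero.1 h1).resolve_right (mul_ne_zero h2 hc), zero_smul])))
    (fun i b b' hb x hx y hy => by
      obtain ⟨s, rfl⟩ := Submodule.mem_span_singleton.1 hx
      obtain ⟨s', rfl⟩ := Submodule.mem_span_singleton.1 hy
      rw [map_smul, map_smul, LinearMap.smul_apply, ho i b b' hb, smul_zero, smul_zero])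
    (fun g hg i j hij b => by
      obtain ⟨b', l, hl⟩ := hall j _ (hij ▸ Submodule.mem_map_of_mem (ha i b) :
        Matrix.toLin' (g : Matrix ι ι F) (a i b) ∈ D j) (by rw [Matrix.toLin'_apply, hH g hg, hqa])
      refine ⟨b', ?_⟩
      rw [Submodule.map_span, Set.image_singleton, hl, Submodule.span_singleton_le_iff_mem]
      exact Submodule.smul_mem _ _ (Submodule.mem_span_singleton_self _))
  exact ⟨D', orth_of_irr hirr hH hD' hle, hle⟩

/-- A basis over a subfield permuted rationally gives a subfield structure. -/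
theorem subfield_of_basis {κ : Type*} [Fintype κ] (d : κ → V) (hli : LinearIndependent F d)
    (hcard : Fintype.card κ = Fintype.card ι) (F₀ : Subfield F) (ζ : F)
    (hq0 : ∀ u : κ → F, (∀ i, u i ∈ F₀) → ζ * q (∑ i, u i • d i) ∈ F₀)
    (hmove : ∀ g ∈ H, ∀ j, ∃ u : κ → F, (∀ i, u i ∈ F₀) ∧ (g : Matrix ι ι F) *ᵥ d j = ∑ i, u i • d i) :
    ∃ P : GL ι F, IsQuadFormRationalStructure (fun v => ζ * q v) F₀ P ∧ H ≤ subfieldSubgroup F₀ P := by
  classical
  let ε : ι ≃ κ := Fintype.equivOfCardEq hcard.symm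
  let Pm : Matrix ι ι F := Matrix.of fun a j => d (ε j) a
  have hPm : ∀ u : ι → F, Pm *ᵥ u = ∑ j, u j • d (ε j) := fun u => by
    funext a
    simp [Pm, Matrix.mulVec, dotProduct, mul_comm]
  have hreidx : ∀ u : κ → F, Pm *ᵥ (u ∘ ε) = ∑ i, u i • d i := fun u => by
    rw [hPm]
    exact Equiv.sum_comp ε fun i => u i • d i
  have hPu : IsUnit Pm := by
    rw [← Matrix.mulVec_injective_iff_isUnit]
    intro u v huv
    have h1 : ∑ j, (u j - v j) • d (ε j) = 0 := by
      simp only [sub_smul, Finset.sum_sub_distrib, ← hPm]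
      exact sub_eq_zero.2 huv
    funext j
    exact sub_eq_zero.1 (Fintype.linearIndependent_iff.1 (hli.comp _ ε.injective) _ h1 j)
  set P : GL ι F := hPu.unit
  have hPv : (P : Matrix ι ι F) = Pm := IsUnit.unit_spec hPu
  refine ⟨P, fun u hu => ?_, fun g hg => ?_⟩
  · show ζ * q ((P : Matrix ι ι F) *ᵥ u) ∈ F₀
    have e : u = (u ∘ ε.symm) ∘ ε := by funext j; simp
    rw [hPv, e, hreidx]
    exact hq0 _ fun i => hu _
  have hcol : ∀ j i, (((P⁻¹ * g * P : GL ι F)) : Matrix ι ι F) i j ∈ F₀ := by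
    intro j i
    obtain ⟨u, hu, hgu⟩ := hmove g hg (ε j)
    have hsingle : (P : Matrix ι ι F) *ᵥ Pi.single j 1 = d (ε j) := by
      funext a; simp [hPv, Pm, Matrix.mulVec_single_one]
    have h4 : (((P⁻¹ * g * P : GL ι F)) : Matrix ι ι F) *ᵥ Pi.single j 1 = u ∘ ε := by
      rw [Units.val_mul, Units.val_mul, ← Matrix.mulVec_mulVec, ← Matrix.mulVec_mulVec, hsingle, hgu, ← hreidx u,
        ← hPv, Matrix.mulVec_mulVec, ← Units.val_mul, inv_mul_cancel, Units.val_one, Matrix.one_mulVec]
    have h5 := congrFun h4 i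
    rw [Matrix.mulVec_single_one, Matrix.col_apply] at h5
    rw [h5]
    exact hu _
  set M₁ : Matrix ι ι F₀ := fun i j => ⟨_, hcol j i⟩
  have hM₁ : M₁.map (F₀.subtype : F₀ →+* F) = (((P⁻¹ * g * P : GL ι F)) : Matrix ι ι F) := rfl
  have hMu : IsUnit M₁.det := by
    rw [isUnit_iff_ne_zero]
    intro h0
    have h6 := congrArg (F₀.subtype : F₀ →+* F) h0
    rw [RingHom.map_det, map_zero, RingHom.mapMatrix_apply, hM₁] at h6
    exact ((Matrix.isUnit_iff_isUnit_det _).1 (P⁻¹ * g * P).isUnit).ne_zero h6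
  refine Subgroup.mem_map.2 ⟨P⁻¹ * g * P, Subgroup.mem_sup_left
    ⟨((Matrix.isUnit_iff_isUnit_det _).2 hMu).unit, Units.ext hM₁⟩, ?_⟩
  simp [mul_assoc]

end OE

end H98
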