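import Cfsg.Agent.H98.OrthEven.Basic
import Cfsg.Agent.H38.WittType

/-!
The type of an even-dimensional space from an orthogonal decomposition into isometric summands.
-/

set_option autoImplicit false
set_option linter.unusedSectionVars false
set_option linter.style.haveILetI false

open Cfsg.Geo
open scoped Matrix MatrixGroups

namespace H98

namespace OE

variable {ι : Type} [Fintype ι] [DecidableEq ι] {F : Type*} [Field F] [Fintype F]
variable {q : QuadraticForm F (ι → F)}

local notation "V" => (ι → F)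

/-- The plus type read from the discriminant. -/
theorem plus_iff_disc (hq : (H43.polB q).Nondegenerate) (h2 : (2 : F) ≠ 0) {m : ℕ} (hm : Fintype.card ι = 2 * m)
    {κ : Type*} [Fintype κ] [DecidableEq κ] (b : Module.Basis κ F V) :
    IsPlusTypeOn ⇑q ⊤ ↔
      IsSquare ((-1) ^ m * (Matrix.of fun i j => H43.polB q (b i) (b j)).det) := by
  rw [← H38.exists_half_isotropic_iff h2 (H43.polB q) ⟨fun x y => H43.polB_comm x y⟩
    (by rw [Module.finrank_pi]; exact hm) b (H38.gram_det_ne_zero' _ hq b)]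
  constructor
  · rintro ⟨U, -, hU, hdim⟩
    rw [finrank_top, Module.finrank_pi] at hdim
    exact ⟨U, by omega, fun x hx y hy => H43.polB_eq_zero_of_singular hU hx hy⟩
  · rintro ⟨X, hX, hX0⟩
    refine ⟨X, le_top, tsQuad_of_tsFor h2 fun u hu v hv => ?_, by rw [hX, finrank_top, Module.finrank_pi, hm]⟩
    rw [← H43.polB_apply]
    exact hX0 u hu v hv

/-- The plus type of a subspace read from its discriminant. -/
theorem plusOn_iff_disc (hq : (H43.polB q).Nondegenerate) (h2 : (2 : F) ≠ 0) {W : Submodule F V}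
    (hW : W ⊓ (H43.polB q).orthogonal W = ⊥) {j : ℕ} (hj : Module.finrank F W = 2 * j)
    {κ : Type*} [Fintype κ] [DecidableEq κ] (b : Module.Basis κ F W) :
    IsPlusTypeOn ⇑q W ↔
      IsSquare ((-1) ^ j * (Matrix.of fun i l => H43.polB q (b i : V) (b l : V)).det) := by
  have hnd := H43.restrict_nondeg W hW
  have h := H38.exists_half_isotropic_iff h2 (H43.polB (q.restrict W)) ⟨fun x y => H43.polB_comm x y⟩
    hj b (H38.gram_det_ne_zero' _ hnd b)
  simp only [H43.polB_restrict] at h
  rw [← h]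
  constructor
  · rintro ⟨U, hUW, hU, hdim⟩
    refine ⟨U.comap W.subtype, ?_, fun x hx y hy => H43.polB_eq_zero_of_singular hU hx hy⟩
    rw [(Submodule.comapSubtypeEquivOfLe hUW).finrank_eq]
    omega
  · rintro ⟨X, hX, hX0⟩
    refine ⟨X.map W.subtype, ?_, tsQuad_of_tsFor h2 ?_, ?_⟩
    · rintro _ ⟨x, -, rfl⟩
      exact x.2
    · rintro _ ⟨x, hx, rfl⟩ _ ⟨y, hy, rfl⟩
      rw [← H43.polB_apply]
      exact hX0 x hx y hy
    · rw [Submodule.finrank_map_subtype_eq, hX, hj]

variable {t k : ℕ} {D : Fin t → Submodule F (ι → F)}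

theorem card_eq_mul (hD : IsMDecomposition k D) : Fintype.card ι = t * k := by
  classical
  have hint : DirectSum.IsInternal D :=
    DirectSum.isInternal_submodule_of_iSupIndep_of_iSup_eq_top hD.indep hD.iSup_eq_top
  rw [← Module.finrank_fintype_fun_eq_card F, Module.finrank_eq_card_basis
    (hint.collectedBasis fun i => Module.finBasisOfFinrankEq F (D i) (hD.finrank_eq i))]
  simp

/-- The discriminant of a decomposition into isometric summands is a power of the one of a summand. -/
theorem decomp_disc (hq : (H43.polB q).Nondegenerate) (h2 : (2 : F) ≠ 0) (hD : IsOrthogonalMDecomposition ⇑q k D)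
    {m : ℕ} (hm : Fintype.card ι = 2 * m) :
    ∃ d : F, d ≠ 0 ∧ (IsPlusTypeOn ⇑q ⊤ ↔ IsSquare ((-1) ^ m * d ^ t)) ∧
      ∀ j, k = 2 * j → ∀ i, (IsPlusTypeOn ⇑q (D i) ↔ IsSquare ((-1) ^ j * d)) := by
  classical
  have h2t := hD.decomp.decomp.two_le
  set i0 : Fin t := ⟨0, by omega⟩
  choose e he using fun i => hD.isometric i0 i
  let b0 := Module.finBasisOfFinrankEq F (D i0) (hD.decomp.decomp.finrank_eq i0)
  let bi : ∀ i, Module.Basis (Fin k) F (D i) := fun i => b0.map (e i)
  have hgram : ∀ i a c, H43.polB q (bi i a : V) (bi i c : V) = H43.polB q (b0 a : V) (b0 c : V) := by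
    intro i a c
    simp only [H43.polB_apply, QuadraticMap.polar, bi, Module.Basis.map_apply, ← Submodule.coe_add, ← map_add, he]
  set d := (Matrix.of fun a c => H43.polB q (b0 a : V) (b0 c : V)).det with hd
  have hd0 : d ≠ 0 := by
    have hnd := H43.restrict_nondeg (D i0) (nondegOn_iff.1 (hD.decomp.nondegenerate i0))
    have h := H38.gram_det_ne_zero' _ hnd b0
    simpa only [H43.polB_restrict] using h
  have hint : DirectSum.IsInternal D :=
    DirectSum.isInternal_submodule_of_iSupIndep_of_iSup_eq_top hD.decomp.decomp.indep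
      hD.decomp.decomp.iSup_eq_top
  let b := (hint.collectedBasis bi).reindex ((Equiv.sigmaEquivProd (Fin t) (Fin k)).trans (Equiv.prodComm _ _))
  have hb : ∀ x : Fin k × Fin t, b x = (bi x.2 x.1 : V) := fun x => by
    simp [b, DirectSum.IsInternal.collectedBasis_coe]
    rfl
  have hG : (Matrix.of fun x y => H43.polB q (b x) (b y)) =
      Matrix.blockDiagonal fun _ : Fin t => Matrix.of fun a c => H43.polB q (b0 a : V) (b0 c : V) := by
    ext ⟨a, i⟩ ⟨c, l⟩
    rw [Matrix.blockDiagonal_apply, Matrix.of_apply, hb, hb]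
    split_ifs with hil
    · obtain rfl : i = l := hil
      exact hgram i a c
    · exact hD.decomp.orthogonal i l hil _ (bi i a).2 _ (bi l c).2
  refine ⟨d, hd0, ?_, fun j hj i => ?_⟩
  · rw [plus_iff_disc hq h2 hm b, hG, Matrix.det_blockDiagonal, Finset.prod_const, Finset.card_univ,
      Fintype.card_fin]
  · rw [plusOn_iff_disc hq h2 (nondegOn_iff.1 (hD.decomp.nondegenerate i))
      ((hD.decomp.decomp.finrank_eq i).trans hj) (bi i)]
    simp only [hgram]
    rfl

theorem isSquare_pow_odd_iff {x : F} {s : ℕ} (hs : Odd s) : IsSquare (x ^ s) ↔ IsSquare x := by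
  obtain ⟨r, rfl⟩ := hs
  rcases eq_or_ne x 0 with rfl | hx
  · simp
  rw [pow_succ, pow_mul, ← pow_mul, mul_comm 2 r, pow_mul, H44.isSquare_sq_mul_iff (pow_ne_zero _ hx)]

/-- A value of the form on an orthogonal sum. -/
theorem qmap_sum {κ : Type*} (s : Finset κ) (x : κ → V)
    (hx : ∀ a ∈ s, ∀ b ∈ s, a ≠ b → H43.polB q (x a) (x b) = 0) : q (∑ a ∈ s, x a) = ∑ a ∈ s, q (x a) := by
  classical
  induction s using Finset.induction with
  | empty => simp
  | insert a s ha ih =>
    rw [Finset.sum_insert ha, Finset.sum_insert ha, H43.qmap_add,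
      ih fun c hc b hb => hx c (Finset.mem_insert_of_mem hc) b (Finset.mem_insert_of_mem hb), map_sum,
      Finset.sum_eq_zero fun b hb => hx a (Finset.mem_insert_self a s) b (Finset.mem_insert_of_mem hb)
        (fun e => ha (e ▸ hb)), add_zero]

/-- In characteristic two, pairs of isometric summands give a singular diagonal. -/
theorem diag_singular (hq : (H43.polB q).Nondegenerate) (h2 : (2 : F) = 0)
    (hD : IsOrthogonalMDecomposition ⇑q k D) {s : ℕ} (hs : 2 * s ≤ t) :
    ∃ S : Submodule F V, IsTotallySingularQuad ⇑q S ∧ Module.finrank F S = s * k ∧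
      ∀ i : Fin t, 2 * s ≤ (i : ℕ) → S ≤ (H43.polB q).orthogonal (D i) := by
  classical
  have h2t := hD.decomp.decomp.two_le
  set i0 : Fin t := ⟨0, by omega⟩
  choose e he using fun i => hD.isometric i0 i
  let l : Fin s → Fin t := fun a => ⟨2 * (a : ℕ), by omega⟩
  let r : Fin s → Fin t := fun a => ⟨2 * (a : ℕ) + 1, by omega⟩
  let φ : (Fin s → D i0) →ₗ[F] V :=
    ∑ a : Fin s, ((D (l a)).subtype.comp (e (l a)).toLinearMap + (D (r a)).subtype.comp (e (r a)).toLinearMap).comp
      (LinearMap.proj a)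
  have hφ : ∀ x, φ x = ∑ a : Fin s, ((e (l a) (x a) : V) + (e (r a) (x a) : V)) := fun x => by
    simp [φ, LinearMap.sum_apply]
  have horth : ∀ {i j : Fin t}, i ≠ j → ∀ u ∈ D i, ∀ v ∈ D j, H43.polB q u v = 0 :=
    fun hij u hu v hv => hD.decomp.orthogonal _ _ hij u hu v hv
  have hne : ∀ {i j : Fin t}, (i : ℕ) ≠ j → i ≠ j := fun h e => h (congrArg Fin.val e)
  refine ⟨LinearMap.range φ, ?_, ?_, ?_⟩
  · rintro _ ⟨x, rfl⟩
    rw [hφ, qmap_sum]
    · refine Finset.sum_eq_zero fun a _ => ?_
      rw [H43.qmap_add, he, he, horth (hne (by simp [l, r])) _ (e _ _).2 _ (e _ _).2, add_zero, ← two_mul, h2,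
        zero_mul]
    · intro a _ b _ hab
      have hab' : (a : ℕ) ≠ b := fun h => hab (Fin.ext h)
      simp only [map_add, LinearMap.add_apply]
      rw [horth (hne (by simp [l]; omega)) _ (e _ _).2 _ (e _ _).2,
        horth (hne (by simp [l, r]; omega)) _ (e _ _).2 _ (e _ _).2,
        horth (hne (by simp [l, r]; omega)) _ (e _ _).2 _ (e _ _).2,
        horth (hne (by simp [r]; omega)) _ (e _ _).2 _ (e _ _).2]
      simp
  · rw [LinearMap.finrank_range_of_inj, Module.finrank_pi_fintype]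
    · simp [hD.decomp.decomp.finrank_eq i0]
    rw [← LinearMap.ker_eq_bot, LinearMap.ker_eq_bot']
    intro x hx
    funext a
    have hz : (e (l a) (x a) : D (l a)) = 0 := by
      by_contra hc
      obtain ⟨y, hy, hy0⟩ := (hD.decomp.nondegenerate (l a) _ (e (l a) (x a)).2 fun h => hc (Subtype.ext h)).2
      apply hy0
      have h1 : H43.polB q (φ x) y = 0 := by rw [hx]; simp
      rw [hφ, map_sum, LinearMap.sum_apply, Finset.sum_eq_single a] at h1
      · rw [map_add, LinearMap.add_apply, horth (hne (by simp [l, r])) (e (r a) (x a) : V) (e _ _).2 y hy,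
          add_zero] at h1
        exact h1
      · intro b _ hb
        have hb' : (b : ℕ) ≠ a := fun h => hb (Fin.ext h)
        rw [map_add, LinearMap.add_apply, horth (hne (by simp [l]; omega)) _ (e _ _).2 y hy,
          horth (hne (by simp [l, r]; omega)) _ (e _ _).2 y hy, add_zero]
      · simp
    exact (e (l a)).injective (by rw [hz]; simp)
  · intro i hi
    rintro _ ⟨x, rfl⟩
    refine mem_orth.2 fun w hw => ?_
    rw [hφ, map_sum]
    refine Finset.sum_eq_zero fun a _ => ?_
    rw [map_add, horth (hne (by simp [l]; omega)) w hw _ (e _ _).2,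
      horth (hne (by simp [r]; omega)) w hw _ (e _ _).2, add_zero]

/-- An even number of isometric summands. -/
theorem decomp_even (hq : (H43.polB q).Nondegenerate) (hD : IsOrthogonalMDecomposition ⇑q k D) (ht : Even t)
    {m : ℕ} (hm : Fintype.card ι = 2 * m) :
    ((2 : F) = 0 → IsPlusTypeOn ⇑q ⊤) ∧ ((2 : F) ≠ 0 → (IsPlusTypeOn ⇑q ⊤ ↔ IsSquare ((-1 : F) ^ m))) := by
  obtain ⟨s, rfl⟩ := ht
  refine ⟨fun h2 => ?_, fun h2 => ?_⟩
  · obtain ⟨S, hS, hdim, -⟩ := diag_singular hq h2 hD (s := s) (by omega)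
    refine ⟨S, le_top, hS, ?_⟩
    rw [hdim, finrank_top, Module.finrank_pi, card_eq_mul hD.decomp.decomp]
    ring
  · obtain ⟨d, hd, h, -⟩ := decomp_disc hq h2 hD hm
    rw [h, ← two_mul, mul_comm ((-1 : F) ^ m), mul_comm 2 s, pow_mul, H44.isSquare_sq_mul_iff (pow_ne_zero _ hd)]

theorem decomp_plus (hq : (H43.polB q).Nondegenerate) (hD : IsOrthogonalMDecomposition ⇑q k D) (ht : Even t)
    {m : ℕ} (hm : Fintype.card ι = 2 * m) (hme : Even m) : IsPlusTypeOn ⇑q ⊤ := by
  by_cases h2 : (2 : F) = 0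
  · exact (decomp_even hq hD ht hm).1 h2
  · exact ((decomp_even hq hD ht hm).2 h2).2 (by rw [hme.neg_one_pow]; exact IsSquare.one)

/-- An odd number of isometric summands of even dimension. -/
theorem decomp_odd (hq : (H43.polB q).Nondegenerate) (hD : IsOrthogonalMDecomposition ⇑q k D) (ht : Odd t)
    {j : ℕ} (hk : k = 2 * j) (i : Fin t) : IsPlusTypeOn ⇑q ⊤ ↔ IsPlusTypeOn ⇑q (D i) := by
  have hc := card_eq_mul hD.decomp.decomp
  by_cases h2 : (2 : F) = 0
  · obtain ⟨s, hs⟩ := ht
    obtain ⟨S, hS, hdim, hperp⟩ := diag_singular hq h2 hD (s := s) (by omega)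
    set last : Fin t := ⟨2 * s, by omega⟩
    have hiso := fun a b => hD.isometric a b
    have hsum : 2 * Module.finrank F S + Module.finrank F (D last) = Fintype.card ι := by
      rw [hdim, hD.decomp.decomp.finrank_eq, hc, hs]
      ring
    have hnd := nondegOn_iff.1 (hD.decomp.nondegenerate last)
    constructor
    · intro hp
      exact plus_of_isometric (hiso last i) (plus_split hq hp hnd hS (hperp last le_rfl) hsum)
    · intro hp
      exact plus_sum hnd (plus_of_isometric (hiso i last) hp) hS (hperp last le_rfl) hsum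
  · obtain ⟨d, hd, h, hb⟩ := decomp_disc hq h2 hD (m := t * j) (by rw [hc, hk]; ring)
    rw [h, hb j hk i, mul_comm t j, pow_mul, ← mul_pow, isSquare_pow_odd_iff ht]

/-- An odd-dimensional non-degenerate subspace: a totally singular subspace and a vector orthogonal to it. -/
theorem odd_parts (hq : (H43.polB q).Nondegenerate) {W : Submodule F V}
    (hW : W ⊓ (H43.polB q).orthogonal W = ⊥) {j : ℕ} (hj : Module.finrank F W = 2 * j + 1) :
    ∃ (c : F) (x : V) (S : Submodule F V) (φ : W ≃ₗ[F] (Unit ⊕ (Fin j ⊕ Fin j) → F)), c ≠ 0 ∧ x ∈ W ∧ S ≤ W ∧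
      IsTotallySingularQuad ⇑q S ∧ Module.finrank F S = j ∧ q x = c ∧ (∀ v ∈ S, H43.polB q x v = 0) ∧
      ∀ w : W, q (w : V) =
        c * φ w (.inl ()) ^ 2 + ∑ i : Fin j, φ w (.inr (.inl i)) * φ w (.inr (.inr i)) := by
  classical
  have hsep : H44.PolarSep (q.restrict W) := fun x hx => (H43.restrict_nondeg W hW).1 x hx
  obtain ⟨c, φ, hc, hφ⟩ := H44.equiv_odd hj (q.restrict W) hsep
  have hφ' : ∀ w : W, q (w : V) =
      c * φ w (.inl ()) ^ 2 + ∑ i : Fin j, φ w (.inr (.inl i)) * φ w (.inr (.inr i)) := hφ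
  set x : W := φ.symm (Pi.single (.inl ()) 1)
  let L : (Fin j → F) →ₗ[F] (Unit ⊕ (Fin j ⊕ Fin j) → F) :=
    { toFun := fun u => Sum.elim 0 (Sum.elim u 0)
      map_add' := fun u v => by ext (i | i | i) <;> simp
      map_smul' := fun a u => by ext (i | i | i) <;> simp }
  let f : (Fin j → F) →ₗ[F] V := W.subtype.comp (φ.symm.toLinearMap.comp L)
  have hLinj : Function.Injective L := fun u v h => funext fun i => congrFun h (.inr (.inl i))
  have hf : Function.Injective f := Subtype.val_injective.comp (φ.symm.injective.comp hLinj)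
  have hval : ∀ z, q ((φ.symm z : W) : V) = c * z (.inl ()) ^ 2 + ∑ i : Fin j, z (.inr (.inl i)) * z (.inr (.inr i)) :=
    fun z => by rw [hφ']; simp
  refine ⟨c, x, LinearMap.range f, φ, hc, x.2, ?_, ?_, ?_, ?_, ?_, hφ'⟩
  · rintro _ ⟨u, rfl⟩
    exact Subtype.mem _
  · rintro _ ⟨u, rfl⟩
    refine (hval (L u)).trans ?_
    simp [L]
  · rw [LinearMap.finrank_range_of_inj hf, Module.finrank_fintype_fun_eq_card, Fintype.card_fin]
  · rw [hval]; simp
  · rintro _ ⟨u, rfl⟩
    rw [H43.polB_apply, QuadraticMap.polar]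
    show q ((x : V) + ((φ.symm (L u) : W) : V)) - q (x : V) - q ((φ.symm (L u) : W) : V) = 0
    rw [← Submodule.coe_add, ← map_add, hval, hval, hval]
    simp [L]

/-- Two orthogonal odd-dimensional halves. -/
theorem split_odd (hq : (H43.polB q).Nondegenerate) (h2 : (2 : F) ≠ 0) {D : Fin 2 → Submodule F V} {j : ℕ}
    (hD : IsNondegenerateMDecomposition (QuadraticMap.polar ⇑q) (2 * j + 1) D)
    (hn : ¬ AreIsometricFor ⇑q (D 0) (D 1)) : IsPlusTypeOn ⇑q ⊤ ↔ ¬ IsSquare (-1 : F) := by
  classical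
  have hc := card_eq_mul hD.decomp
  obtain ⟨c, x, S, φ, hc0, hxW, hSW, hS, hSd, hqx, hxS, hφ⟩ :=
    odd_parts hq (nondegOn_iff.1 (hD.nondegenerate 0)) (hD.decomp.finrank_eq 0)
  obtain ⟨c', x', S', φ', hc0', hxW', hSW', hS', hSd', hqx', hxS', hφ'⟩ :=
    odd_parts hq (nondegOn_iff.1 (hD.nondegenerate 1)) (hD.decomp.finrank_eq 1)
  have hns : ¬ IsSquare (c' / c) := by
    rintro ⟨s, hs⟩
    have hs0 : s ≠ 0 := fun h => div_ne_zero hc0' hc0 (by rw [hs, h, mul_zero])
    -- rescale the anisotropic coordinate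
    let σ : (Unit ⊕ (Fin j ⊕ Fin j) → F) ≃ₗ[F] (Unit ⊕ (Fin j ⊕ Fin j) → F) :=
      { toFun := fun z => Sum.elim (fun u => s⁻¹ * z (.inl u)) fun i => z (.inr i)
        map_add' := fun u v => by ext (i | i) <;> simp [mul_add]
        map_smul' := fun a u => by ext (i | i) <;> simp [mul_left_comm]
        invFun := fun z => Sum.elim (fun u => s * z (.inl u)) fun i => z (.inr i)
        left_inv := fun z => by ext (i | i) <;> simp [hs0]
        right_inv := fun z => by ext (i | i) <;> simp [hs0] }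
    apply hn
    refine ⟨φ.trans (σ.trans φ'.symm), fun w => ?_⟩
    rw [hφ', hφ]
    simp only [LinearEquiv.trans_apply, LinearEquiv.apply_symm_apply]
    show c' * (s⁻¹ * φ w (.inl ())) ^ 2 + _ = _
    rw [show c' = c * (s * s) by rw [← hs]; field_simp]
    simp [σ]
    field_simp
  have o : ∀ u ∈ D 0, ∀ v ∈ D 1, H43.polB q u v = 0 := fun u hu v hv => hD.orthogonal 0 1 (by decide) u hu v hv
  have o' : ∀ u ∈ D 1, ∀ v ∈ D 0, H43.polB q u v = 0 := fun u hu v hv => by
    rw [H43.polB_comm]; exact o v hv u hu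
  have hxx : H43.polB q x x' = 0 := o x hxW x' hxW'
  set P : Submodule F V := Submodule.span F {x, x'}
  have hmem : ∀ v ∈ P, ∃ a b : F, v = a • x + b • x' := fun v hv => by
    obtain ⟨a, b, rfl⟩ := Submodule.mem_span_pair.1 hv
    exact ⟨a, b, rfl⟩
  have hval : ∀ a b : F, q (a • x + b • x') = a * a * c + b * b * c' := fun a b => by
    rw [H43.qmap_add, H43.qmap_smul, H43.qmap_smul, hqx, hqx']
    simp [hxx]
  have hpair : ∀ a b : F, H43.polB q (a • x + b • x') x = a * (2 * c) ∧
      H43.polB q (a • x + b • x') x' = b * (2 * c') := fun a b => by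
    simp [H43.polB_self, hqx, hqx', hxx, H43.polB_comm x' x]
  have hP : P ⊓ (H43.polB q).orthogonal P = ⊥ := by
    rw [eq_bot_iff]
    rintro v ⟨hv, hv'⟩
    obtain ⟨a, b, rfl⟩ := hmem v hv
    have e1 := mem_orth.1 hv' x (Submodule.subset_span (by simp))
    have e2 := mem_orth.1 hv' x' (Submodule.subset_span (by simp))
    rw [H43.polB_comm, (hpair a b).1] at e1
    rw [H43.polB_comm, (hpair a b).2] at e2
    simp [(mul_eq_zero.1 e1).resolve_right (mul_ne_zero h2 hc0), (mul_eq_zero.1 e2).resolve_right (mul_ne_zero h2 hc0')]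
  have hPd : Module.finrank F P = 2 := by
    have hli : LinearIndependent F ![x, x'] := by
      rw [LinearIndependent.pair_iff]
      intro a b hab
      have e1 := (hpair a b).1
      have e2 := (hpair a b).2
      rw [hab, map_zero, LinearMap.zero_apply] at e1 e2
      exact ⟨(mul_eq_zero.1 e1.symm).resolve_right (mul_ne_zero h2 hc0),
        (mul_eq_zero.1 e2.symm).resolve_right (mul_ne_zero h2 hc0')⟩
    have := finrank_span_eq_card hli
    rwa [Matrix.range_cons_cons_empty, Fintype.card_fin] at this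
  have hSS : IsTotallySingularQuad ⇑q (S ⊔ S') := by
    intro w hw
    obtain ⟨a, ha, b, hb, rfl⟩ := Submodule.mem_sup.1 hw
    rw [H43.qmap_add, hS a ha, hS' b hb, o a (hSW ha) b (hSW' hb), add_zero, add_zero]
  have hSP : S ⊔ S' ≤ (H43.polB q).orthogonal P := by
    intro w hw
    obtain ⟨a, ha, b, hb, rfl⟩ := Submodule.mem_sup.1 hw
    refine mem_orth.2 fun v hv => ?_
    obtain ⟨s, r, rfl⟩ := hmem v hv
    simp [hxS a ha, hxS' b hb, o x hxW b (hSW' hb), o' x' hxW' a (hSW ha)]
  have hdim : 2 * Module.finrank F ↥(S ⊔ S') + Module.finrank F P = Fintype.card ι := by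
    have h1 := Submodule.finrank_sup_add_finrank_inf_eq S S'
    have h3 : S ⊓ S' = ⊥ := eq_bot_iff.2 fun v hv => by
      have hd := hD.decomp.indep.pairwiseDisjoint (show (0 : Fin 2) ≠ 1 by decide)
      exact hd.le_bot ⟨hSW hv.1, hSW' hv.2⟩
    rw [h3, finrank_bot, hSd, hSd'] at h1
    rw [hPd, hc]
    omega
  constructor
  · intro hp hm1
    obtain ⟨U, hUP, hU, hUd⟩ := plus_split hq hp hP hSS hSP hdim
    obtain ⟨v, hvU, hv0⟩ := U.exists_mem_ne_zero_of_ne_bot fun e => by
      rw [e, finrank_bot, hPd] at hUd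
      omega
    obtain ⟨a, b, rfl⟩ := hmem v (hUP hvU)
    have h0 := hU _ hvU
    rw [hval] at h0
    have hb : b ≠ 0 := fun h => hv0 (by
      have ha : a = 0 := by
        rw [h] at h0
        simpa [hc0] using h0
      simp [ha, h])
    obtain ⟨i, hi⟩ := hm1
    refine hns ⟨i * a / b, ?_⟩
    field_simp
    linear_combination h0 + (c * a ^ 2) * hi
  · intro hm1
    have hne : -c' / c ≠ 0 := div_ne_zero (neg_ne_zero.2 hc0') hc0
    have hsq : IsSquare (-c' / c) := by
      rw [show -c' / c = (-1) * (c' / c) by ring]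
      exact (H44.isSquare_mul_iff (neg_ne_zero.2 one_ne_zero) (div_ne_zero hc0' hc0)).2 (iff_of_false hm1 hns)
    obtain ⟨s, hs⟩ := hsq
    refine plus_sum hP (plus_of_singular_plane hPd (v := s • x + (1 : F) • x') ?_ ?_ ?_) hSS hSP hdim
    · exact Submodule.mem_span_pair.2 ⟨s, 1, rfl⟩
    · intro h
      have e2 := (hpair s 1).2
      rw [h, map_zero, LinearMap.zero_apply, one_mul] at e2
      exact mul_ne_zero h2 hc0' e2.symm
    · rw [hval, ← hs]
      field_simp
      ring

end OE

end H98
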