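import Cfsg.Agent.H98.OrthEven.Disc
import Cfsg.Agent.H51.FormAsch.SpMax

/-!
Fields of operators on an even-dimensional orthogonal space.
-/

set_option autoImplicit false
set_option linter.unusedSectionVars false
set_option linter.style.haveILetI false
set_option maxHeartbeats 800000

open Cfsg.Geo
open scoped Matrix MatrixGroups
open H51.FormAsch (IsAdj SForm sform_polar)

namespace H98

namespace OE

variable {ι : Type} [Fintype ι] [DecidableEq ι] {F : Type*} [Field F] [Fintype F]
variable {q : QuadraticForm F (ι → F)}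

local notation "V" => (ι → F)

theorem isField_sub [Nonempty ι] {r : ℕ} {K : Subalgebra F (Matrix ι ι F)} (hK : IsFieldSubalgebra r K) :
    IsField K :=
  haveI : Nontrivial K := ⟨⟨0, 1, fun h => zero_ne_one (α := Matrix ι ι F) (congrArg Subtype.val h)⟩⟩
  { exists_pair_ne := exists_pair_ne _
    mul_comm := fun a b => Subtype.ext (hK.comm _ a.2 _ b.2)
    mul_inv_cancel := fun {a} ha => by
      obtain ⟨y, hy, h⟩ := hK.inv a.1 a.2 (fun h => ha (Subtype.ext h))
      exact ⟨⟨y, hy⟩, Subtype.ext h⟩ }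

/-- The map from a field of operators to the orbit of a vector. -/
def orbit (K : Subalgebra F (Matrix ι ι F)) (v : V) : K →ₗ[F] V where
  toFun k := (k : Matrix ι ι F) *ᵥ v
  map_add' a b := by rw [AddMemClass.coe_add, Matrix.add_mulVec]
  map_smul' c a := by rw [SetLike.val_smul, Matrix.smul_mulVec, RingHom.id_apply]

theorem orbit_injective {r : ℕ} {K : Subalgebra F (Matrix ι ι F)} (hK : IsFieldSubalgebra r K) {v : V}
    (hv : v ≠ 0) : Function.Injective (orbit K v) := by
  rw [← LinearMap.ker_eq_bot, LinearMap.ker_eq_bot']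
  intro k hk
  by_contra hne
  obtain ⟨y, -, hy⟩ := hK.inv k.1 k.2 fun e => hne (Subtype.ext e)
  apply hv
  have h1 := congrArg (fun z => y *ᵥ z) (show (k : Matrix ι ι F) *ᵥ v = 0 from hk)
  rwa [Matrix.mulVec_mulVec, mul_eq_one_comm.1 hy, Matrix.one_mulVec, Matrix.mulVec_zero] at h1

theorem finrank_orbit {r : ℕ} {K : Subalgebra F (Matrix ι ι F)} (hK : IsFieldSubalgebra r K) {v : V}
    (hv : v ≠ 0) : Module.finrank F (LinearMap.range (orbit K v)) = r := by
  rw [LinearMap.finrank_range_of_inj (orbit_injective hK hv)]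
  exact hK.finrank_eq

theorem mem_orbit {K : Subalgebra F (Matrix ι ι F)} {v x : V} :
    x ∈ LinearMap.range (orbit K v) ↔ ∃ k ∈ K, k *ᵥ v = x :=
  ⟨fun ⟨k, hk⟩ => ⟨k.1, k.2, hk⟩, fun ⟨k, hk, h⟩ => ⟨⟨k, hk⟩, h⟩⟩

/-- Square roots in a field of operators in characteristic two. -/
theorem exists_sqrt [Nonempty ι] (h2 : (2 : F) = 0) {r : ℕ} {K : Subalgebra F (Matrix ι ι F)}
    (hK : IsFieldSubalgebra r K) :
    (∀ k : K, ∃ l : K, l * l = k) ∧ ∀ a b : K, a * a = b * b → a = b := by
  letI : Field K := (isField_sub hK).toField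
  haveI : Finite K := inferInstance
  letI : Fintype K := Fintype.ofFinite K
  have h2K : (2 : K) = 0 := by
    have := congrArg (algebraMap F K) h2
    rwa [map_ofNat, map_zero] at this
  refine ⟨fun k => ?_, fun a b hab => ?_⟩
  · obtain ⟨l, hl⟩ := FiniteField.isSquare_of_char_two
      (CharP.ringChar_of_prime_eq_zero Nat.prime_two (by exact_mod_cast h2K)) k
    exact ⟨l, hl.symm⟩
  · have : (a - b) * (a - b) = 0 := by linear_combination hab + (b * b - a * b) * h2K
    exact sub_eq_zero.1 (mul_self_eq_zero.1 this)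

/-- In characteristic two a self-adjoint field acts alternately. -/
theorem alt_of_selfAdjoint [Nonempty ι] (h2 : (2 : F) = 0) {r : ℕ} {K : Subalgebra F (Matrix ι ι F)}
    (hK : IsFieldSubalgebra r K) (hs : IsSelfAdjointFor (QuadraticMap.polar ⇑q) K) :
    ∀ k ∈ K, ∀ v : V, QuadraticMap.polar ⇑q (k *ᵥ v) v = 0 := by
  intro k hk v
  obtain ⟨l, hl⟩ := (exists_sqrt h2 hK).1 ⟨k, hk⟩
  rw [← show (l : Matrix ι ι F) * l = k from congrArg Subtype.val hl, ← Matrix.mulVec_mulVec, hs _ l.2,
    polar_self, h2, zero_mul]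

theorem polar_symplectic (hq : (H43.polB q).Nondegenerate) (h2 : (2 : F) = 0) :
    IsSymplecticForm (QuadraticMap.polar ⇑q) := by
  have hs := sform_polar hq
  refine ⟨⟨hs.add_left, hs.smul_left, hs.add_right, fun c v x => by rw [hs.smul_right]; rfl⟩, fun v w => ?_,
    fun v => by rw [polar_self, h2, zero_mul], hs.nondegenerate⟩
  rw [QuadraticMap.polar_comm ⇑q w v]
  linear_combination (QuadraticMap.polar ⇑q v w) * h2

theorem two_mul_dvd [Nonempty ι] (hq : (H43.polB q).Nondegenerate) (h2 : (2 : F) = 0) {r : ℕ}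
    {K : Subalgebra F (Matrix ι ι F)} (hK : IsFieldSubalgebra r K)
    (hs : IsSelfAdjointFor (QuadraticMap.polar ⇑q) K) : 2 * r ∣ Fintype.card ι :=
  H51.FormAsch.dvd_half_card (polar_symplectic hq h2) hK hs (alt_of_selfAdjoint h2 hK hs)

/-! ### Quadratic fields, not self-adjoint -/

theorem scalar_of_self [Nonempty ι] (hq : (H43.polB q).Nondegenerate) {K : Subalgebra F (Matrix ι ι F)}
    (hK : IsFieldSubalgebra 2 K) (hns : ¬ IsSelfAdjointFor (QuadraticMap.polar ⇑q) K) {x : Matrix ι ι F}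
    (hx : x ∈ K) (hxx : IsAdj (QuadraticMap.polar ⇑q) x x) : ∃ c : F, x = c • 1 := by
  by_contra h
  push Not at h
  apply hns
  have hs := sform_polar hq
  have hli : LinearIndependent F ![(1 : K), ⟨x, hx⟩] := by
    refine LinearIndependent.pair_iff.2 fun a b hab => ?_
    have hab' : a • (1 : Matrix ι ι F) + b • x = 0 := congrArg Subtype.val hab
    have hb : b = 0 := by
      by_contra hb
      refine h (-(a / b)) ?_
      have h1 := congrArg (b⁻¹ • ·) hab'
      simp only [smul_add, smul_smul, inv_mul_cancel₀ hb, one_smul, smul_zero] at h1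
      rw [eq_neg_of_add_eq_zero_right h1, ← neg_smul, div_eq_inv_mul]
    refine ⟨?_, hb⟩
    rw [hb, zero_smul, add_zero] at hab'
    exact (smul_eq_zero.1 hab').resolve_right one_ne_zero
  have hspan := hli.span_eq_top_of_card_eq_finrank (by rw [Fintype.card_fin]; exact hK.finrank_eq.symm)
  intro k hk u v
  obtain ⟨a, b, hab⟩ : ∃ a b : F, k = a • 1 + b • x := by
    have hm : (⟨k, hk⟩ : K) ∈ Submodule.span F (Set.range ![(1 : K), ⟨x, hx⟩]) := hspan ▸ Submodule.mem_top
    rw [Matrix.range_cons_cons_empty] at hm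
    obtain ⟨a, b, hab⟩ := Submodule.mem_span_pair.1 hm
    exact ⟨a, b, (congrArg Subtype.val hab).symm⟩
  rw [hab]
  exact hs.adj_add (hs.adj_smul a hs.adj_one) (hs.adj_smul b hxx) u v

/-- A quadratic field closed under adjoints acts by similarities of the quadratic form. -/
theorem unit_scaling (hq : (H43.polB q).Nondegenerate) (hn : 2 ≤ Fintype.card ι)
    {H : Subgroup (GL ι F)} (hH : ∀ g ∈ H, ∀ v, q ((g : Matrix ι ι F) *ᵥ v) = q v) (hirr : Irr H)
    {K : Subalgebra F (Matrix ι ι F)} (hK : IsFieldSubalgebra 2 K)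
    (ha : IsAdjointClosedFor (QuadraticMap.polar ⇑q) K) (hns : ¬ IsSelfAdjointFor (QuadraticMap.polar ⇑q) K)
    (hnorm : H ≤ subalgebraNormalizer K) : ∀ k ∈ K, ∃ c : F, ∀ v : V, q (k *ᵥ v) = c * q v := by
  haveI : Nonempty ι := Fintype.card_pos_iff.1 (by omega)
  have hs := sform_polar hq
  set f := QuadraticMap.polar ⇑q with hf
  intro k hk
  obtain ⟨k', hk', hkk'⟩ := ha k hk
  have hkk'' : IsAdj f k k' := hkk'
  obtain ⟨c, hc⟩ := scalar_of_self hq hK hns (mul_mem hk' hk) (hs.adj_mul (hs.adj_symm hkk'') hkk'')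
  refine ⟨c, fun v => ?_⟩
  by_cases h2 : (2 : F) = 0
  swap
  · have h1 : f (k *ᵥ v) (k *ᵥ v) = c * f v v := by
      rw [hkk', Matrix.mulVec_mulVec, hc, Matrix.smul_mulVec, Matrix.one_mulVec, hs.smul_right]
      rfl
    rw [hf, polar_self, polar_self] at h1
    apply mul_left_cancel₀ h2
    linear_combination h1
  -- an element with trace one
  obtain ⟨x, hx, hxns⟩ : ∃ x ∈ K, ¬ IsAdj f x x := by
    by_contra h
    push Not at h
    exact hns h
  obtain ⟨y, hy, hxy⟩ := ha x hx
  have hxy' : IsAdj f x y := hxy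
  obtain ⟨a, ha'⟩ := scalar_of_self hq hK hns (add_mem hx hy) (by
    have := hs.adj_add hxy' (hs.adj_symm hxy')
    rwa [add_comm y x] at this)
  have ha0 : a ≠ 0 := by
    rintro rfl
    rw [zero_smul] at ha'
    apply hxns
    have e : y = x := by
      rw [eq_neg_of_add_eq_zero_right ha', ← neg_one_smul F x]
      conv_rhs => rw [← one_smul F x]
      congr 1
      linear_combination -h2
    rwa [e] at hxy'
  obtain ⟨θ, hθdef⟩ : ∃ θ, θ = a⁻¹ • x := ⟨_, rfl⟩
  have hθK : θ ∈ K := hθdef ▸ K.smul_mem hx _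
  have hθ : IsAdj f θ (1 - θ) := by
    have e : (1 : Matrix ι ι F) - θ = a⁻¹ • y := by
      have h1 : a⁻¹ • (x + y) = (1 : Matrix ι ι F) := by rw [ha', smul_smul, inv_mul_cancel₀ ha0, one_smul]
      rw [← h1, smul_add, hθdef]
      abel
    rw [e, hθdef]
    exact hs.adj_smul _ hxy'
  -- the form is f (θ v) v
  let D : V → F := fun v => q v - f (θ *ᵥ v) v
  have hDadd : ∀ u v, D (u + v) = D u + D v := by
    intro u v
    have h1 : f (θ *ᵥ v) u = f u v - f (θ *ᵥ u) v := by
      rw [hθ v u, Matrix.sub_mulVec, Matrix.one_mulVec, hs.sub_right, hf, QuadraticMap.polar_comm ⇑q v u,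
        QuadraticMap.polar_comm ⇑q v (θ *ᵥ u)]
    have h3 : q (u + v) = q u + q v + f u v := QuadraticMap.map_add ⇑q u v
    simp only [D, Matrix.mulVec_add, hs.add_left, hs.add_right]
    linear_combination h3 - h1
  have hDsm : ∀ (b : F) v, D (b • v) = b ^ 2 * D v := fun b v => by
    simp only [D, Matrix.mulVec_smul, hs.smul_left, hs.smul_right, RingEquiv.refl_apply, H43.qmap_smul]
    ring
  have hD : ∀ v, D v = 0 := semilinear_eq_zero hirr hn D hDadd hDsm fun g hg w hw => by
    set θ' := H46.glConj g⁻¹ θ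
    have hsim := le_similarity hH (inv_mem hg)
    have hθ'K : θ' ∈ K := by
      have h := (hnorm (inv_mem hg) θ).1 hθK
      rwa [← H46.glConj_apply] at h
    have hθ' : IsAdj f θ' (1 - θ') := by
      have := hs.adj_conj hsim hθ
      rwa [map_sub, map_one] at this
    obtain ⟨b, hb⟩ := scalar_of_self hq hK hns (sub_mem hθ'K hθK) (by
      have := hs.adj_sub hθ' hθ
      rwa [show (1 - θ') - (1 - θ) = -(θ' - θ) by abel, ← neg_one_smul F (θ' - θ),
        show (-1 : F) = 1 by linear_combination -h2, one_smul] at this)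
    obtain ⟨d, hd⟩ := scalar_of_self hq hK hns (mul_mem hθK (sub_mem (one_mem _) hθK))
      (hs.adj_mul hθ (hs.adj_symm hθ) |> fun h => by simpa [hK.comm _ hθK _ (sub_mem (one_mem _) hθK)] using h)
    have hbb : b = 0 ∨ b = 1 := by
      have h1 := congrArg (H46.glConj g⁻¹) hd
      rw [map_mul, map_sub, map_one, map_smul, map_one] at h1
      change θ' * (1 - θ') = _ at h1
      rw [← hd, show θ' = θ + b • 1 by rw [← hb]; abel] at h1
      obtain ⟨i⟩ := ‹Nonempty ι›
      have h4 : (b * (1 - b)) • (1 : Matrix ι ι F) = (2 * b) • θ := by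
        have h5 : (θ + b • (1 : Matrix ι ι F)) * (1 - (θ + b • 1)) =
            θ * (1 - θ) + (b * (1 - b)) • 1 - (2 * b) • θ := by
          simp only [mul_sub, add_mul, sub_mul, mul_add, mul_one, one_mul, Matrix.smul_mul, Matrix.mul_smul,
            smul_smul, sub_smul, smul_add, smul_sub, mul_sub, two_mul, add_smul]
          abel
        rw [h5] at h1
        rw [← sub_eq_zero]
        rw [← sub_eq_zero] at h1
        rw [← h1]
        abel
      rw [h2, zero_mul, zero_smul] at h4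
      rcases mul_eq_zero.1 ((smul_eq_zero.1 h4).resolve_right one_ne_zero) with h | h
      · exact Or.inl h
      · exact Or.inr (sub_eq_zero.1 h).symm
    have hmove : θ *ᵥ ((g : Matrix ι ι F) *ᵥ w) = (g : Matrix ι ι F) *ᵥ (θ' *ᵥ w) := by
      rw [Matrix.mulVec_mulVec, Matrix.mulVec_mulVec, show θ' = ((g⁻¹ : GL ι F) : Matrix ι ι F) * θ *
        (((g⁻¹)⁻¹ : GL ι F) : Matrix ι ι F) from H46.glConj_apply _ _, inv_inv, ← mul_assoc, ← mul_assoc,
        ← Units.val_mul, mul_inv_cancel, Units.val_one, one_mul]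
    have hfw : f (θ' *ᵥ w) w = f (θ *ᵥ w) w := by
      rw [show θ' = θ + b • 1 by rw [← hb]; abel, Matrix.add_mulVec, hs.add_left, Matrix.smul_mulVec,
        Matrix.one_mulVec, hs.smul_left, hf, polar_self, h2, zero_mul, mul_zero, add_zero]
    show q _ - f _ _ = 0
    rw [hH g hg, hmove, hf, isometry_polar (hH g hg), ← hf, hfw]
    exact hw
  have hqv : ∀ v, q v = f (θ *ᵥ v) v := fun v => sub_eq_zero.1 (hD v)
  rw [hqv, hqv, Matrix.mulVec_mulVec, hK.comm _ hθK _ hk, ← Matrix.mulVec_mulVec, hkk', Matrix.mulVec_mulVec,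
    hc, Matrix.smul_mulVec, Matrix.one_mulVec, hs.smul_right]
  rfl

/-- A quadratic field acting by similarities, of odd rank, leaves no half totally singular. -/
theorem not_plus_of_unitary (hq : (H43.polB q).Nondegenerate) {m : ℕ} (hm : Fintype.card ι = 2 * m) (hodd : Odd m)
    {K : Subalgebra F (Matrix ι ι F)} (hK : IsFieldSubalgebra 2 K)
    (ha : IsAdjointClosedFor (QuadraticMap.polar ⇑q) K) (hQ : ∀ k ∈ K, ∃ c : F, ∀ v : V, q (k *ᵥ v) = c * q v) :
    ¬ IsPlusTypeOn ⇑q ⊤ := by
  classical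
  intro hplus
  haveI : Nonempty ι := Fintype.card_pos_iff.1 (by obtain ⟨j, hj⟩ := hodd; omega)
  have hs := sform_polar hq
  let P : Submodule F V → Prop := fun S => IsTotallySingularQuad ⇑q S ∧ (∀ k ∈ K, ∀ v ∈ S, k *ᵥ v ∈ S) ∧
    Even (Module.finrank F S)
  have hP0 : P ⊥ := ⟨fun w hw => by rw [(Submodule.mem_bot F).1 hw, QuadraticMap.map_zero],
    fun k _ v hv => by rw [(Submodule.mem_bot F).1 hv, Matrix.mulVec_zero]; exact zero_mem _,
    by rw [finrank_bot]; exact Even.zero⟩
  haveI : Finite (Submodule F V) := inferInstance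
  obtain ⟨S, ⟨hS, hSK, ⟨s, hsd⟩⟩, hSmax⟩ := (Set.toFinite {S | P S}).exists_maximal ⟨⊥, hP0⟩
  have h1 : Module.finrank F ↥((H43.polB q).orthogonal S) + Module.finrank F ↥S = Fintype.card ι := by
    rw [← Module.finrank_pi F (ι := ι)]; exact H43.finrank_orth_add hq S
  have hle : S ≤ (H43.polB q).orthogonal S :=
    fun x hx => mem_orth.2 fun w hw => H43.polB_eq_zero_of_singular hS hw hx
  -- no singular vector outside
  have hout : ∀ v ∈ (H43.polB q).orthogonal S, q v = 0 → v ∈ S := by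
    intro v hv hqv
    by_contra hvS
    set L := LinearMap.range (orbit K v)
    have hv0 : v ≠ 0 := fun e => hvS (e ▸ zero_mem _)
    have hvL : v ∈ L := mem_orbit.2 ⟨1, one_mem _, Matrix.one_mulVec _⟩
    have hnew : P (S ⊔ L) := by
      refine ⟨?_, ?_, ?_⟩
      · intro w hw
        obtain ⟨a, ha', b, hb, rfl⟩ := Submodule.mem_sup.1 hw
        obtain ⟨k, hk, rfl⟩ := mem_orbit.1 hb
        obtain ⟨c, hc⟩ := hQ k hk
        obtain ⟨k', hk', hkk'⟩ := ha k hk
        have h2 : H43.polB q a (k *ᵥ v) = 0 := by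
          rw [H43.polB_comm, H43.polB_apply, hkk', ← H43.polB_apply, H43.polB_comm]
          exact mem_orth.1 hv _ (hSK k' hk' a ha')
        rw [H43.qmap_add, hS a ha', hc, hqv, mul_zero, h2, add_zero, add_zero]
      · intro k hk w hw
        obtain ⟨a, ha', b, hb, rfl⟩ := Submodule.mem_sup.1 hw
        obtain ⟨l, hl, rfl⟩ := mem_orbit.1 hb
        rw [Matrix.mulVec_add, Matrix.mulVec_mulVec]
        exact Submodule.add_mem_sup (hSK k hk a ha') (mem_orbit.2 ⟨_, mul_mem hk hl, rfl⟩)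
      · have h2 := Submodule.finrank_sup_add_finrank_inf_eq S L
        have h3 : S ⊓ L = ⊥ := by
          rw [eq_bot_iff]
          rintro x ⟨hxS, hxL⟩
          obtain ⟨k, hk, rfl⟩ := mem_orbit.1 hxL
          by_contra hne
          have hk0 : k ≠ 0 := fun e => hne (by rw [e, Matrix.zero_mulVec]; exact zero_mem _)
          obtain ⟨y, hy, hky⟩ := hK.inv k hk hk0
          apply hvS
          have := hSK y hy _ hxS
          rwa [Matrix.mulVec_mulVec, mul_eq_one_comm.1 hky, Matrix.one_mulVec] at this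
        rw [h3, finrank_bot, finrank_orbit hK hv0, hsd] at h2
        exact ⟨s + 1, by omega⟩
    exact hvS (hSmax hnew le_sup_left (Submodule.mem_sup_right hvL))
  -- a complement
  obtain ⟨W, hW⟩ := Submodule.exists_isCompl (S.comap ((H43.polB q).orthogonal S).subtype)
  set W' : Submodule F V := W.map ((H43.polB q).orthogonal S).subtype
  have hW'le : W' ≤ (H43.polB q).orthogonal S := by rintro _ ⟨x, -, rfl⟩; exact x.2
  have hSW' : ∀ x ∈ W', x ∈ S → x = 0 := by
    rintro _ ⟨x, hx, rfl⟩ hxS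
    have : x ∈ (⊥ : Submodule F ↥((H43.polB q).orthogonal S)) := hW.disjoint.le_bot ⟨hxS, hx⟩
    rw [Submodule.mem_bot] at this
    rw [this]; rfl
  have hsup : ∀ x ∈ (H43.polB q).orthogonal S, ∃ a ∈ S, ∃ b ∈ W', a + b = x := by
    intro x hx
    obtain ⟨a, ha', b, hb, hab⟩ := Submodule.mem_sup.1
      (hW.sup_eq_top ▸ Submodule.mem_top : (⟨x, hx⟩ : ↥((H43.polB q).orthogonal S)) ∈ _)
    exact ⟨a, ha', b, ⟨b, hb, rfl⟩, congrArg Subtype.val hab⟩
  have hWd : Module.finrank F W' + Module.finrank F S = Module.finrank F ↥((H43.polB q).orthogonal S) := by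
    rw [Submodule.finrank_map_subtype_eq, ← (Submodule.comapSubtypeEquivOfLe hle).finrank_eq, add_comm]
    exact Submodule.finrank_add_eq_of_isCompl hW
  have hnd : W' ⊓ (H43.polB q).orthogonal W' = ⊥ := by
    rw [eq_bot_iff]
    rintro x ⟨hx, hx'⟩
    rw [Submodule.mem_bot]
    refine hSW' x hx ?_
    rw [← LinearMap.BilinForm.orthogonal_orthogonal hq (H43.polB_isRefl q) S]
    refine mem_orth.2 fun y hy => ?_
    obtain ⟨a, ha', b, hb, rfl⟩ := hsup y hy
    rw [map_add, LinearMap.add_apply, mem_orth.1 hx' b hb, mem_orth.1 (hW'le hx) a ha', add_zero]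
  obtain ⟨U, hUW, hU, hUd⟩ := plus_split hq hplus hnd hS
    (fun a ha' => mem_orth.2 fun w hw => by rw [H43.polB_comm]; exact mem_orth.1 (hW'le hw) a ha') (by omega)
  obtain ⟨j, hj⟩ := hodd
  obtain ⟨u, hu, hu0⟩ := U.exists_mem_ne_zero_of_ne_bot fun e => by
    rw [e, finrank_bot] at hUd
    omega
  exact hu0 (hSW' u (hUW hu) (hout u (hW'le (hUW hu)) (hU u hu)))

end OE

end H98
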