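import Cfsg.Agent.H98.OrthEven.Basic
import Cfsg.Agent.H51.FormAsch.Tensor

/-!
The commutator subgroup of an orthogonal group, in any characteristic, lies in none of the geometric subgroups.
-/

set_option autoImplicit false
set_option linter.unusedSectionVars false
set_option linter.style.haveILetI false

open Cfsg.Geo
open scoped Matrix MatrixGroups Kronecker

namespace H98

namespace OE

open H51.FormAsch (omega_eichler omega_transitive exists_translate unc matCoords_unc)

variable {ι : Type} [Fintype ι] [DecidableEq ι] {F : Type*} [Field F] [Fintype F]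
variable {q : QuadraticForm F (ι → F)}

local notation "V" => (ι → F)

/-- The commutator subgroup is irreducible. -/
theorem omega_irr (hq : (H43.polB q).Nondegenerate) (hn : 5 ≤ Fintype.card ι) : Irr (omegaGL ⇑q) := by
  intro W h
  by_cases hb : W = ⊥
  · exact Or.inl hb
  refine Or.inr ?_
  by_cases hex : ∃ w ∈ W, q w ≠ 0
  · obtain ⟨w, hw, hqw⟩ := hex
    have hval : ∀ v, q v = q w → v ∈ W := fun v hv => by
      obtain ⟨g, hg, hgv⟩ := omega_transitive hq hn hqw hv
      rw [← hgv]
      exact (h hg w).1 hw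
    rw [Submodule.eq_top_iff']
    intro x
    obtain ⟨z₀, hz₀0, hz₀⟩ := H43.exists_singular_ne_zero q (by rwa [Module.finrank_pi])
    refine (Submodule.span_le.2 (fun z (hz : q z = 0) => ?_))
      (H43.mem_span_all_singular hq hz₀0 hz₀ x)
    obtain ⟨a, ha, ha'⟩ := exists_translate hq hn hz hqw
    exact (W.add_mem_iff_right (hval a ha)).1 (hval _ ha')
  · push Not at hex
    exfalso
    obtain ⟨w, hw, hw0⟩ := W.exists_mem_ne_zero_of_ne_bot hb
    have hqw := hex w hw
    obtain ⟨u, hc⟩ := H43.exists_hypPair hq hqw hw0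
    obtain ⟨t, ht⟩ : ∃ t, q t = 1 ∧ H43.polB q u t = 0 ∧ H43.polB q w t = 0 := by
      set U := (H43.polB q).orthogonal (Submodule.span F {w, u})
      have hUnd : (H43.polB (q.restrict U)).Nondegenerate := by
        apply H43.restrict_nondeg
        rw [LinearMap.BilinForm.orthogonal_orthogonal hq (H43.polB_isRefl q), eq_bot_iff]
        rintro x ⟨hx, hx'⟩
        obtain ⟨s, t, rfl⟩ := Submodule.mem_span_pair.mp hx'
        have e1 := hx w (Submodule.subset_span (by simp))
        have e2 := hx u (Submodule.subset_span (by simp))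
        simp only [LinearMap.BilinForm.IsOrtho, map_add, map_smul, smul_eq_mul, hc.pair, hc.symm.pair,
          H43.polB_self, hqw, hc.right, mul_zero, zero_add, add_zero, mul_one] at e1 e2
        simp [e1, e2]
      have hdim : 2 ≤ Module.finrank F U := by
        have h2 := H43.finrank_orth_add hq (Submodule.span F ({w, u} : Set V))
        have h3 : Module.finrank F (Submodule.span F ({w, u} : Set V)) ≤ 2 := by
          classical
          have e : ({w, u} : Set V) = (({w, u} : Finset V) : Set V) := by simp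
          rw [e]
          exact (finrank_span_finset_le_card _).trans Finset.card_le_two
        rw [Module.finrank_pi] at h2
        show 2 ≤ Module.finrank F ↥((H43.polB q).orthogonal _)
        omega
      obtain ⟨t, ht⟩ := H43.exists_qmap_eq hUnd hdim 1 one_ne_zero
      exact ⟨t, ht, t.2 u (Submodule.subset_span (by simp)), t.2 w (Submodule.subset_span (by simp))⟩
    obtain ⟨g, hg, hgx⟩ := omega_eichler hq hn hc.right ht.2.1
    have h1 : (g : Matrix ι ι F) *ᵥ w ∈ W := (h hg w).1 hw
    have h3 := H43.polB_eq_zero_of_singular hex hw h1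
    rw [hgx, hc.pair, ht.2.2, ht.1] at h3
    simp [H43.polB_self, hqw, hc.pair, ht.2.2] at h3

theorem omega_not_subspace (hq : (H43.polB q).Nondegenerate) (hn : 5 ≤ Fintype.card ι) {W : Submodule F V}
    (hb : W ≠ ⊥) (ht : W ≠ ⊤) : ¬ omegaGL ⇑q ≤ subspaceStabilizer W := fun h =>
  (omega_irr hq hn W h).elim hb ht

/-- The commutator subgroup fixes no orthogonal decomposition. -/
theorem omega_not_decomp (hq : (H43.polB q).Nondegenerate) (hn : 5 ≤ Fintype.card ι) {t k : ℕ}
    {D : Fin t → Submodule F V} (hD : IsNondegenerateMDecomposition (QuadraticMap.polar ⇑q) k D)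
    (hbig : k + 3 ≤ Fintype.card ι) : ¬ omegaGL ⇑q ≤ decompositionStabilizer D := by
  intro h
  set i0 : Fin t := ⟨0, by linarith [hD.decomp.two_le]⟩
  obtain ⟨d, hd, hqd⟩ : ∃ d ∈ D i0, q d ≠ 0 := by
    by_contra hcon
    push Not at hcon
    obtain ⟨x, hx, hx0⟩ := (D i0).exists_mem_ne_zero_of_ne_bot fun e => by
      have h1 := hD.decomp.finrank_eq i0
      rw [e, finrank_bot] at h1
      exact absurd hD.decomp.pos (by omega)
    obtain ⟨y, hy, hyx⟩ := (hD.nondegenerate i0 x hx hx0).1
    exact hyx (tsFor_of_tsQuad hcon y hy x hx)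
  set U : Submodule F V := ⨆ (j) (_ : j ≠ i0), D j
  have hdis : Disjoint (D i0) U := hD.decomp.indep i0
  have hdim : 3 ≤ Module.finrank F U := by
    have h1 : D i0 ⊔ U = ⊤ := by
      rw [eq_top_iff, ← hD.decomp.iSup_eq_top]
      refine iSup_le fun j => ?_
      by_cases hj : j = i0
      · exact hj ▸ le_sup_left
      · exact le_sup_of_le_right (le_iSup₂ (f := fun j (_ : j ≠ i0) => D j) j hj)
    have h2 := Submodule.finrank_sup_add_finrank_inf_eq (D i0) U
    rw [h1, hdis.eq_bot, finrank_bot, hD.decomp.finrank_eq, finrank_top, Module.finrank_pi] at h2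
    omega
  obtain ⟨z, hzU, hz0, hz⟩ := H43.exists_singular_in (Q := q) U hdim
  have hdz : H43.polB q d z = 0 :=
    (iSup₂_le fun j hj y hy => mem_orth.2 fun w hw => hD.orthogonal i0 j (Ne.symm hj) w hw y hy :
      U ≤ (H43.polB q).orthogonal (D i0)) hzU d hd
  obtain ⟨g, hg, hgd⟩ := omega_transitive hq hn hqd (v := d + z) (by rw [H43.qmap_add, hz, hdz, add_zero, add_zero])
  obtain ⟨s, hs⟩ := h hg
  have hmem : d + z ∈ D (s i0) := by
    rw [← hs i0, ← hgd]
    exact ⟨d, hd, Matrix.toLin'_apply _ _⟩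
  by_cases hsi : s i0 = i0
  · rw [hsi] at hmem
    exact hz0 (Submodule.disjoint_def.1 hdis z (((D i0).add_mem_iff_right hd).1 hmem) hzU)
  · have h3 : d + z ∈ U := le_iSup₂ (f := fun j (_ : j ≠ i0) => D j) (s i0) hsi hmem
    have h4 := Submodule.disjoint_def.1 hdis d hd ((U.add_mem_iff_left hzU).1 h3)
    exact hqd (by rw [h4, QuadraticMap.map_zero])

/-- A subgroup holding the transformations of two singular vectors holds the commutator subgroup. -/
theorem omega_le_of_singular (hq : (H43.polB q).Nondegenerate) (hn : 5 ≤ Fintype.card ι) {S : Subgroup (GL ι F)}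
    (h : ∀ g ∈ omegaGL ⇑q, ∀ u w : V, q u = 0 → q w = 0 → H43.polB q u w = 0 →
      (∀ x, (g : Matrix ι ι F) *ᵥ x = x + H43.polB q x u • w - H43.polB q x w • u) → g ∈ S) :
    omegaGL ⇑q ≤ S := by
  rw [H45.omegaGL_eq_map] at h ⊢
  rw [Subgroup.map_le_iff_le_comap, H43.commutator_eq_closure_singular hq (by rwa [Module.finrank_pi]),
    Subgroup.closure_le]
  rintro _ ⟨u, w, hu, hw, huw, rfl⟩
  refine h _ ⟨H43.eichler q u w, ?_, rfl⟩ u w hu hw huw fun x => ?_
  · rw [H43.commutator_eq_closure_singular hq (by rwa [Module.finrank_pi])]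
    exact Subgroup.subset_closure ⟨u, w, hu, hw, huw, rfl⟩
  · rw [H45.toGL_apply, H43.eichler_apply hu huw, hw]
    simp

/-- A subspace of dimension at least three meets the fixed space of such a transformation. -/
theorem exists_fixed {g : GL ι F} {u w : V}
    (hg : ∀ x, (g : Matrix ι ι F) *ᵥ x = x + H43.polB q x u • w - H43.polB q x w • u)
    {κ : Type*} [AddCommGroup κ] [Module F κ] [FiniteDimensional F κ] (hκ : 3 ≤ Module.finrank F κ)
    (f : κ →ₗ[F] V) : ∃ y : κ, y ≠ 0 ∧ (g : Matrix ι ι F) *ᵥ f y = f y := by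
  let φ : κ →ₗ[F] F × F := (((H43.polB q).flip u).comp f).prod (((H43.polB q).flip w).comp f)
  have hne : LinearMap.ker φ ≠ ⊥ := fun e => by
    have h1 := LinearMap.finrank_le_finrank_of_injective (LinearMap.ker_eq_bot.1 e)
    rw [Module.finrank_prod, Module.finrank_self] at h1
    omega
  obtain ⟨y, hy, hy0⟩ := Submodule.exists_mem_ne_zero_of_ne_bot hne
  refine ⟨y, hy0, ?_⟩
  have h1 : φ y = 0 := hy
  have ha : H43.polB q (f y) u = 0 := congrArg Prod.fst h1
  have hb : H43.polB q (f y) w = 0 := congrArg Prod.snd h1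
  rw [hg, ha, hb, zero_smul, zero_smul, add_zero, sub_zero]

/-- The commutator subgroup fixes no decomposition into members of dimension at least three. -/
theorem omega_not_big_decomp (hq : (H43.polB q).Nondegenerate) (hn : 5 ≤ Fintype.card ι) {t k : ℕ}
    {D : Fin t → Submodule F V} (hD : IsMDecomposition k D) (hk : 3 ≤ k) :
    ¬ omegaGL ⇑q ≤ decompositionStabilizer D := by
  intro h
  set i0 : Fin t := ⟨0, by linarith [hD.two_le]⟩
  refine omega_not_subspace hq hn (W := D i0) ?_ ?_ (omega_le_of_singular hq hn fun g hg u w _ _ _ hgx => ?_)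
  · intro e
    have h1 := hD.finrank_eq i0
    rw [e, finrank_bot] at h1
    omega
  · intro e
    have h1 : Disjoint (D i0) (D ⟨1, hD.two_le⟩) := hD.indep.pairwiseDisjoint (by simp [i0, Fin.ext_iff])
    rw [e, top_disjoint] at h1
    have h2 := hD.finrank_eq ⟨1, hD.two_le⟩
    rw [h1, finrank_bot] at h2
    omega
  · obtain ⟨s, hs⟩ := h hg
    obtain ⟨y, hy0, hy⟩ := exists_fixed hgx (κ := D i0) (by rw [hD.finrank_eq]; exact hk) (D i0).subtype
    have hfix : s i0 = i0 := by
      by_contra hne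
      have h1 : (g : Matrix ι ι F) *ᵥ (y : V) ∈ D (s i0) := by
        rw [← hs i0]
        exact ⟨y, y.2, Matrix.toLin'_apply _ _⟩
      rw [show (g : Matrix ι ι F) *ᵥ (y : V) = y from hy] at h1
      exact hy0 (Subtype.ext (Submodule.disjoint_def.1 (hD.indep.pairwiseDisjoint (Ne.symm hne)) _ y.2 h1))
    intro v
    have hmap : (D i0).map (Matrix.toLin' (g : Matrix ι ι F)) = D i0 := by rw [hs i0, hfix]
    refine ⟨fun hv => hmap ▸ ⟨v, hv, Matrix.toLin'_apply _ _⟩, fun hv => ?_⟩
    rw [← hmap] at hv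
    obtain ⟨x, hx, hxv⟩ := hv
    rw [Matrix.toLin'_apply] at hxv
    exact mulVec_inj g hxv ▸ hx

/-- The commutator subgroup preserves no tensor decomposition. -/
theorem omega_not_tensor (hq : (H43.polB q).Nondegenerate) (hn : 5 ≤ Fintype.card ι) {n₁ n₂ : ℕ}
    (h1 : 2 ≤ n₁) (h2 : 3 ≤ n₂) (e : ι ≃ Fin n₁ × Fin n₂) (P : GL ι F) :
    ¬ omegaGL ⇑q ≤ tensorProductSubgroup n₁ n₂ e P := by
  intro h
  let pure : (Fin n₁ → F) → (Fin n₂ → F) →ₗ[F] V := fun x =>
    { toFun := fun y => unc e P fun p => x p.1 * y p.2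
      map_add' := fun y y' => by
        simp only [unc, ← Matrix.mulVec_add]
        congr 1
        funext i
        simp [mul_add]
      map_smul' := fun c y => by
        simp only [unc, RingHom.id_apply, ← Matrix.mulVec_smul]
        congr 1
        funext i
        simp [mul_left_comm] }
  have pure_ne : ∀ x y, x ≠ 0 → y ≠ 0 → pure x y ≠ 0 := by
    intro x y hx hy h0
    obtain ⟨i, hi⟩ := Function.ne_iff.1 hx
    obtain ⟨j, hj⟩ := Function.ne_iff.1 hy
    have h3 : (fun p : Fin n₁ × Fin n₂ => x p.1 * y p.2) ∘ e = 0 :=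
      mulVec_inj P (h0.trans (Matrix.mulVec_zero _).symm)
    have h4 := congrFun h3 (e.symm (i, j))
    simp only [Function.comp_apply, Equiv.apply_symm_apply, Pi.zero_apply] at h4
    exact mul_ne_zero hi hj h4
  set x₀ : Fin n₁ → F := Pi.single ⟨0, by omega⟩ 1
  set W := LinearMap.range (pure x₀)
  have hx₀ : x₀ ≠ 0 := by simp [x₀]
  refine omega_not_subspace hq hn (W := W) ?_ ?_ (omega_le_of_singular hq hn fun g hg u w _ _ _ hgx => ?_)
  · intro hb
    have h3 : pure x₀ (Pi.single ⟨0, by omega⟩ 1) ∈ W := ⟨_, rfl⟩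
    rw [hb, Submodule.mem_bot] at h3
    exact pure_ne _ _ hx₀ (by simp) h3
  · intro ht
    have h3 := LinearMap.finrank_range_le (pure x₀)
    rw [show LinearMap.range (pure x₀) = ⊤ from ht, finrank_top, Module.finrank_pi, Module.finrank_pi,
      Fintype.card_congr e, Fintype.card_prod, Fintype.card_fin, Fintype.card_fin] at h3
    have : 2 * n₂ ≤ n₁ * n₂ := Nat.mul_le_mul_right _ h1
    omega
  · obtain ⟨_, ⟨hh, ⟨a, b, hab⟩, rfl⟩, hgv⟩ := h hg
    have hmv : ∀ x y, (g : Matrix ι ι F) *ᵥ pure x y =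
        pure ((a : Matrix (Fin n₁) (Fin n₁) F) *ᵥ x) ((b : Matrix (Fin n₂) (Fin n₂) F) *ᵥ y) := by
      intro x y
      rw [← hgv]
      show ((H46.glCoords e P hh : GL ι F) : Matrix ι ι F) *ᵥ unc e P _ = _
      rw [H46.glCoords_val, matCoords_unc, hab]
      refine congrArg (unc e P) (funext fun p => ?_)
      simp only [Matrix.mulVec, dotProduct, Fintype.sum_prod_type, Matrix.kroneckerMap_apply, Finset.sum_mul_sum]
      exact Finset.sum_congr rfl fun i _ => Finset.sum_congr rfl fun j _ => by ring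
    obtain ⟨y, hy0, hy⟩ := exists_fixed hgx (κ := Fin n₂ → F)
      (by rw [Module.finrank_pi, Fintype.card_fin]; exact h2) (pure x₀)
    rw [hmv] at hy
    -- the first factor fixes the line
    have hy' : (b : Matrix (Fin n₂) (Fin n₂) F) *ᵥ y ≠ 0 := fun e0 => hy0 (mulVec_inj b (by
      show (b : Matrix (Fin n₂) (Fin n₂) F) *ᵥ y = (b : Matrix (Fin n₂) (Fin n₂) F) *ᵥ 0
      rw [e0, Matrix.mulVec_zero]))
    obtain ⟨j, hj⟩ := Function.ne_iff.1 hy'
    have h3 : (fun p : Fin n₁ × Fin n₂ => ((a : Matrix (Fin n₁) (Fin n₁) F) *ᵥ x₀) p.1 *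
        ((b : Matrix (Fin n₂) (Fin n₂) F) *ᵥ y) p.2) ∘ e = (fun p : Fin n₁ × Fin n₂ => x₀ p.1 * y p.2) ∘ e :=
      mulVec_inj P hy
    have hax : (a : Matrix (Fin n₁) (Fin n₁) F) *ᵥ x₀ =
        (y j * (((b : Matrix (Fin n₂) (Fin n₂) F) *ᵥ y) j)⁻¹) • x₀ := by
      funext i
      have h4 := congrFun h3 (e.symm (i, j))
      simp only [Function.comp_apply, Equiv.apply_symm_apply] at h4
      rw [Pi.smul_apply, smul_eq_mul, mul_right_comm, mul_comm (y j), ← h4]
      field_simp [hj]
      exact (mul_div_cancel_right₀ _ hj).symm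
    have hle : ∀ v ∈ W, (g : Matrix ι ι F) *ᵥ v ∈ W := by
      rintro _ ⟨z, rfl⟩
      rw [hmv, hax]
      refine ⟨(y j * (((b : Matrix (Fin n₂) (Fin n₂) F) *ᵥ y) j)⁻¹) • ((b : Matrix (Fin n₂) (Fin n₂) F) *ᵥ z), ?_⟩
      show unc e P _ = unc e P _
      congr 1
      funext p
      simp only [Pi.smul_apply, smul_eq_mul]
      ring
    have hmap : W.map (Matrix.toLin' (g : Matrix ι ι F)) = W :=
      map_eq_of_maps g hle le_rfl
    intro v
    refine ⟨hle v, fun hv => ?_⟩
    rw [← hmap] at hv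
    obtain ⟨x, hx, hxv⟩ := hv
    rw [Matrix.toLin'_apply] at hxv
    exact mulVec_inj g hxv ▸ hx

/-- The commutator subgroup normalises no field of matrices besides the scalars. -/
theorem omega_not_field (hq : (H43.polB q).Nondegenerate) (hn : 6 ≤ Fintype.card ι) {r : ℕ} (hr : 2 ≤ r)
    {K : Subalgebra F (Matrix ι ι F)} (hK : IsFieldSubalgebra r K) :
    ¬ omegaGL ⇑q ≤ subalgebraNormalizer K := by
  intro h
  haveI : Nonempty ι := Fintype.card_pos_iff.1 (by omega)
  obtain ⟨u, hu0, hu⟩ := H43.exists_singular_ne_zero q (by rw [Module.finrank_pi]; omega)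
  obtain ⟨v, hc⟩ := H43.exists_hypPair hq hu hu0
  set U := (H43.polB q).orthogonal (Submodule.span F {u, v})
  have hUdim : 3 ≤ Module.finrank F U := by
    have h1 := H43.finrank_orth_add hq (Submodule.span F ({u, v} : Set V))
    have h2 : Module.finrank F (Submodule.span F ({u, v} : Set V)) ≤ 2 := by
      classical
      have e : ({u, v} : Set V) = (({u, v} : Finset V) : Set V) := by simp
      rw [e]
      exact (finrank_span_finset_le_card _).trans Finset.card_le_two
    rw [Module.finrank_pi] at h1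
    show 3 ≤ Module.finrank F ↥((H43.polB q).orthogonal _)
    omega
  obtain ⟨z, hzU, hz0, hz⟩ := H43.exists_singular_in (Q := q) U hUdim
  have huz : H43.polB q u z = 0 := hzU u (Submodule.subset_span (by simp))
  have hvz : H43.polB q v z = 0 := hzU v (Submodule.subset_span (by simp))
  -- a partner of z in the same place
  obtain ⟨z', hc', hperp⟩ := H43.exists_hypPair_orth hq (W := Submodule.span F ({u, v} : Set V)) hz
    (fun hmem => by
      obtain ⟨a, b, rfl⟩ := Submodule.mem_span_pair.1 hmem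
      simp only [map_add, map_smul, smul_eq_mul, hc.pair, hc.symm.pair, H43.polB_self, hu, hc.right, mul_zero,
        mul_one, zero_add, add_zero] at huz hvz
      exact hz0 (by simp [huz, hvz]))
    fun y hy => hzU y hy
  have huz' : H43.polB q u z' = 0 := hperp u (Submodule.subset_span (by simp))
  have hvz' : H43.polB q v z' = 0 := hperp v (Submodule.subset_span (by simp))
  have hself : H43.polB q u u = 0 := by rw [H43.polB_self, hu, mul_zero]
  -- elements of the field commute with the transformations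
  have comm : ∀ w, q w = 0 → H43.polB q u w = 0 → ∀ k ∈ K, ∀ x,
      k *ᵥ (H43.polB q x u • w - H43.polB q x w • u) =
        H43.polB q (k *ᵥ x) u • w - H43.polB q (k *ᵥ x) w • u := by
    intro w hw huw k hk x
    obtain ⟨g, hg, hgx⟩ := omega_eichler hq (by omega) hu huw
    have hg' : ∀ x, (g : Matrix ι ι F) *ᵥ x = x + H43.polB q x u • w - H43.polB q x w • u := fun x => by
      rw [hgx, hw]; simp
    have hj : (g : Matrix ι ι F) * k * ((g⁻¹ : GL ι F) : Matrix ι ι F) ∈ K := (h hg k).1 hk
    set j := (g : Matrix ι ι F) * k * ((g⁻¹ : GL ι F) : Matrix ι ι F)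
    have hjg : ∀ z, j *ᵥ ((g : Matrix ι ι F) *ᵥ z) = (g : Matrix ι ι F) *ᵥ (k *ᵥ z) := by
      intro z
      rw [Matrix.mulVec_mulVec, Matrix.mulVec_mulVec, mul_assoc, ← Units.val_mul, inv_mul_cancel,
        Units.val_one, mul_one]
    have hjk : j = k := by
      by_contra hne
      obtain ⟨Y, -, hY⟩ := hK.inv _ (sub_mem hj hk) (sub_ne_zero.2 hne)
      have hle : ∀ x, (j - k) *ᵥ x ∈ Submodule.span F ({u, w, k *ᵥ u, k *ᵥ w} : Set V) := by
        intro x
        obtain ⟨x, rfl⟩ : ∃ x', (g : Matrix ι ι F) *ᵥ x' = x := ⟨_, mulVec_cancel_inv g x⟩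
        rw [Matrix.sub_mulVec, hjg, hg', hg']
        simp only [Matrix.mulVec_add, Matrix.mulVec_sub, Matrix.mulVec_smul]
        have m1 : u ∈ Submodule.span F ({u, w, k *ᵥ u, k *ᵥ w} : Set V) := Submodule.subset_span (by simp)
        have m2 : w ∈ Submodule.span F ({u, w, k *ᵥ u, k *ᵥ w} : Set V) := Submodule.subset_span (by simp)
        have m3 : k *ᵥ u ∈ Submodule.span F ({u, w, k *ᵥ u, k *ᵥ w} : Set V) := Submodule.subset_span (by simp)
        have m4 : k *ᵥ w ∈ Submodule.span F ({u, w, k *ᵥ u, k *ᵥ w} : Set V) := Submodule.subset_span (by simp)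
        rw [show k *ᵥ x + H43.polB q (k *ᵥ x) u • w - H43.polB q (k *ᵥ x) w • u -
            (k *ᵥ x + H43.polB q x u • k *ᵥ w - H43.polB q x w • k *ᵥ u) =
            H43.polB q (k *ᵥ x) u • w - H43.polB q (k *ᵥ x) w • u - H43.polB q x u • k *ᵥ w +
              H43.polB q x w • k *ᵥ u by abel]
        exact add_mem (sub_mem (sub_mem (Submodule.smul_mem _ _ m2) (Submodule.smul_mem _ _ m1))
          (Submodule.smul_mem _ _ m4)) (Submodule.smul_mem _ _ m3)
      have htop : Submodule.span F ({u, w, k *ᵥ u, k *ᵥ w} : Set V) = ⊤ := by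
        rw [eq_top_iff]
        intro x _
        have h5 := hle (Y *ᵥ x)
        rwa [Matrix.mulVec_mulVec, hY, Matrix.one_mulVec] at h5
      have h6 : Module.finrank F (Submodule.span F ({u, w, k *ᵥ u, k *ᵥ w} : Set V)) ≤ 4 := by
        classical
        have e : ({u, w, k *ᵥ u, k *ᵥ w} : Set V) = (({u, w, k *ᵥ u, k *ᵥ w} : Finset V) : Set V) := by simp
        rw [e]
        exact (finrank_span_finset_le_card _).trans Finset.card_le_four
      rw [htop, finrank_top, Module.finrank_pi] at h6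
      omega
    have h7 := hjg x
    rw [hjk, hg', hg', Matrix.mulVec_sub, Matrix.mulVec_add] at h7
    rw [Matrix.mulVec_sub]
    linear_combination (norm := module) h7
  -- the line through u is fixed
  have hline : ∀ k ∈ K, ∃ c : F, k *ᵥ u = c • u := by
    intro k hk
    have e1 := comm z hz huz k hk z'
    have e2 := comm z' hc'.right huz' k hk z
    have ha : H43.polB q z' u = 0 := by rw [H43.polB_comm]; exact huz'
    have hb : H43.polB q z u = 0 := by rw [H43.polB_comm]; exact huz
    rw [ha, zero_smul, zero_sub, hc'.symm.pair, one_smul, Matrix.mulVec_neg] at e1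
    rw [hb, zero_smul, zero_sub, hc'.pair, one_smul, Matrix.mulVec_neg] at e2
    have hβ : H43.polB q (k *ᵥ z') u = 0 := by
      have h8 := congrArg (fun y => H43.polB q y z') (e1.symm.trans e2)
      simp only [map_sub, map_smul, LinearMap.sub_apply, LinearMap.smul_apply, smul_eq_mul, huz', hc'.pair,
        H43.polB_self, hc'.right, mul_zero, mul_one, sub_zero] at h8
      exact h8
    refine ⟨H43.polB q (k *ᵥ z') z, ?_⟩
    rw [hβ, zero_smul, zero_sub, neg_inj] at e1
    exact e1
  have hbot : K = ⊥ := by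
    rw [eq_bot_iff]
    intro k hk
    obtain ⟨c, hc⟩ := hline k hk
    suffices k = algebraMap F _ c by exact Algebra.mem_bot.2 ⟨c, this.symm⟩
    by_contra hne
    obtain ⟨Y, -, hY⟩ := hK.inv _ (sub_mem hk (Subalgebra.algebraMap_mem K c)) (sub_ne_zero.2 hne)
    have h9 : (k - algebraMap F _ c) *ᵥ u = 0 := by
      rw [Matrix.sub_mulVec, hc, Algebra.algebraMap_eq_smul_one, Matrix.smul_mulVec, Matrix.one_mulVec, sub_self]
    have h10 := congrArg (Y *ᵥ ·) h9
    simp only [Matrix.mulVec_mulVec, mul_eq_one_comm.1 hY, Matrix.one_mulVec, Matrix.mulVec_zero] at h10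
    exact hu0 h10
  rw [hbot] at hK
  have := hK.finrank_eq
  rw [Subalgebra.finrank_bot] at this
  omega

/-- The commutator subgroup is not realised over a proper subfield. -/
theorem omega_not_subfield (hq : (H43.polB q).Nondegenerate) (hn : 5 ≤ Fintype.card ι)
    {F₀ : Subfield F} (hF₀ : F₀ ≠ ⊤) (P : GL ι F) : ¬ omegaGL ⇑q ≤ subfieldSubgroup F₀ P := by
  classical
  intro h
  haveI : Nonempty ι := Fintype.card_pos_iff.1 (by omega)
  obtain ⟨u, hu0, hu⟩ := H43.exists_singular_ne_zero q (by rwa [Module.finrank_pi])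
  obtain ⟨v, hc⟩ := H43.exists_hypPair hq hu hu0
  obtain ⟨w, hwU, hw0, hw⟩ := H43.exists_singular_in (Q := q) ((H43.polB q).orthogonal (Submodule.span F {u, v})) (by
    have h1 := H43.finrank_orth_add hq (Submodule.span F ({u, v} : Set V))
    have h2 : Module.finrank F (Submodule.span F ({u, v} : Set V)) ≤ 2 := by
      have e : ({u, v} : Set V) = (({u, v} : Finset V) : Set V) := by simp
      rw [e]
      exact (finrank_span_finset_le_card _).trans Finset.card_le_two
    rw [Module.finrank_pi] at h1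
    show 3 ≤ Module.finrank F ↥((H43.polB q).orthogonal _)
    omega)
  have huw : H43.polB q u w = 0 := hwU u (Submodule.subset_span (by simp))
  have hvw : H43.polB q v w = 0 := hwU v (Submodule.subset_span (by simp))
  let X : V → V := fun x => H43.polB q x u • w - H43.polB q x w • u
  have hXv : X v ≠ 0 := by simpa [X, hvw, hc.symm.pair] using hw0
  obtain ⟨p, hp⟩ := CharP.exists F
  haveI := hp
  obtain ⟨-, hpp, -⟩ := FiniteField.card F p
  haveI : Fact p.Prime := ⟨hpp⟩
  have key : ∀ c : F, ∀ y : V, (∀ i, y i ∈ F₀) →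
      ∀ i, (((P⁻¹ : GL ι F) : Matrix ι ι F) *ᵥ (c • X ((P : Matrix ι ι F) *ᵥ y))) i ∈ F₀ := by
    intro c y hy i
    obtain ⟨g, hg, hgx'⟩ := omega_eichler hq hn hu (w := c • w) (by rw [map_smul, huw, smul_zero])
    have hgx : ∀ x, (g : Matrix ι ι F) *ᵥ x = x + c • X x := fun x => by
      rw [hgx', H43.qmap_smul, hw, mul_zero, zero_mul, zero_smul, sub_zero, map_smul]
      simp only [X, smul_eq_mul]
      module
    obtain ⟨g', hg', hgg⟩ := h hg
    obtain ⟨a, ⟨A, rfl⟩, s, hs, rfl⟩ := Subgroup.mem_sup_of_normal_right.1 hg'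
    obtain ⟨z, rfl⟩ := H46.exists_scl hs
    set a : GL ι F := Matrix.GeneralLinearGroup.map (F₀.subtype : F₀ →+* F) A
    -- the transformation is unipotent
    have hpow : (g : Matrix ι ι F) ^ p = 1 := by
      haveI : CharP (Matrix ι ι F) p := inferInstance
      set N : Matrix ι ι F := (g : Matrix ι ι F) - 1
      have hN : ∀ x, N *ᵥ x = c • X x := fun x => by
        rw [Matrix.sub_mulVec, hgx, Matrix.one_mulVec]; abel
      have hN2 : N ^ 2 = 0 := by
        refine Matrix.ext_of_mulVec_single fun j => ?_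
        rw [pow_two, Matrix.zero_mulVec, ← Matrix.mulVec_mulVec]
        simp [hN, X, H43.polB_self, hu, hw, huw, H43.polB_comm w u]
      have e : (g : Matrix ι ι F) = 1 + N := by simp [N]
      rw [e, add_pow_char_of_commute p (Commute.one_left N), one_pow,
        show N ^ p = N ^ 2 * N ^ (p - 2) by rw [← pow_add, Nat.add_sub_cancel' hpp.two_le], hN2, zero_mul, add_zero]
    have hgM : (g : Matrix ι ι F) = (P : Matrix ι ι F) * ((z : F) • (a : Matrix ι ι F)) *
        ((P⁻¹ : GL ι F) : Matrix ι ι F) := by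
      rw [← hgg]
      show ((P * (a * H46.scl ι z) * P⁻¹ : GL ι F) : Matrix ι ι F) = _
      rw [Units.val_mul, Units.val_mul, ← (H46.scl_comm z a).eq, H46.scl_mul_val]
    have hzF : (z : F) ∈ F₀ := by
      have h1 : ((z : F) • (a : Matrix ι ι F)) ^ p = 1 := by
        have h3 : ((P⁻¹ : GL ι F) : Matrix ι ι F) * (g : Matrix ι ι F) * P = (z : F) • (a : Matrix ι ι F) := by
          rw [hgM, ← mul_assoc, ← mul_assoc, ← Units.val_mul, inv_mul_cancel, Units.val_one, one_mul, mul_assoc,
            ← Units.val_mul, inv_mul_cancel, Units.val_one, mul_one]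
        rw [← h3]
        have h5 : (P⁻¹ * g * P : GL ι F) ^ p = P⁻¹ * g ^ p * P := by
          rw [show P⁻¹ * g * P = P⁻¹ * g * (P⁻¹)⁻¹ by rw [inv_inv], conj_pow, inv_inv]
        have h6 := congrArg (fun x : GL ι F => (x : Matrix ι ι F)) h5
        simp only [Units.val_pow_eq_pow_val, Units.val_mul] at h6
        rw [h6, hpow, mul_one, ← Units.val_mul, inv_mul_cancel, Units.val_one]
      rw [smul_pow] at h1
      obtain ⟨i₀⟩ := ‹Nonempty ι›
      have h2' := congrFun (congrFun h1 i₀) i₀
      rw [Matrix.smul_apply, Matrix.one_apply_eq, smul_eq_mul] at h2'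
      have hmem : ((a : Matrix ι ι F) ^ p) i₀ i₀ ∈ F₀ := by
        have : (a : Matrix ι ι F) ^ p = ((A : Matrix ι ι F₀) ^ p).map (F₀.subtype : F₀ →+* F) := by
          rw [show (a : Matrix ι ι F) = (F₀.subtype : F₀ →+* F).mapMatrix (A : Matrix ι ι F₀) from rfl, ← map_pow]
          rfl
        rw [this]
        exact (((A : Matrix ι ι F₀) ^ p) i₀ i₀).2
      have hzp : (z : F) ^ p ∈ F₀ := by
        rw [eq_inv_of_mul_eq_one_left h2']
        exact inv_mem hmem
      haveI : Fintype F₀ := Fintype.ofFinite _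
      haveI : CharP F₀ p := F₀.subtype.charP F₀.subtype.injective p
      obtain ⟨y₀, hy₀⟩ := Finite.injective_iff_surjective.1 (frobenius_inj F₀ p) ⟨_, hzp⟩
      have e : (z : F) = (y₀ : F) := frobenius_inj F p (by
        simp only [frobenius_def]
        exact (congrArg Subtype.val hy₀).symm)
      rw [e]; exact y₀.2
    have hval : (((P⁻¹ : GL ι F) : Matrix ι ι F) *ᵥ ((g : Matrix ι ι F) *ᵥ ((P : Matrix ι ι F) *ᵥ y))) i ∈ F₀ := by
      rw [hgM, Matrix.mulVec_mulVec, Matrix.mulVec_mulVec, ← mul_assoc, ← mul_assoc, ← Units.val_mul,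
        inv_mul_cancel, Units.val_one, one_mul, mul_assoc, ← Units.val_mul, inv_mul_cancel, Units.val_one, mul_one]
      simp only [Matrix.smul_apply, smul_eq_mul, Matrix.mulVec, dotProduct]
      exact sum_mem fun j _ => mul_mem (mul_mem hzF ((A : Matrix ι ι F₀) i j).2) (hy j)
    rw [hgx, Matrix.mulVec_add, mulVec_inv_cancel] at hval
    simpa using sub_mem hval (hy i)
  apply hF₀
  rw [eq_top_iff]
  intro d _
  obtain ⟨j, i, hij⟩ : ∃ j i, (((P⁻¹ : GL ι F) : Matrix ι ι F) *ᵥ X ((P : Matrix ι ι F) *ᵥ Pi.single j 1)) i ≠ 0 := by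
    by_contra hcon
    push Not at hcon
    apply hXv
    let XL : V →ₗ[F] V :=
      ((H43.polB q).flip u).smulRight w - ((H43.polB q).flip w).smulRight u
    have hXL : ∀ x, XL x = X x := fun x => by simp [XL, X]
    have h0 : (XL.comp (Matrix.toLin' (P : Matrix ι ι F))) = 0 := by
      refine (Pi.basisFun F ι).ext fun j => ?_
      have h1 : ((P⁻¹ : GL ι F) : Matrix ι ι F) *ᵥ X ((P : Matrix ι ι F) *ᵥ Pi.single j 1) = 0 := funext (hcon j)
      have h2 := congrArg (fun x => (P : Matrix ι ι F) *ᵥ x) h1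
      simp only [mulVec_cancel_inv, Matrix.mulVec_zero] at h2
      simpa [Pi.basisFun_apply, hXL, Matrix.toLin'_apply] using h2
    have h1 := LinearMap.congr_fun h0 (((P⁻¹ : GL ι F) : Matrix ι ι F) *ᵥ v)
    simpa [hXL, Matrix.mulVec_mulVec] using h1
  set κ := (((P⁻¹ : GL ι F) : Matrix ι ι F) *ᵥ X ((P : Matrix ι ι F) *ᵥ Pi.single j 1)) i
  have hy : ∀ k, (Pi.single j 1 : V) k ∈ F₀ := fun k => by
    rw [Pi.single_apply]
    split
    · exact one_mem _
    · exact zero_mem _
  have e1 := key (d * κ⁻¹) _ hy i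
  simp only [Matrix.mulVec_smul, Pi.smul_apply, smul_eq_mul] at e1
  rwa [mul_assoc, inv_mul_cancel₀ hij, mul_one] at e1

end OE

end H98
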