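import Cfsg.Agent.H98.OrthEven.Blocks

/-!
Decompositions over very small fields and frames over non-prime fields.
-/

set_option autoImplicit false
set_option linter.unusedSectionVars false
set_option linter.style.haveILetI false
set_option maxHeartbeats 1000000

open Cfsg.Geo
open scoped Matrix MatrixGroups

namespace H98

namespace OE

open H51.FormAsch (sform_polar)

variable {ι : Type} [Fintype ι] [DecidableEq ι] {F : Type*} [Field F] [Fintype F]
variable {q : QuadraticForm F (ι → F)} {H : Subgroup (GL ι F)}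

local notation "V" => (ι → F)

theorem elems_two (hq : Fintype.card F = 2) (x : F) : x = 0 ∨ x = 1 := by
  by_cases hx : x = 0
  · exact Or.inl hx
  · have := FiniteField.pow_card_sub_one_eq_one x hx
    rw [hq, pow_one] at this
    exact Or.inr this

theorem sq_three (hq : Fintype.card F = 3) {x : F} (hx : x ≠ 0) : x * x = 1 := by
  have := FiniteField.pow_card_sub_one_eq_one x hx
  rw [hq] at this
  simpa [pow_two] using this

theorem card_cast (n : ℕ) (hq : Fintype.card F = n) : ((n : ℕ) : F) = 0 := by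
  rw [← hq]; exact FiniteField.cast_card_eq_zero F

/-- Coordinates on a family of non-degenerate subspaces. -/
theorem polar_coords {W : Submodule F V} {κ : Type*} (φ : W ≃ₗ[F] (κ → F)) (Φ : (κ → F) → F)
    (hφ : ∀ w : W, q (w : V) = Φ (φ w)) (x y : κ → F) :
    H43.polB q (φ.symm x : V) (φ.symm y : V) = Φ (x + y) - Φ x - Φ y := by
  rw [H43.polB_apply, QuadraticMap.polar, ← Submodule.coe_add, ← map_add, hφ, hφ, hφ]
  simp

theorem not_plus_of_aniso {W : Submodule F V} (hd : Module.finrank F W = 2)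
    (h : ∀ w ∈ W, q w = 0 → w = 0) : ¬ IsPlusTypeOn ⇑q W := by
  rintro ⟨U, hUW, hU, hUd⟩
  obtain ⟨u, hu, hu0⟩ := U.exists_mem_ne_zero_of_ne_bot fun e => by rw [e, finrank_bot, hd] at hUd; omega
  exact hu0 (h u (hUW hu) (hU u hu))

/-- An orthonormal frame up to one scalar, stabilised: a prime field or a subfield structure. -/
theorem frame_refine (hq : (H43.polB q).Nondegenerate) (hH : ∀ g ∈ H, ∀ v, q ((g : Matrix ι ι F) *ᵥ v) = q v)
    {t : ℕ} {D : Fin t → Submodule F V} (hD : IsOrthogonalMDecomposition ⇑q 1 D)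
    (h : H ≤ decompositionStabilizer D) :
    (2 : F) ≠ 0 ∧ ((Fintype.card F).Prime ∨ ∃ (F₀ : Subfield F) (r : ℕ) (P : GL ι F) (ζ : F), r.Prime ∧
      Fintype.card F = Nat.card F₀ ^ r ∧ ζ ≠ 0 ∧ IsQuadFormRationalStructure (fun v => ζ * q v) F₀ P ∧
      H ≤ subfieldSubgroup F₀ P) := by
  classical
  have hN := hD.decomp
  set i0 : Fin t := ⟨0, by linarith [hN.decomp.two_le]⟩
  obtain ⟨d0, hd0, hd00⟩ := (D i0).exists_mem_ne_zero_of_ne_bot fun e => by
    have := hN.decomp.finrank_eq i0
    rw [e, finrank_bot] at this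
    omega
  choose e he using fun i => hD.isometric i0 i
  set d : Fin t → V := fun i => (e i ⟨d0, hd0⟩ : V)
  have hd : ∀ i, d i ∈ D i := fun i => Subtype.mem _
  have hqd : ∀ i, q (d i) = q d0 := fun i => he i _
  have hdne : ∀ i, d i ≠ 0 := fun i h0 => hd00 (by
    have h1 : e i ⟨d0, hd0⟩ = 0 := Subtype.ext h0
    exact congrArg Subtype.val ((e i).map_eq_zero_iff.1 h1))
  have hline : ∀ i, ∀ y ∈ D i, ∃ l : F, y = l • d i := by
    intro i y hy
    obtain ⟨l, hl⟩ := (finrank_eq_one_iff_of_nonzero' (⟨d i, hd i⟩ : D i)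
      (fun h0 => hdne i (congrArg Subtype.val h0))).1 (hN.decomp.finrank_eq i) ⟨y, hy⟩
    exact ⟨l, (congrArg Subtype.val hl).symm⟩
  have hc : 2 * q d0 ≠ 0 := by
    intro h0
    obtain ⟨y, hy, hyd⟩ := (hN.nondegenerate i0 (d i0) (hd i0) (hdne i0)).1
    obtain ⟨l, rfl⟩ := hline i0 y hy
    apply hyd
    rw [← H43.polB_apply, map_smul, LinearMap.smul_apply, H43.polB_self, hqd, h0, smul_zero]
  refine ⟨left_ne_zero_of_mul hc, ?_⟩
  by_cases hp : (Fintype.card F).Prime
  · exact Or.inl hp
  have hc0 : q d0 ≠ 0 := right_ne_zero_of_mul hc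
  have hbot : (⊥ : Subfield F) ≠ ⊤ := by
    intro e
    apply hp
    obtain ⟨p, hp'⟩ := CharP.exists F
    haveI := hp'
    obtain ⟨-, hpp, -⟩ := FiniteField.card F p
    have h1 : Nat.card (⊥ : Subfield F) = p := by
      haveI : Fact p.Prime := ⟨hpp⟩
      exact Subfield.card_bot F p
    rw [e, Nat.card_congr (Subfield.topEquiv (K := F)).toEquiv, Nat.card_eq_fintype_card] at h1
    rwa [h1]
  obtain ⟨F₁, r, -, hr, hcard⟩ := H46.exists_prime_index_subfield (⊥ : Subfield F) hbot
  have horth : ∀ i j, i ≠ j → H43.polB q (d i) (d j) = 0 := fun i j hij =>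
    hN.orthogonal i j hij _ (hd i) _ (hd j)
  have hli : LinearIndependent F d := by
    rw [Fintype.linearIndependent_iff]
    intro u hu i
    have h1 : H43.polB q (∑ j, u j • d j) (d i) = 0 := by rw [hu]; simp
    rw [map_sum, LinearMap.sum_apply, Finset.sum_eq_single i
      (fun j _ hj => by rw [map_smul, LinearMap.smul_apply, horth j i hj, smul_zero]) (by simp),
      map_smul, LinearMap.smul_apply, H43.polB_self, hqd, smul_eq_mul] at h1
    exact (mul_eq_zero.1 h1).resolve_right hc
  obtain ⟨P, hP, hle⟩ := subfield_of_basis (q := q) (H := H) d hli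
    (by rw [Fintype.card_fin, card_eq_mul hN.decomp, mul_one]) F₁ (q d0)⁻¹
    (fun u hu => by
      rw [qmap_sum Finset.univ _ (fun a _ b _ hab => by
        rw [map_smul, map_smul, LinearMap.smul_apply, horth a b hab, smul_zero, smul_zero]), Finset.mul_sum]
      refine sum_mem fun i _ => ?_
      rw [H43.qmap_smul, hqd, show (q d0)⁻¹ * (u i * u i * q d0) = u i * u i by field_simp]
      exact mul_mem (hu i) (hu i))
    (fun g hg j => by
      obtain ⟨σ, hσ⟩ := h hg
      obtain ⟨l, hl⟩ := hline (σ j) _ (hσ j ▸ Submodule.mem_map_of_mem (hd j) :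
        Matrix.toLin' (g : Matrix ι ι F) (d j) ∈ D (σ j))
      rw [Matrix.toLin'_apply] at hl
      have hl1 : l * l = 1 := by
        have h1 := hH g hg (d j)
        rw [hl, H43.qmap_smul, hqd, hqd] at h1
        exact mul_right_cancel₀ hc0 (h1.trans (one_mul _).symm)
      refine ⟨Pi.single (σ j) l, fun i => ?_, ?_⟩
      · rw [Pi.single_apply]
        split
        · rcases mul_self_eq_one_iff.1 hl1 with e | e <;> rw [e]
          exacts [one_mem _, neg_mem (one_mem _)]
        · exact zero_mem _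
      · rw [hl, Finset.sum_eq_single (σ j) (fun b _ hb => by rw [Pi.single_eq_of_ne hb, zero_smul]) (by simp),
          Pi.single_eq_same])
  exact Or.inr ⟨F₁, r, P, (q d0)⁻¹, hr, hcard, inv_ne_zero hc0, hP, hle⟩

variable {t : ℕ} {D : Fin t → Submodule F (ι → F)}

/-- Coordinates on the plus planes. -/
theorem plus_plane_coords (hq : (H43.polB q).Nondegenerate)
    (hD : IsNondegenerateMDecomposition (QuadraticMap.polar ⇑q) 2 D) (hp : ∀ i, IsPlusTypeOn ⇑q (D i)) :
    ∀ i, ∃ φ : D i ≃ₗ[F] (Fin 1 ⊕ Fin 1 → F), ∀ w : D i, q (w : V) = φ w (.inl 0) * φ w (.inr 0) := by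
  intro i
  obtain ⟨-, φ, hφ⟩ | ⟨hnp, -⟩ := type_cases hq (nondegOn_iff.1 (hD.nondegenerate i)) (m := 1)
    (by rw [hD.decomp.finrank_eq])
  · exact ⟨φ, fun w => by rw [hφ]; simp [Cfsg.quadFormPlus]⟩
  · exact absurd (hp i) hnp

/-- An irreducible group stabilises no decomposition into plus planes over at most three elements. -/
theorem plane_small (hq : (H43.polB q).Nondegenerate) (hirr : Irr H)
    (hH : ∀ g ∈ H, ∀ v, q ((g : Matrix ι ι F) *ᵥ v) = q v) (hF : Fintype.card F ≤ 3)
    (hD : IsNondegenerateMDecomposition (QuadraticMap.polar ⇑q) 2 D) (hp : ∀ i, IsPlusTypeOn ⇑q (D i))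
    (h : H ≤ decompositionStabilizer D) : False := by
  classical
  choose φ hφ using plus_plane_coords hq hD hp
  have hsq : ∀ x : F, x ≠ 0 → x * x = 1 := fun x hx => by
    rcases Nat.lt_or_ge (Fintype.card F) 3 with h3 | h3
    · have h2 : Fintype.card F = 2 := by have := Fintype.one_lt_card (α := F); omega
      rw [(elems_two h2 x).resolve_left hx, one_mul]
    · exact sq_three (by omega) hx
  set a : Fin t → V := fun i => ((φ i).symm (fun _ => 1) : V)
  have hqa : ∀ i, q (a i) = 1 := fun i => by simp [a, hφ]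
  have hline : ∀ i, ∀ x ∈ D i, q x = 1 → x ∈ Submodule.span F (Set.range a) := by
    intro i x hx hqx
    have h1 : φ i ⟨x, hx⟩ (.inl 0) * φ i ⟨x, hx⟩ (.inr 0) = 1 := (hφ i ⟨x, hx⟩).symm.trans hqx
    have e : (⟨x, hx⟩ : D i) = φ i ⟨x, hx⟩ (.inl 0) • (φ i).symm (fun _ => 1) := (φ i).injective (by
      rw [map_smul, LinearEquiv.apply_symm_apply]
      funext j
      rcases j with j | j <;> obtain rfl : j = 0 := Subsingleton.elim _ _ <;>
        simp only [Pi.smul_apply, smul_eq_mul, mul_one]
      calc φ i ⟨x, hx⟩ (.inr 0) = φ i ⟨x, hx⟩ (.inl 0) * φ i ⟨x, hx⟩ (.inl 0) * φ i ⟨x, hx⟩ (.inr 0) := by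
            rw [hsq _ (left_ne_zero_of_mul_eq_one h1), one_mul]
        _ = φ i ⟨x, hx⟩ (.inl 0) := by rw [mul_assoc, h1, mul_one])
    have e' : x = φ i ⟨x, hx⟩ (.inl 0) • a i := congrArg Subtype.val e
    rw [e']
    exact Submodule.smul_mem _ _ (Submodule.subset_span ⟨i, rfl⟩)
  have hW : H ≤ subspaceStabilizer (Submodule.span F (Set.range a)) := by
    refine le_stab_of_maps fun g hg v hv => ?_
    have hle : Submodule.span F (Set.range a) ≤
        (Submodule.span F (Set.range a)).comap (Matrix.toLin' (g : Matrix ι ι F)) := by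
      rw [Submodule.span_le]
      rintro _ ⟨i, rfl⟩
      obtain ⟨σ, hσ⟩ := h hg
      exact hline (σ i) _ (hσ i ▸ Submodule.mem_map_of_mem (Subtype.mem _))
        (by rw [Matrix.toLin'_apply, hH g hg, hqa])
    exact hle hv
  set i0 : Fin t := ⟨0, by linarith [hD.decomp.two_le]⟩
  rcases hirr _ hW with e | e
  · have h1 : a i0 ∈ Submodule.span F (Set.range a) := Submodule.subset_span ⟨i0, rfl⟩
    rw [e, Submodule.mem_bot] at h1
    exact one_ne_zero (α := F) (by rw [← hqa i0, h1, QuadraticMap.map_zero])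
  · have h1 := finrank_range_le_card (R := F) a
    rw [Set.finrank, e, finrank_top, Module.finrank_pi, card_eq_mul hD.decomp, Fintype.card_fin] at h1
    have := hD.decomp.two_le
    omega

/-- Plus planes over four elements give a structure over two elements. -/
theorem plane_four (hq : (H43.polB q).Nondegenerate) (hH : ∀ g ∈ H, ∀ v, q ((g : Matrix ι ι F) *ᵥ v) = q v)
    (hF : Fintype.card F = 4) (hD : IsNondegenerateMDecomposition (QuadraticMap.polar ⇑q) 2 D)
    (hp : ∀ i, IsPlusTypeOn ⇑q (D i)) (h : H ≤ decompositionStabilizer D) :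
    ∃ (F₀ : Subfield F) (P : GL ι F), Fintype.card F = Nat.card F₀ ^ 2 ∧
      IsQuadFormRationalStructure (fun v => (1 : F) * q v) F₀ P ∧ H ≤ subfieldSubgroup F₀ P := by
  classical
  choose φ hφ using plus_plane_coords hq hD hp
  have h2 : (2 : F) = 0 := by
    have h4 := card_cast 4 hF
    push_cast at h4
    exact mul_self_eq_zero.1 (show (2 : F) * 2 = 0 by linear_combination h4)
  obtain ⟨w, hw⟩ : ∃ w : F, w ∉ ({0, 1} : Finset F) := by
    by_contra hc
    push Not at hc
    have h1 := Finset.card_le_card (fun x _ => hc x : (Finset.univ : Finset F) ⊆ {0, 1})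
    rw [Finset.card_univ, hF] at h1
    exact absurd (h1.trans (Finset.card_le_two)) (by norm_num)
  simp only [Finset.mem_insert, Finset.mem_singleton, not_or] at hw
  have hcube : ∀ x : F, x ≠ 0 → x * x * x = 1 := fun x hx => by
    have := FiniteField.pow_card_sub_one_eq_one x hx
    rw [hF] at this
    linear_combination this
  have hww : w * w + w = 1 := by
    rcases mul_eq_zero.1 (show (w - 1) * (w * w + w + 1) = 0 by linear_combination hcube w hw.1) with e | e
    · exact absurd (sub_eq_zero.1 e) hw.2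
    · linear_combination e - h2
  set co : Fin 2 → (Fin 1 ⊕ Fin 1 → F) := ![fun _ => 1, Sum.elim (fun _ => w) (fun _ => w * w)]
  set d : Fin t × Fin 2 → V := fun p => ((φ p.1).symm (co p.2) : V)
  have hqc : ∀ i z, q ((φ i).symm z : V) = z (.inl 0) * z (.inr 0) := fun i z => by simp [hφ]
  have hdec : ∀ i (x : D i), ∃ u : Fin 2 → F, (x : V) = u 0 • d (i, 0) + u 1 • d (i, 1) ∧
      u 1 = φ i x (.inl 0) + φ i x (.inr 0) ∧ u 0 = φ i x (.inl 0) + u 1 * w := by
    intro i x
    set X := φ i x (.inl 0)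
    set Y := φ i x (.inr 0)
    refine ⟨![X + (X + Y) * w, X + Y], ?_, rfl, rfl⟩
    refine congrArg Subtype.val (show x = (X + (X + Y) * w) • (φ i).symm (co 0) + (X + Y) • (φ i).symm (co 1) from
      (φ i).injective ?_)
    rw [map_add, map_smul, map_smul, LinearEquiv.apply_symm_apply, LinearEquiv.apply_symm_apply]
    funext j
    rcases j with j | j <;> obtain rfl : j = 0 := Subsingleton.elim _ _ <;>
      simp [co]
    · linear_combination -(X + Y) * w * h2
    · linear_combination -(X + Y) * hww - X * h2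
  have hspan : ⊤ ≤ Submodule.span F (Set.range d) := by
    rw [← hD.decomp.iSup_eq_top]
    refine iSup_le fun i x hx => ?_
    obtain ⟨u, hu, -, -⟩ := hdec i ⟨x, hx⟩
    rw [show x = _ from hu]
    exact add_mem (Submodule.smul_mem _ _ (Submodule.subset_span ⟨_, rfl⟩))
      (Submodule.smul_mem _ _ (Submodule.subset_span ⟨_, rfl⟩))
  have hcard : Fintype.card (Fin t × Fin 2) = Fintype.card ι := by
    rw [card_eq_mul hD.decomp, Fintype.card_prod, Fintype.card_fin, Fintype.card_fin]
  have hli : LinearIndependent F d :=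
    linearIndependent_of_top_le_span_of_card_eq_finrank hspan (by rw [hcard, Module.finrank_pi])
  have h01 : ∀ x : F, (x = 0 ∨ x = 1) → x ∈ (⊥ : Subfield F) := by
    rintro x (rfl | rfl)
    exacts [zero_mem _, one_mem _]
  obtain ⟨P, hP, hle⟩ := subfield_of_basis (q := q) (H := H) d hli hcard ⊥ 1
    (fun u hu => by
      rw [one_mul, Fintype.sum_prod_type, qmap_sum Finset.univ _ (fun a _ b _ hab => by
        refine hD.orthogonal a b hab _ ?_ _ ?_ <;>
          exact Submodule.sum_mem _ fun j _ => Submodule.smul_mem _ _ (Subtype.mem _))]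
      refine sum_mem fun i _ => ?_
      rw [Fin.sum_univ_two, show u (i, 0) • d (i, 0) + u (i, 1) • d (i, 1) =
        (((φ i).symm (u (i, 0) • co 0 + u (i, 1) • co 1) : D i) : V) by simp [d, map_add, map_smul], hqc]
      simp only [co, Pi.add_apply, Pi.smul_apply, smul_eq_mul, Matrix.cons_val_zero, Matrix.cons_val_one,
        Matrix.cons_val_fin_one, Sum.elim_inl, Sum.elim_inr, mul_one]
      rw [show (u (i, 0) + u (i, 1) * w) * (u (i, 0) + u (i, 1) * (w * w)) =
        u (i, 0) * u (i, 0) + u (i, 0) * u (i, 1) + u (i, 1) * u (i, 1) by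
          linear_combination u (i, 0) * u (i, 1) * hww + u (i, 1) * u (i, 1) * hcube w hw.1]
      exact add_mem (add_mem (mul_mem (hu _) (hu _)) (mul_mem (hu _) (hu _))) (mul_mem (hu _) (hu _)))
    (fun g hg p => by
      obtain ⟨σ, hσ⟩ := h hg
      have hmem : (g : Matrix ι ι F) *ᵥ d p ∈ D (σ p.1) :=
        hσ p.1 ▸ ⟨d p, Subtype.mem _, Matrix.toLin'_apply _ _⟩
      obtain ⟨u, hu, hu1, hu0⟩ := hdec (σ p.1) ⟨_, hmem⟩
      have hval : φ (σ p.1) ⟨_, hmem⟩ (.inl 0) * φ (σ p.1) ⟨_, hmem⟩ (.inr 0) = 1 := by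
        rw [← hφ]
        show q ((g : Matrix ι ι F) *ᵥ d p) = 1
        rw [hH g hg, hqc]
        obtain ⟨i, b⟩ := p
        fin_cases b
        · simp [co]
        · simp [co]
          linear_combination hcube w hw.1
      set X := φ (σ p.1) ⟨_, hmem⟩ (.inl 0)
      set Y := φ (σ p.1) ⟨_, hmem⟩ (.inr 0)
      have hX0 : X ≠ 0 := left_ne_zero_of_mul_eq_one hval
      have hY : Y = X * X := by linear_combination X * X * hval - Y * hcube X hX0
      have hu1' : u 1 * (u 1 - 1) = 0 := by
        rw [hu1, hY]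
        rcases mul_eq_zero.1 (show (X - 1) * (X * X + X + 1) = 0 by linear_combination hcube X hX0) with e | e
        · rw [sub_eq_zero.1 e]
          linear_combination h2
        · linear_combination (X * X + X - 2) * e + h2
      have hu0' : u 0 * (u 0 - 1) = 0 := by
        have hXw : X = 1 ∨ X = w ∨ X = w * w := by
          by_contra hne
          push Not at hne
          have hz : (X - 1) * ((X - w) * (X - w * w)) = 0 := by
            linear_combination hcube X hX0 + (X - 1) * (hcube w hw.1 - X * hww - X * h2)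
          rcases mul_eq_zero.1 hz with e | e
          · exact hne.1 (sub_eq_zero.1 e)
          rcases mul_eq_zero.1 e with e | e
          · exact hne.2.1 (sub_eq_zero.1 e)
          · exact hne.2.2 (sub_eq_zero.1 e)
        rw [hu0, hu1, hY]
        rcases hXw with e | e | e <;> rw [e]
        · rw [show (1 : F) + (1 + 1 * 1) * w = 1 by linear_combination w * h2]; ring
        · rw [show w + (w + w * w) * w = 0 by linear_combination w * hww + w * h2]; ring
        · rw [show w * w + (w * w + w * w * (w * w)) * w = 1 by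
            linear_combination (w * w + 1) * hcube w hw.1 + w * w * h2]
          ring
      refine ⟨fun r => if r.1 = σ p.1 then u r.2 else 0, fun r => ?_, ?_⟩
      · show (if r.1 = σ p.1 then u r.2 else 0) ∈ (⊥ : Subfield F)
        split
        · refine h01 _ ?_
          obtain ⟨i, b⟩ := r
          fin_cases b
          · rcases mul_eq_zero.1 hu0' with e | e
            exacts [Or.inl e, Or.inr (sub_eq_zero.1 e)]
          · rcases mul_eq_zero.1 hu1' with e | e
            exacts [Or.inl e, Or.inr (sub_eq_zero.1 e)]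
        · exact zero_mem _
      · rw [Fintype.sum_prod_type, Finset.sum_eq_single (σ p.1) (fun b _ hb => by simp [hb]) (by simp)]
        simp [Fin.sum_univ_two]
        exact hu)
  refine ⟨⊥, P, ?_, hP, hle⟩
  obtain ⟨p, hp'⟩ := CharP.exists F
  haveI := hp'
  obtain ⟨-, hpp, -⟩ := FiniteField.card F p
  haveI : Fact p.Prime := ⟨hpp⟩
  haveI : CharP F 2 := CharTwo.of_one_ne_zero_of_two_eq_zero one_ne_zero h2
  obtain rfl : p = 2 := CharP.eq F hp' inferInstance
  rw [Subfield.card_bot F 2, hF]
  norm_num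

/-- Minus planes over three elements split into two lines. -/
theorem plane_three (hq : (H43.polB q).Nondegenerate) (hirr : Irr H)
    (hH : ∀ g ∈ H, ∀ v, q ((g : Matrix ι ι F) *ᵥ v) = q v) (hF : Fintype.card F = 3)
    (hD : IsNondegenerateMDecomposition (QuadraticMap.polar ⇑q) 2 D) (hp : ∀ i, ¬ IsPlusTypeOn ⇑q (D i))
    (h : H ≤ decompositionStabilizer D) :
    ∃ D' : Fin (t * 2) → Submodule F V, IsOrthogonalMDecomposition ⇑q 1 D' ∧ H ≤ decompositionStabilizer D' := by
  classical
  have h3 : (3 : F) = 0 := by simpa using card_cast 3 hF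
  have h2 : (2 : F) ≠ 0 := fun h2 => one_ne_zero (α := F) (by linear_combination h3 - h2)
  have hco : ∀ i, ∃ φ : D i ≃ₗ[F] ((Fin 0 ⊕ Fin 0) ⊕ Fin 2 → F), ∀ w : D i,
      q (w : V) = φ w (.inr 0) ^ 2 + φ w (.inr 0) * φ w (.inr 1) - φ w (.inr 1) ^ 2 := by
    intro i
    obtain ⟨hpl, -⟩ | ⟨-, -, ζ, φ, hζ, hφ⟩ := type_cases hq (nondegOn_iff.1 (hD.nondegenerate i)) (m := 1)
      (by rw [hD.decomp.finrank_eq])
    · exact absurd hpl (hp i)
    have hζ0 : ζ ≠ 0 := fun e => hζ 0 (by rw [e]; ring)
    have hζ1 : ζ ≠ 1 := fun e => hζ 1 (by rw [e]; linear_combination h3)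
    have hζm : ζ = -1 := by
      rcases mul_self_eq_one_iff.1 (sq_three hF hζ0) with e | e
      · exact absurd e hζ1
      · exact e
    exact ⟨φ, fun w => by rw [hφ, hζm]; simp [Cfsg.quadFormMinus]; ring⟩
  choose φ hφ using hco
  set co : Fin 2 → ((Fin 0 ⊕ Fin 0) ⊕ Fin 2 → F) := fun b => Sum.elim (fun _ => 0) (![![1, 0], ![1, 1]] b)
  set a : Fin t → Fin 2 → V := fun i b => ((φ i).symm (co b) : V)
  refine frame_of_vectors hirr hH h2 hD h (c := 1) one_ne_zero a (fun i b => Subtype.mem _) (fun i b => ?_)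
    (fun i b b' hb => ?_) (fun i x hx hqx => ?_)
  · fin_cases b <;> simp [a, co, hφ]
  · rw [polar_coords (φ i) (fun z => z (.inr 0) ^ 2 + z (.inr 0) * z (.inr 1) - z (.inr 1) ^ 2) (hφ i)]
    fin_cases b <;> fin_cases b' <;>
      first | exact absurd rfl hb | (simp [co]; linear_combination h3)
  · set X := φ i ⟨x, hx⟩ (.inr 0)
    set Y := φ i ⟨x, hx⟩ (.inr 1)
    have h1 : X ^ 2 + X * Y - Y ^ 2 = 1 := (hφ i ⟨x, hx⟩).symm.trans hqx
    have key : ∀ (b : Fin 2) (l : F), l * (co b (.inr 0)) = X → l * (co b (.inr 1)) = Y → x = l • a i b := by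
      intro b l e0 e1
      refine congrArg Subtype.val (show (⟨x, hx⟩ : D i) = l • (φ i).symm (co b) from (φ i).injective ?_)
      rw [map_smul, LinearEquiv.apply_symm_apply]
      funext j
      rcases j with (j | j) | j
      · exact Fin.elim0 j
      · exact Fin.elim0 j
      · fin_cases j
        · exact e0.symm
        · exact e1.symm
    by_cases hY : Y = 0
    · exact ⟨0, X, key 0 X (by simp [co]) (by simp [co, hY])⟩
    · have hX : X = Y := by
        have hYY := sq_three hF hY
        by_cases hX : X = 0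
        · exfalso
          rw [hX] at h1
          exact h2 (by linear_combination -h1 - hYY)
        · have hXX := sq_three hF hX
          linear_combination Y * h1 - Y * hXX + Y * hYY - X * hYY
      exact ⟨1, X, key 1 X (by simp [co]) (by simp [co, hX])⟩

/-- Plus planes over five elements split into two lines. -/
theorem plane_five (hq : (H43.polB q).Nondegenerate) (hirr : Irr H)
    (hH : ∀ g ∈ H, ∀ v, q ((g : Matrix ι ι F) *ᵥ v) = q v) (hF : Fintype.card F = 5)
    (hD : IsNondegenerateMDecomposition (QuadraticMap.polar ⇑q) 2 D) (hp : ∀ i, IsPlusTypeOn ⇑q (D i))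
    (h : H ≤ decompositionStabilizer D) :
    ∃ D' : Fin (t * 2) → Submodule F V, IsOrthogonalMDecomposition ⇑q 1 D' ∧ H ≤ decompositionStabilizer D' := by
  classical
  have h5 : (5 : F) = 0 := by simpa using card_cast 5 hF
  have h2 : (2 : F) ≠ 0 := fun h2 => one_ne_zero (α := F) (by linear_combination h5 - 2 * h2)
  choose φ hφ using plus_plane_coords hq hD hp
  set co : Fin 2 → (Fin 1 ⊕ Fin 1 → F) := ![fun _ => 1, Sum.elim (fun _ => 2) (fun _ => -2)]
  set a : Fin t → Fin 2 → V := fun i b => ((φ i).symm (co b) : V)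
  refine frame_of_vectors hirr hH h2 hD h (c := 1) one_ne_zero a (fun i b => Subtype.mem _) (fun i b => ?_)
    (fun i b b' hb => ?_) (fun i x hx hqx => ?_)
  · fin_cases b
    · simp [a, co, hφ]
    · simp [a, co, hφ]; linear_combination -h5
  · rw [polar_coords (φ i) (fun z => z (.inl 0) * z (.inr 0)) (hφ i)]
    fin_cases b <;> fin_cases b' <;>
      first | exact absurd rfl hb | (simp [co]; ring)
  · set X := φ i ⟨x, hx⟩ (.inl 0)
    set Y := φ i ⟨x, hx⟩ (.inr 0)
    have h1 : X * Y = 1 := (hφ i ⟨x, hx⟩).symm.trans hqx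
    have key : ∀ (b : Fin 2) (l : F), l * (co b (.inl 0)) = X → l * (co b (.inr 0)) = Y → x = l • a i b := by
      intro b l e0 e1
      refine congrArg Subtype.val (show (⟨x, hx⟩ : D i) = l • (φ i).symm (co b) from (φ i).injective ?_)
      rw [map_smul, LinearEquiv.apply_symm_apply]
      funext j
      rcases j with j | j <;> obtain rfl : j = 0 := Subsingleton.elim _ _
      · exact e0.symm
      · exact e1.symm
    have hX4 := FiniteField.pow_card_sub_one_eq_one X (left_ne_zero_of_mul_eq_one h1)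
    rw [hF] at hX4
    rcases mul_eq_zero.1 (show (X * X - 1) * (X * X + 1) = 0 by linear_combination hX4) with e | e
    · exact ⟨0, X, key 0 X (by simp [co]) (by simp [co]; linear_combination Y * e - X * h1)⟩
    · refine ⟨1, 3 * X, key 1 (3 * X) (by simp [co]; linear_combination X * h5) ?_⟩
      simp [co]
      linear_combination (-X) * h5 - Y * e + X * h1

/-- Three-dimensional parts over three elements split into three lines. -/
theorem block_three (hq : (H43.polB q).Nondegenerate) (hirr : Irr H)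
    (hH : ∀ g ∈ H, ∀ v, q ((g : Matrix ι ι F) *ᵥ v) = q v) (hF : Fintype.card F = 3)
    (hD : IsOrthogonalMDecomposition ⇑q 3 D) (h : H ≤ decompositionStabilizer D) :
    ∃ D' : Fin (t * 3) → Submodule F V, IsOrthogonalMDecomposition ⇑q 1 D' ∧ H ≤ decompositionStabilizer D' := by
  classical
  have h3 : (3 : F) = 0 := by simpa using card_cast 3 hF
  have h2 : (2 : F) ≠ 0 := fun h2 => one_ne_zero (α := F) (by linear_combination h3 - h2)
  set i0 : Fin t := ⟨0, by linarith [hD.decomp.decomp.two_le]⟩
  obtain ⟨c, -, -, φ0, hc, -, -, -, -, -, -, hφ0⟩ := odd_parts hq (nondegOn_iff.1 (hD.decomp.nondegenerate i0))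
    (j := 1) (by rw [hD.decomp.decomp.finrank_eq])
  choose e he using fun i => hD.isometric i i0
  set φ : (i : Fin t) → D i ≃ₗ[F] (Unit ⊕ (Fin 1 ⊕ Fin 1) → F) := fun i => (e i).trans φ0
  have hφ : ∀ i (w : D i), q (w : V) =
      c * φ i w (.inl ()) ^ 2 + φ i w (.inr (.inl 0)) * φ i w (.inr (.inr 0)) := fun i w => by
    rw [← he i w, hφ0]; simp [φ]
  have hcc := sq_three hF hc
  set zs : Fin 3 → F := ![0, 1, 1]
  set xs : Fin 3 → F := ![1, 1, -1]
  set ys : Fin 3 → F := ![-c, c, -c]
  set co : Fin 3 → (Unit ⊕ (Fin 1 ⊕ Fin 1) → F) := fun b =>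
    Sum.elim (fun _ => zs b) (Sum.elim (fun _ => xs b) (fun _ => ys b))
  set a : Fin t → Fin 3 → V := fun i b => ((φ i).symm (co b) : V)
  refine frame_of_vectors hirr hH h2 hD.decomp h (c := -c) (neg_ne_zero.2 hc) a (fun i b => Subtype.mem _)
    (fun i b => ?_) (fun i b b' hb => ?_) (fun i x hx hqx => ?_)
  · fin_cases b <;> simp [a, co, zs, xs, ys, hφ] <;> linear_combination c * h3
  · rw [polar_coords (φ i) (fun z => c * z (.inl ()) ^ 2 + z (.inr (.inl 0)) * z (.inr (.inr 0))) (hφ i)]
    fin_cases b <;> fin_cases b' <;>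
      first | exact absurd rfl hb | (simp [co, zs, xs, ys]; done) | (simp [co, zs, xs, ys]; ring)
  · set Z := φ i ⟨x, hx⟩ (.inl ())
    set X := φ i ⟨x, hx⟩ (.inr (.inl 0))
    set Y := φ i ⟨x, hx⟩ (.inr (.inr 0))
    have h1 : c * Z ^ 2 + X * Y = -c := (hφ i ⟨x, hx⟩).symm.trans hqx
    have key : ∀ (b : Fin 3) (l : F), l * zs b = Z → l * xs b = X → l * ys b = Y → x = l • a i b := by
      intro b l ez ex ey
      refine congrArg Subtype.val (show (⟨x, hx⟩ : D i) = l • (φ i).symm (co b) from (φ i).injective ?_)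
      rw [map_smul, LinearEquiv.apply_symm_apply]
      funext j
      rcases j with j | j | j
      · obtain rfl : j = () := Subsingleton.elim _ _
        exact ez.symm
      · obtain rfl : j = 0 := Subsingleton.elim _ _
        exact ex.symm
      · obtain rfl : j = 0 := Subsingleton.elim _ _
        exact ey.symm
    by_cases hZ : Z = 0
    · rw [hZ] at h1
      have hX : X ≠ 0 := fun e => hc (by rw [e] at h1; linear_combination h1)
      refine ⟨0, X, key 0 X (by simp [zs, hZ]) (by simp [xs]) ?_⟩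
      simp [ys]
      linear_combination -X * h1 + Y * sq_three hF hX
    · have hZZ := sq_three hF hZ
      have h1' : X * Y = c := by linear_combination h1 - c * hZZ - c * h3
      have hXX := sq_three hF (left_ne_zero_of_mul (h1' ▸ hc : X * Y ≠ 0))
      have hY : Y = c * X := by linear_combination X * h1' - Y * hXX
      rcases mul_self_eq_one_iff.1 (show (X * Z) * (X * Z) = 1 by linear_combination hXX + X * X * hZZ) with e | e
      · have hXZ : X = Z := by linear_combination Z * e - X * hZZ
        exact ⟨1, Z, key 1 Z (by simp [zs]) (by simp [xs, hXZ]) (by simp [ys, hY, hXZ, mul_comm])⟩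
      · have hXZ : X = -Z := by linear_combination Z * e - X * hZZ
        exact ⟨2, Z, key 2 Z (by simp [zs]) (by simp [xs, hXZ]) (by simp [ys, hY, hXZ, mul_comm])⟩

/-- Plus four-dimensional parts over two elements split into two minus planes. -/
theorem block_four (hq : (H43.polB q).Nondegenerate) (hirr : Irr H)
    (hH : ∀ g ∈ H, ∀ v, q ((g : Matrix ι ι F) *ᵥ v) = q v) (hF : Fintype.card F = 2)
    (hD : IsNondegenerateMDecomposition (QuadraticMap.polar ⇑q) 4 D) (hp : ∀ i, IsPlusTypeOn ⇑q (D i))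
    (h : H ≤ decompositionStabilizer D) :
    ∃ D' : Fin (t * 2) → Submodule F V, IsOrthogonalMDecomposition ⇑q 2 D' ∧ H ≤ decompositionStabilizer D' ∧
      ∀ x, ¬ IsPlusTypeOn ⇑q (D' x) := by
  classical
  have h2 : (2 : F) = 0 := by simpa using card_cast 2 hF
  have hco : ∀ i, ∃ φ : D i ≃ₗ[F] (Fin 2 ⊕ Fin 2 → F), ∀ w : D i,
      q (w : V) = φ w (.inl 0) * φ w (.inr 0) + φ w (.inl 1) * φ w (.inr 1) := by
    intro i
    obtain ⟨-, φ, hφ⟩ | ⟨hnp, -⟩ := type_cases hq (nondegOn_iff.1 (hD.nondegenerate i)) (m := 2)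
      (by rw [hD.decomp.finrank_eq])
    · exact ⟨φ, fun w => by rw [hφ]; simp [Cfsg.quadFormPlus, Fin.sum_univ_two]⟩
    · exact absurd (hp i) hnp
  choose φ hφ using hco
  -- the coordinates of a part: a pair of generators
  set L : Fin 2 → (Fin 2 → F) →ₗ[F] (Fin 2 ⊕ Fin 2 → F) := ![
    { toFun := fun u => Sum.elim ![u 0 + u 1, u 1] ![u 0, u 1]
      map_add' := fun u v => by
        funext j; rcases j with j | j <;> fin_cases j <;> simp <;> ring
      map_smul' := fun a u => by
        funext j; rcases j with j | j <;> fin_cases j <;> simp <;> ring },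
    { toFun := fun u => Sum.elim ![u 0 + u 1, u 0] ![u 0 + u 1, u 1]
      map_add' := fun u v => by
        funext j; rcases j with j | j <;> fin_cases j <;> simp <;> ring
      map_smul' := fun a u => by
        funext j; rcases j with j | j <;> fin_cases j <;> simp <;> ring }] with hL
  have hLi : ∀ b, Function.Injective (L b) := by
    intro b u v huv
    have e1 := congrFun huv (.inl 0)
    have e2 := congrFun huv (.inl 1)
    fin_cases b <;> simp [L] at e1 e2 <;> refine funext (Fin.forall_fin_two.2 ⟨?_, ?_⟩)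
    · linear_combination e1 - e2
    · exact e2
    · exact e2
    · linear_combination e1 - e2
  set f : Fin t → Fin 2 → (Fin 2 → F) →ₗ[F] V := fun i b => (D i).subtype.comp ((φ i).symm.toLinearMap.comp (L b))
  have hfi : ∀ i b, Function.Injective (f i b) := fun i b =>
    Subtype.val_injective.comp ((φ i).symm.injective.comp (hLi b))
  have hqf : ∀ i b u, q (f i b u) = u 0 * u 0 + u 0 * u 1 + u 1 * u 1 := by
    intro i b u
    show q (((φ i).symm (L b u) : D i) : V) = _
    rw [hφ, LinearEquiv.apply_symm_apply]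
    fin_cases b <;> simp [L] <;> first | linear_combination u 0 * u 1 * h2 | ring
  have haniso : ∀ u : Fin 2 → F, u 0 * u 0 + u 0 * u 1 + u 1 * u 1 = 0 → u = 0 := by
    intro u hu
    rcases elems_two hF (u 0) with e0 | e0 <;> rcases elems_two hF (u 1) with e1 | e1 <;>
      rw [e0, e1] at hu <;>
      first
        | (funext j; fin_cases j <;> simpa [e0, e1])
        | (exfalso; exact one_ne_zero (α := F) (by linear_combination hu))
        | (exfalso; exact one_ne_zero (α := F) (by linear_combination hu - h2))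
  have hpolf : ∀ i b u v, H43.polB q (f i b u) (f i b v) = u 0 * v 1 + u 1 * v 0 := by
    intro i b u v
    rw [H43.polB_apply, QuadraticMap.polar, ← map_add, hqf, hqf, hqf]
    simp only [Pi.add_apply]
    linear_combination (u 0 * v 0 + u 1 * v 1) * h2
  have hpol0 : ∀ i b b' u v, b ≠ b' → H43.polB q (f i b u) (f i b' v) = 0 := by
    intro i b b' u v hb
    show H43.polB q ((φ i).symm (L b u) : V) ((φ i).symm (L b' v) : V) = 0
    rw [polar_coords (φ i) (fun z => z (.inl 0) * z (.inr 0) + z (.inl 1) * z (.inr 1)) (hφ i)]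
    fin_cases b <;> fin_cases b' <;> first
      | exact absurd rfl hb
      | (simp [L]
         first
          | linear_combination (u 0 * v 0 + u 0 * v 1 + u 1 * v 0 + u 1 * v 1) * h2
          | linear_combination (u 0 * v 0 + u 0 * v 1 + u 1 * v 0) * h2
          | linear_combination (u 0 * v 0 + u 1 * v 0 + u 0 * v 1) * h2
          | linear_combination (u 0 * v 0 + u 0 * v 1 + u 1 * v 1) * h2
          | linear_combination (u 0 * v 0 + u 1 * v 0 + u 1 * v 1) * h2)
  set E : Fin t → Fin 2 → Submodule F V := fun i b => LinearMap.range (f i b)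
  have hval : ∀ i, ∀ x ∈ D i, q x = 1 → ∃ b, x ∈ E i b := by
    intro i x hx hqx
    set X0 := φ i ⟨x, hx⟩ (.inl 0) with hX0
    set X1 := φ i ⟨x, hx⟩ (.inl 1) with hX1
    set Y0 := φ i ⟨x, hx⟩ (.inr 0) with hY0
    set Y1 := φ i ⟨x, hx⟩ (.inr 1) with hY1
    have h1 : X0 * Y0 + X1 * Y1 = 1 := (hφ i ⟨x, hx⟩).symm.trans hqx
    have key : ∀ b u, L b u = φ i ⟨x, hx⟩ → ∃ b, x ∈ E i b := fun b u e => ⟨b, u, by
      show (((φ i).symm (L b u) : D i) : V) = x
      rw [e, LinearEquiv.symm_apply_apply]⟩
    by_cases hA : X1 = Y1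
    · by_cases hA' : X0 = Y0 + X1
      · refine key 0 ![Y0, X1] ?_
        funext j
        rcases j with j | j <;> fin_cases j <;> simp [L, ← hX0, ← hX1, ← hY0, ← hY1]
        exacts [hA'.symm, hA]
      · refine key 1 ![X1, Y1] ?_
        funext j
        rcases elems_two hF X0 with a0 | a0 <;> rcases elems_two hF Y0 with b0 | b0 <;>
          rcases elems_two hF X1 with a1 | a1 <;>
          rw [← hA, a0, b0, a1] at h1 <;> rw [a0, b0, a1] at hA' <;>
          first
            | (exfalso; exact hA' (by linear_combination (0 : F) * h2))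
            | (exfalso; exact hA' (by linear_combination h2))
            | (exfalso; exact hA' (by linear_combination -h2))
            | (exfalso; exact one_ne_zero (α := F) (by linear_combination h2 - h1))
            | (exfalso; exact one_ne_zero (α := F) (by linear_combination -h1))
            | (rcases j with j | j <;> fin_cases j <;>
                simp [L, ← hX0, ← hX1, ← hY0, ← hY1, ← hA, a0, b0, a1] <;> linear_combination h2)
    · refine key 1 ![X1, Y1] ?_
      funext j
      rcases elems_two hF X0 with a0 | a0 <;> rcases elems_two hF Y0 with b0 | b0 <;>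
        rcases elems_two hF X1 with a1 | a1 <;> rcases elems_two hF Y1 with b1 | b1 <;>
        rw [a1, b1] at hA <;> rw [a0, b0, a1, b1] at h1 <;>
        first
          | exact absurd rfl hA
          | (exfalso; exact one_ne_zero (α := F) (by linear_combination -h1))
          | (rcases j with j | j <;> fin_cases j <;> simp [L, ← hX0, ← hX1, ← hY0, ← hY1, a0, b0, a1, b1])
  obtain ⟨D', hD', hle, hEx⟩ := refine_blocks hD h (s := 2) (k' := 2) (by norm_num) two_pos rfl E
    (fun i b => by rw [LinearMap.finrank_range_of_inj (hfi i b)]; simp)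
    (fun i b => by rintro _ ⟨u, rfl⟩; exact Subtype.mem _)
    (fun i b => nondegOn_iff.2 (eq_bot_iff.2 (by
      rintro x ⟨⟨u, rfl⟩, hx'⟩
      have e0 := mem_orth.1 hx' _ ⟨![1, 0], rfl⟩
      have e1 := mem_orth.1 hx' _ ⟨![0, 1], rfl⟩
      rw [hpolf] at e0 e1
      simp at e0 e1
      have hu : u = 0 := by funext j; fin_cases j <;> assumption
      rw [hu, map_zero]; exact zero_mem _)))
    (fun i b b' hb x hx y hy => by
      obtain ⟨u, rfl⟩ := hx
      obtain ⟨v, rfl⟩ := hy
      exact hpol0 i b b' u v hb)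
    (fun g hg i j hij b => by
      have hmem : ∀ u, (g : Matrix ι ι F) *ᵥ f i b u ∈ D j := fun u =>
        hij ▸ ⟨f i b u, Subtype.mem _, Matrix.toLin'_apply _ _⟩
      obtain ⟨b0, u0, hu0⟩ := hval j _ (hmem ![1, 0]) (by rw [hH g hg, hqf]; simp)
      obtain ⟨b1, u1, hu1⟩ := hval j _ (hmem ![0, 1]) (by rw [hH g hg, hqf]; simp)
      have hb01 : b0 = b1 := by
        by_contra hne
        have h1 := hpolf i b ![1, 0] ![0, 1]
        simp at h1
        have h4 : H43.polB q ((g : Matrix ι ι F) *ᵥ f i b ![1, 0]) ((g : Matrix ι ι F) *ᵥ f i b ![0, 1]) = 1 := by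
          rw [H43.polB_apply, isometry_polar (hH g hg), ← H43.polB_apply]; exact h1
        rw [← hu0, ← hu1, hpol0 j b0 b1 u0 u1 hne] at h4
        exact zero_ne_one h4
      subst hb01
      refine ⟨b0, ?_⟩
      rintro _ ⟨_, ⟨u, rfl⟩, rfl⟩
      rw [show u = u 0 • ![1, 0] + u 1 • ![0, 1] by funext j; fin_cases j <;> simp, map_add, map_smul, map_smul,
        map_add, map_smul, map_smul, Matrix.toLin'_apply, Matrix.toLin'_apply, ← hu0, ← hu1]
      exact add_mem (Submodule.smul_mem _ _ ⟨_, rfl⟩) (Submodule.smul_mem _ _ ⟨_, rfl⟩))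
  refine ⟨D', orth_of_irr hirr hH hD' hle, hle, fun x => ?_⟩
  obtain ⟨i, b, hx⟩ := hEx x
  rw [hx]
  refine not_plus_of_aniso (by rw [LinearMap.finrank_range_of_inj (hfi i b)]; simp) ?_
  rintro _ ⟨u, rfl⟩ hqu
  rw [hqf] at hqu
  rw [haniso u hqu, map_zero]

end OE

end H98
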