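import Cfsg.Agent.H98.OrthEven.Outcome
import Cfsg.Agent.H98.OrthEven.SmallDecomp
import Cfsg.Agent.H98.OrthEven.Proper

/-!
Maximal subgroups cut out by an invariant structure.
-/

set_option autoImplicit false
set_option linter.unusedSectionVars false
set_option linter.style.haveILetI false
set_option maxHeartbeats 800000

open Cfsg.Geo
open scoped Matrix MatrixGroups

namespace H98

namespace OE

open H51.FormAsch (omega_isometry)

variable {ι : Type} [Fintype ι] [DecidableEq ι] {F : Type*} [Field F] [Fintype F]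
variable {q : QuadraticForm F (ι → F)} {H : Subgroup (GL ι F)}

local notation "V" => (ι → F)

theorem max_isometry (hH : IsMaximalIn (omegaGL ⇑q) H) :
    ∀ g ∈ H, ∀ v, q ((g : Matrix ι ι F) *ᵥ v) = q v := fun _ hg v => omega_isometry (hH.1.le hg) v

theorem eq_stab (hq : (H43.polB q).Nondegenerate) (hn : 5 ≤ Fintype.card ι) (hH : IsMaximalIn (omegaGL ⇑q) H)
    {W : Submodule F V} (hb : W ≠ ⊥) (ht : W ≠ ⊤) (h : H ≤ subspaceStabilizer W) :
    H = subspaceStabilizer W ⊓ omegaGL ⇑q :=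
  H46.eq_inf_of_maximal hH h (omega_not_subspace hq hn hb ht)

theorem eq_stab_of_lt (hq : (H43.polB q).Nondegenerate) (hn : 5 ≤ Fintype.card ι)
    (hH : IsMaximalIn (omegaGL ⇑q) H) {W : Submodule F V} (h0 : 1 ≤ Module.finrank F W)
    (h1 : Module.finrank F W < Fintype.card ι) (h : H ≤ subspaceStabilizer W) :
    H = subspaceStabilizer W ⊓ omegaGL ⇑q := by
  refine eq_stab hq hn hH (fun e => ?_) (fun e => ?_) h
  · rw [e, finrank_bot] at h0; omega
  · rw [e, finrank_top, Module.finrank_pi] at h1; omega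

theorem singular_ne_top (hq : (H43.polB q).Nondegenerate) (hn : 1 ≤ Fintype.card ι) {W : Submodule F V}
    (hs : IsTotallySingularQuad ⇑q W) : W ≠ ⊤ := by
  intro e
  haveI : Nonempty ι := Fintype.card_pos_iff.1 hn
  have h1 := hq.1 (Pi.single (Classical.arbitrary ι) 1) fun y => by
    subst e
    exact H43.polB_eq_zero_of_singular hs Submodule.mem_top Submodule.mem_top
  simp at h1

theorem eq_point (hq : (H43.polB q).Nondegenerate) (hn : 5 ≤ Fintype.card ι) (hH : IsMaximalIn (omegaGL ⇑q) H)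
    {v : V} (hv : q v ≠ 0) (h : H ≤ subspaceStabilizer (Submodule.span F {v})) :
    H = subspaceStabilizer (Submodule.span F {v}) ⊓ omegaGL ⇑q :=
  eq_stab_of_lt hq hn hH (by rw [finrank_span_singleton fun e => hv (by rw [e, QuadraticMap.map_zero])])
    (by rw [finrank_span_singleton fun e => hv (by rw [e, QuadraticMap.map_zero])]; omega) h

theorem eq_decomp (hq : (H43.polB q).Nondegenerate) (hn : 5 ≤ Fintype.card ι) (hH : IsMaximalIn (omegaGL ⇑q) H)
    {t k : ℕ} {D : Fin t → Submodule F V} (hD : IsNondegenerateMDecomposition (QuadraticMap.polar ⇑q) k D)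
    (hk : k + 3 ≤ Fintype.card ι) (h : H ≤ decompositionStabilizer D) :
    H = decompositionStabilizer D ⊓ omegaGL ⇑q :=
  H46.eq_inf_of_maximal hH h (omega_not_decomp hq hn hD hk)

theorem eq_field (hq : (H43.polB q).Nondegenerate) (hn : 6 ≤ Fintype.card ι) (hH : IsMaximalIn (omegaGL ⇑q) H)
    {r : ℕ} {K : Subalgebra F (Matrix ι ι F)} (hr : 2 ≤ r) (hK : IsFieldSubalgebra r K)
    (h : H ≤ subalgebraNormalizer K) : H = subalgebraNormalizer K ⊓ omegaGL ⇑q :=
  H46.eq_inf_of_maximal hH h (omega_not_field hq hn hr hK)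

theorem eq_subfield (hq : (H43.polB q).Nondegenerate) (hn : 5 ≤ Fintype.card ι)
    (hH : IsMaximalIn (omegaGL ⇑q) H) {F₀ : Subfield F} {r : ℕ} (hr : r.Prime)
    (hc : Fintype.card F = Nat.card F₀ ^ r) {P : GL ι F} (h : H ≤ subfieldSubgroup F₀ P) :
    H = subfieldSubgroup F₀ P ⊓ omegaGL ⇑q := by
  refine H46.eq_inf_of_maximal hH h (omega_not_subfield hq hn (fun e => ?_) P)
  subst e
  rw [Nat.card_congr (Subfield.topEquiv (K := F)).toEquiv, Nat.card_eq_fintype_card] at hc
  exact (Nat.pow_lt_pow_right Fintype.one_lt_card hr.one_lt).ne (by rw [pow_one]; exact hc)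

theorem odd_of_minus (hq : (H43.polB q).Nondegenerate) {m : ℕ} (hm : Fintype.card ι = 2 * m)
    (hminus : ¬ IsPlusTypeOn ⇑q ⊤) {F₀ : Subfield F} {r : ℕ} (hr : r.Prime)
    (hc : Fintype.card F = Nat.card F₀ ^ r) {P : GL ι F} {ζ : F} (hζ : ζ ≠ 0)
    (hR : IsQuadFormRationalStructure (fun v => ζ * q v) F₀ P) : Odd r :=
  hr.odd_of_ne_two fun e => hminus (plus_of_index_two hq hm (e ▸ hc) hζ hR)

theorem not_pair_minus (hq : (H43.polB q).Nondegenerate) (hminus : ¬ IsPlusTypeOn ⇑q ⊤) {k : ℕ}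
    {D : Fin 2 → Submodule F V} (hc : Fintype.card ι = 2 * k) (hD : IsMDecomposition k D)
    (hts : ∀ i, IsTotallySingularQuad ⇑q (D i)) : False :=
  hminus ⟨D 0, le_top, hts 0, by rw [finrank_top, Module.finrank_pi, hD.finrank_eq, hc]⟩

/-- A pair of non-degenerate halves. -/
theorem half_decomp (hq : (H43.polB q).Nondegenerate) (hH : ∀ g ∈ H, ∀ v, q ((g : Matrix ι ι F) *ᵥ v) = q v)
    {W : Submodule F V} {k : ℕ} (hk : 1 ≤ k) (hd : Module.finrank F W = k) (hc : Fintype.card ι = 2 * k)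
    (hn : IsNondegenerateOn (QuadraticMap.polar ⇑q) W) (h : H ≤ subspaceStabilizer W) :
    ∃ D : Fin 2 → Submodule F V, IsNondegenerateMDecomposition (QuadraticMap.polar ⇑q) k D ∧
      H ≤ decompositionStabilizer D := by
  have hW := nondegOn_iff.1 hn
  have hd' : Module.finrank F ↥((H43.polB q).orthogonal W) = k := by
    have h1 : Module.finrank F ↥((H43.polB q).orthogonal W) + Module.finrank F ↥W = Module.finrank F V :=
      H43.finrank_orth_add hq W
    rw [Module.finrank_pi] at h1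
    omega
  have hind : iSupIndep ![W, (H43.polB q).orthogonal W] := by
    rw [iSupIndep_pair (i := (0 : Fin 2)) (j := 1) (by decide) (fun k => by omega)]
    simpa [disjoint_iff] using hW
  refine ⟨![W, (H43.polB q).orthogonal W], ⟨⟨le_rfl, hk, ?_, hind, ?_⟩, ?_, ?_⟩, ?_⟩
  · intro i; fin_cases i
    · exact hd
    · exact hd'
  · rw [eq_top_iff, ← sup_orth_eq_top hq hW]
    exact sup_le (le_iSup_of_le 0 (by simp)) (le_iSup_of_le 1 (by simp))
  · intro i; fin_cases i
    · exact hn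
    · exact nondegOn_iff.2 (orth_orth_nondeg hq hW)
  · intro i j hij
    fin_cases i <;> fin_cases j
    · exact absurd rfl hij
    · exact fun u hu v hv => mem_orth.1 hv u hu
    · exact fun u hu v hv => by
        rw [← H43.polB_apply, H43.polB_comm]
        exact mem_orth.1 hu v hv
    · exact absurd rfl hij
  · intro g hg
    have h' := le_stab_orth hH h
    refine ⟨1, fun i => ?_⟩
    fin_cases i
    · exact map_eq_of_maps g (fun v hv => (h hg v).1 hv) le_rfl
    · exact map_eq_of_maps g (fun v hv => (h' hg v).1 hv) le_rfl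

/-- The maximal subgroups of a frame. -/
theorem frame_max (hq : (H43.polB q).Nondegenerate) (hn : 5 ≤ Fintype.card ι) (hH : IsMaximalIn (omegaGL ⇑q) H)
    {t : ℕ} {D : Fin t → Submodule F V} (hD : IsOrthogonalMDecomposition ⇑q 1 D)
    (h : H ≤ decompositionStabilizer D) :
    (2 : F) ≠ 0 ∧ (((Fintype.card F).Prime ∧ H = decompositionStabilizer D ⊓ omegaGL ⇑q) ∨
      ∃ (F₀ : Subfield F) (r : ℕ) (P : GL ι F) (ζ : F), r.Prime ∧ Fintype.card F = Nat.card F₀ ^ r ∧ ζ ≠ 0 ∧
        IsQuadFormRationalStructure (fun v => ζ * q v) F₀ P ∧ H = subfieldSubgroup F₀ P ⊓ omegaGL ⇑q) := by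
  obtain ⟨h2, hp | ⟨F₀, r, P, ζ, hr, hc, hζ, hR, hle⟩⟩ := frame_refine hq (max_isometry hH) hD h
  · exact ⟨h2, Or.inl ⟨hp, eq_decomp hq hn hH hD.decomp (by omega) h⟩⟩
  · exact ⟨h2, Or.inr ⟨F₀, r, P, ζ, hr, hc, hζ, hR, eq_subfield hq hn hH hr hc hle⟩⟩

theorem mod_four (h2 : (2 : F) ≠ 0) : Fintype.card F % 4 = 1 ∨ Fintype.card F % 4 = 3 := by
  obtain ⟨j, hj⟩ := H51.FormAsch.odd_card_of_two h2
  omega

theorem odd_decomp_char {t k : ℕ} (hk : Odd k) {D : Fin t → Submodule F V}
    (hD : IsNondegenerateMDecomposition (QuadraticMap.polar ⇑q) k D) : (2 : F) ≠ 0 := by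
  intro h2
  set i0 : Fin t := ⟨0, by linarith [hD.decomp.two_le]⟩
  have h1 := H44.even_finrank_of_alt (H43.polB (q.restrict (D i0)))
    (fun x => by rw [H43.polB_self, h2, zero_mul])
    fun x hx => (H43.restrict_nondeg (D i0) (nondegOn_iff.1 (hD.nondegenerate i0))).1 x hx
  rw [hD.decomp.finrank_eq] at h1
  exact Nat.not_even_iff_odd.2 hk h1

/-- The sign of an even decomposition with odd half dimension. -/
theorem plus_iff_mod_four (hq : (H43.polB q).Nondegenerate) {t k m : ℕ} {D : Fin t → Submodule F V}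
    (hD : IsOrthogonalMDecomposition ⇑q k D) (ht : Even t) (hk : Odd k) (hm : Fintype.card ι = 2 * m)
    (hodd : Odd m) : IsPlusTypeOn ⇑q ⊤ ↔ Fintype.card F % 4 = 1 := by
  have h2 := odd_decomp_char hk hD.decomp
  rw [(decomp_even hq hD ht hm).2 h2, hodd.neg_one_pow, FiniteField.isSquare_neg_one_iff]
  have := mod_four h2
  omega

end OE

end H98

namespace H98

namespace OE

open Cfsg.Geo
open scoped Matrix MatrixGroups

variable {ι : Type} [Fintype ι] [DecidableEq ι] {F : Type*} [Field F] [Fintype F]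
variable {q : QuadraticForm F (ι → F)} {H : Subgroup (GL ι F)}

theorem card_ne_six : Fintype.card F ≠ 6 := by
  intro h
  obtain ⟨p, hp'⟩ := CharP.exists F
  haveI := hp'
  obtain ⟨n, hp, hn⟩ := FiniteField.card F p
  rw [h] at hn
  have hd : p ∣ 6 := hn ▸ dvd_pow_self p n.ne_zero
  have hle := Nat.le_of_dvd (by norm_num) hd
  have h2 := hp.two_le
  have hnp : (n : ℕ) < 3 := by
    by_contra hc
    have h3 : 2 ^ 3 ≤ p ^ (n : ℕ) := (Nat.pow_le_pow_left h2 3).trans (Nat.pow_le_pow_right (by omega) (by omega))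
    omega
  have hn0 : 0 < (n : ℕ) := n.pos
  generalize (n : ℕ) = e at hn hnp hn0
  interval_cases p <;> interval_cases e <;> first | (norm_num at hp; done) | (exfalso; revert hn; norm_num)

theorem isOrth_pair {k : ℕ} {D : Fin 2 → Submodule F (ι → F)}
    (hD : IsNondegenerateMDecomposition (QuadraticMap.polar ⇑q) k D) (h : AreIsometricFor ⇑q (D 0) (D 1)) :
    IsOrthogonalMDecomposition ⇑q k D := by
  refine ⟨hD, fun i j => ?_⟩
  fin_cases i <;> fin_cases j
  · exact ⟨LinearEquiv.refl F _, fun w => rfl⟩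
  · exact h
  · exact isometric_symm h
  · exact ⟨LinearEquiv.refl F _, fun w => rfl⟩

/-- A pair of totally singular halves of odd dimension is not stabilised irreducibly. -/
theorem not_pair_odd (hq : (H43.polB q).Nondegenerate) (hn : 5 ≤ Fintype.card ι) {k : ℕ} (hk : Odd k)
    (hirr : Irr H) (hle : H ≤ omegaGL ⇑q) {D : Fin 2 → Submodule F (ι → F)} (hc : Fintype.card ι = 2 * k)
    (hD : IsMDecomposition k D) (hts : ∀ i, IsTotallySingularQuad ⇑q (D i)) (h : H ≤ decompositionStabilizer D) :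
    False := by
  obtain ⟨g, hg, hmap⟩ := decomp_transitive hirr hD h 0 1
  exact no_swap hq hn hc hk (hle hg) (hts 0) (hts 1) (hD.finrank_eq 0) (hD.finrank_eq 1)
    (disjoint_iff.1 (hD.indep.pairwiseDisjoint (show (0 : Fin 2) ≠ 1 by decide))) hmap

theorem decomp_ten {t k : ℕ} (hc : t * k = 10) (ht : 2 ≤ t) :
    (t = 10 ∧ k = 1) ∨ (t = 5 ∧ k = 2) ∨ (t = 2 ∧ k = 5) := by
  have hle : t ≤ 10 := Nat.le_of_dvd (by norm_num) ⟨k, hc.symm⟩
  interval_cases t <;> omega

theorem decomp_twelve {t k : ℕ} (hc : t * k = 12) (ht : 2 ≤ t) :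
    (t = 12 ∧ k = 1) ∨ (t = 6 ∧ k = 2) ∨ (t = 4 ∧ k = 3) ∨ (t = 3 ∧ k = 4) ∨ (t = 2 ∧ k = 6) := by
  have hle : t ≤ 12 := Nat.le_of_dvd (by norm_num) ⟨k, hc.symm⟩
  interval_cases t <;> omega

end OE

end H98

namespace H98

namespace OE

open Cfsg.Geo
open scoped Matrix MatrixGroups

variable {ι : Type} [Fintype ι] [DecidableEq ι] {F : Type*} [Field F] [Fintype F]
variable {q : QuadraticForm F (ι → F)}

/-- Orthogonal halves of even dimension in a plus type space are isometric. -/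
theorem halves_isometric (hq : (H43.polB q).Nondegenerate) (hplus : IsPlusTypeOn ⇑q ⊤) {k : ℕ}
    {D : Fin 2 → Submodule F (ι → F)} (hD : IsNondegenerateMDecomposition (QuadraticMap.polar ⇑q) k D)
    (hk : Even k) : AreIsometricFor ⇑q (D 0) (D 1) := by
  obtain ⟨j, hj⟩ := hk
  have hc := card_eq_mul hD.decomp
  have hW := fun i => nondegOn_iff.1 (hD.nondegenerate i)
  have key : ∀ i l, i ≠ l → IsPlusTypeOn ⇑q (D i) → IsPlusTypeOn ⇑q (D l) := by
    intro i l hil hp
    obtain ⟨U, hUW, hU, hUd⟩ := hp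
    refine plus_split hq hplus (hW l) hU (fun x hx => mem_orth.2 fun w hw => ?_) ?_
    · exact hD.orthogonal l i (Ne.symm hil) w hw x (hUW hx)
    · rw [hUd, hD.decomp.finrank_eq, hD.decomp.finrank_eq, hc]; omega
  exact isometric_of_same_type hq (hW 0) (hW 1) (m := j) (by rw [hD.decomp.finrank_eq]; omega)
    (by rw [hD.decomp.finrank_eq]; omega) ⟨key 0 1 (by decide), key 1 0 (by decide)⟩

end OE

end H98
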