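import Cfsg.Agent.H98.OrthEven.Field

/-!
A self-adjoint field of half the dimension: the orthogonal plane over it yields a larger commutative algebra.
-/

set_option autoImplicit false
set_option linter.unusedSectionVars false
set_option linter.style.haveILetI false
set_option maxHeartbeats 1000000

open Cfsg.Geo
open scoped Matrix MatrixGroups
open H51.FormAsch (IsAdj SForm sform_polar)

namespace H98

namespace OE

variable {ι : Type} [Fintype ι] [DecidableEq ι] {F : Type*} [Field F] [Fintype F]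
variable {q : QuadraticForm F (ι → F)}

local notation "V" => (ι → F)

variable {r : ℕ} {K : Subalgebra F (Matrix ι ι F)}

/-- Coordinates over the field from two independent orbits. -/
theorem exists_planeCoords (hK : IsFieldSubalgebra r K) (hn : Fintype.card ι = 2 * r) {v w : V} (hv : v ≠ 0)
    (hw : w ≠ 0) (hint : LinearMap.range (orbit K v) ⊓ LinearMap.range (orbit K w) = ⊥) :
    ∃ e : (K × K) ≃ₗ[F] V, ∀ a b : K, e (a, b) = (a : Matrix ι ι F) *ᵥ v + (b : Matrix ι ι F) *ᵥ w := by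
  let L : (K × K) →ₗ[F] V := (orbit K v).coprod (orbit K w)
  have hL : Function.Injective L := by
    rw [← LinearMap.ker_eq_bot, LinearMap.ker_eq_bot']
    rintro ⟨a, b⟩ h
    have h' : orbit K v a + orbit K w b = 0 := h
    have h1 : orbit K v a ∈ LinearMap.range (orbit K v) ⊓ LinearMap.range (orbit K w) :=
      ⟨⟨a, rfl⟩, ⟨-b, by rw [map_neg]; exact (eq_neg_of_add_eq_zero_left h').symm⟩⟩
    rw [hint, Submodule.mem_bot] at h1
    rw [h1, zero_add] at h'
    rw [(injective_iff_map_eq_zero _).1 (orbit_injective hK hv) a h1,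
      (injective_iff_map_eq_zero _).1 (orbit_injective hK hw) b h']
    rfl
  refine ⟨L.linearEquivOfInjective hL ?_, fun a b => rfl⟩
  rw [Module.finrank_prod, Module.finrank_pi, hn]
  have := hK.finrank_eq
  omega

/-- A map given in the two coordinates commutes with the field. -/
theorem exists_operator (hK : IsFieldSubalgebra r K) {v w : V} (e : (K × K) ≃ₗ[F] V)
    (he : ∀ a b : K, e (a, b) = (a : Matrix ι ι F) *ᵥ v + (b : Matrix ι ι F) *ᵥ w) (x y z t : K) :
    ∃ X : Matrix ι ι F, (∀ k ∈ K, X * k = k * X) ∧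
      ∀ a b : K, X *ᵥ e (a, b) = e (x * a + y * b, z * a + t * b) := by
  let M : (K × K) →ₗ[F] (K × K) :=
    ((LinearMap.mulLeft F x).comp (LinearMap.fst F K K) + (LinearMap.mulLeft F y).comp (LinearMap.snd F K K)).prod
      ((LinearMap.mulLeft F z).comp (LinearMap.fst F K K) + (LinearMap.mulLeft F t).comp (LinearMap.snd F K K))
  let X : Matrix ι ι F := LinearMap.toMatrix' (e.toLinearMap.comp (M.comp e.symm.toLinearMap))
  have hX : ∀ a b : K, X *ᵥ e (a, b) = e (x * a + y * b, z * a + t * b) := fun a b => by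
    simp [X, M, LinearMap.toMatrix'_mulVec]
  refine ⟨X, fun k hk => Matrix.toLin'.injective (LinearMap.ext fun u => ?_), hX⟩
  obtain ⟨⟨a, b⟩, rfl⟩ := e.surjective u
  have hcomm : ∀ c d : K, c * d = d * c := fun c d => Subtype.ext (hK.comm _ c.2 _ d.2)
  have hk' : ∀ c d : K, k *ᵥ e (c, d) = e ((⟨k, hk⟩ : K) * c, (⟨k, hk⟩ : K) * d) := fun c d => by
    simp [he, Matrix.mulVec_add, Matrix.mulVec_mulVec]
  simp only [Matrix.toLin'_apply, ← Matrix.mulVec_mulVec, hk', hX]
  congr 2 <;> simp only [mul_add, ← mul_assoc, hcomm x, hcomm y, hcomm z, hcomm t]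

/-- An operator commuting with the field is determined on two vectors spanning over it. -/
theorem operator_ext {v w : V} (e : (K × K) ≃ₗ[F] V)
    (he : ∀ a b : K, e (a, b) = (a : Matrix ι ι F) *ᵥ v + (b : Matrix ι ι F) *ᵥ w) {X Y : Matrix ι ι F}
    (hX : ∀ k ∈ K, X * k = k * X) (hY : ∀ k ∈ K, Y * k = k * Y) (h1 : X *ᵥ v = Y *ᵥ v)
    (h2 : X *ᵥ w = Y *ᵥ w) : X = Y := by
  refine Matrix.toLin'.injective (LinearMap.ext fun u => ?_)
  obtain ⟨⟨a, b⟩, rfl⟩ := e.surjective u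
  simp only [Matrix.toLin'_apply, he, Matrix.mulVec_add, Matrix.mulVec_mulVec, hX _ a.2, hX _ b.2, hY _ a.2,
    hY _ b.2]
  simp only [← Matrix.mulVec_mulVec, h1, h2]

/-- Values of operators commuting with the field, in coordinates. -/
theorem operator_val {v w : V} (e : (K × K) ≃ₗ[F] V)
    (he : ∀ a b : K, e (a, b) = (a : Matrix ι ι F) *ᵥ v + (b : Matrix ι ι F) *ᵥ w) {X : Matrix ι ι F}
    (hX : ∀ k ∈ K, X * k = k * X) (u : V) (k : K) {a b : K} (hu : X *ᵥ u = e (a, b)) :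
    X *ᵥ ((k : Matrix ι ι F) *ᵥ u) = e (k * a, k * b) := by
  rw [Matrix.mulVec_mulVec, hX _ k.2, ← Matrix.mulVec_mulVec, hu]
  simp [he, Matrix.mulVec_add, Matrix.mulVec_mulVec]

/-- The commutative algebra, odd characteristic. -/
theorem exists_gen_odd (hq : (H43.polB q).Nondegenerate) (hn : Fintype.card ι = 2 * r) (hn2 : 2 ≤ Fintype.card ι)
    (h2 : (2 : F) ≠ 0) (hK : IsFieldSubalgebra r K) (hs : IsSelfAdjointFor (QuadraticMap.polar ⇑q) K)
    {H : Subgroup (GL ι F)} (hH : ∀ g ∈ H, ∀ v, q ((g : Matrix ι ι F) *ᵥ v) = q v)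
    (hnorm : H ≤ subalgebraNormalizer K) :
    ∃ S : Set (Matrix ι ι F), (∀ x ∈ S, ∀ k ∈ K, x * k = k * x) ∧ (∀ x ∈ S, ∀ y ∈ S, x * y = y * x) ∧
      (∀ g ∈ H, ∀ x ∈ S, H46.glConj g x ∈ S) ∧
      (∀ x ∈ S, ∃ y ∈ Algebra.adjoin F S, IsAdj (QuadraticMap.polar ⇑q) x y) ∧ ∃ x ∈ S, x ∉ K := by
  classical
  haveI : Nonempty ι := Fintype.card_pos_iff.1 (by omega)
  letI : Field K := (isField_sub hK).toField
  have hsf := sform_polar hq
  set f := QuadraticMap.polar ⇑q with hf
  have move : ∀ (k : K) (a b : V), f ((k : Matrix ι ι F) *ᵥ a) b = f a ((k : Matrix ι ι F) *ᵥ b) :=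
    fun k a b => hs _ k.2 a b
  obtain ⟨v, hv⟩ := H43.exists_qmap_eq hq (by rw [Module.finrank_pi]; exact hn2) 1 one_ne_zero
  have hv0 : v ≠ 0 := fun e => one_ne_zero (α := F) (by rw [← hv, e, QuadraticMap.map_zero])
  have hvv : f v v ≠ 0 := by rw [hf, polar_self, hv, mul_one]; exact h2
  set A := LinearMap.range (orbit K v)
  have hA : A ⊓ (H43.polB q).orthogonal A = ⊥ := by
    rw [eq_bot_iff]
    rintro x ⟨hx, hx'⟩
    obtain ⟨k, hk, rfl⟩ := mem_orbit.1 hx
    rw [Submodule.mem_bot]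
    by_contra hne
    obtain ⟨y, hy, hky⟩ := hK.inv k hk fun e => hne (by rw [e, Matrix.zero_mulVec])
    have h1 := mem_orth.1 hx' _ (mem_orbit.2 ⟨y, hy, rfl⟩)
    rw [H43.polB_apply, ← hf, hs y hy, Matrix.mulVec_mulVec, ← hK.comm k hk y hy, hky, Matrix.one_mulVec] at h1
    exact hvv h1
  have hd : Module.finrank F ↥((H43.polB q).orthogonal A) + Module.finrank F ↥A = Fintype.card ι := by
    rw [← Module.finrank_pi F (ι := ι)]; exact H43.finrank_orth_add hq A
  rw [finrank_orbit hK hv0] at hd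
  obtain ⟨w, hwA, hw0⟩ := Submodule.exists_mem_ne_zero_of_ne_bot
    (p := (H43.polB q).orthogonal A) fun e => by rw [e, finrank_bot] at hd; omega
  have hKA : ∀ k ∈ K, k *ᵥ w ∈ (H43.polB q).orthogonal A := fun k hk => mem_orth.2 fun y hy => by
    obtain ⟨l, hl, rfl⟩ := mem_orbit.1 hy
    rw [H43.polB_apply, ← hf, ← hs k hk, Matrix.mulVec_mulVec]
    exact mem_orth.1 hwA _ (mem_orbit.2 ⟨_, mul_mem hk hl, rfl⟩)
  obtain ⟨e, he⟩ := exists_planeCoords hK hn hv0 hw0 (eq_bot_iff.2 fun x hx => hA ▸ ⟨hx.1, by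
    obtain ⟨k, hk, rfl⟩ := mem_orbit.1 hx.2
    exact hKA k hk⟩)
  have horth : ∀ a b : K, f ((a : Matrix ι ι F) *ᵥ v) ((b : Matrix ι ι F) *ᵥ w) = 0 := fun a b =>
    mem_orth.1 (hKA _ b.2) _ (mem_orbit.2 ⟨_, a.2, rfl⟩)
  have hmul : ∀ (a b : K) (u x : V), f ((a : Matrix ι ι F) *ᵥ u) ((b : Matrix ι ι F) *ᵥ x) =
      f (((a * b : K) : Matrix ι ι F) *ᵥ u) x := fun a b u x => by
    rw [← move b, Matrix.mulVec_mulVec, hK.comm _ b.2 _ a.2, MulMemClass.coe_mul]
  let ψ : V → K → F := fun u k => f ((k : Matrix ι ι F) *ᵥ u) u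
  have hval : ∀ a b c d : K, f (e (a, b)) (e (c, d)) = ψ v (a * c) + ψ w (b * d) := by
    intro a b c d
    have h3 : f ((b : Matrix ι ι F) *ᵥ w) ((c : Matrix ι ι F) *ᵥ v) = 0 := hsf.eq_zero_comm (horth c b)
    simp only [he, hsf.add_left, hsf.add_right, horth, h3, hmul, ψ]
    ring
  have hv00 : (1 : Matrix ι ι F) *ᵥ v = e (1, 0) := by simp [he]
  have hev : v = e (1, 0) := by simp [he]
  have hew : w = e (0, 1) := by simp [he]
  -- the functional of v separates
  let Ψ : K →ₗ[F] (K →ₗ[F] F) := LinearMap.mk₂ F (fun a b => ψ v (a * b))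
    (fun a b c => by simp [ψ, add_mul, Matrix.add_mulVec, hsf.add_left])
    (fun s a b => by simp [ψ, Matrix.smul_mulVec, hsf.smul_left])
    (fun a b c => by simp [ψ, mul_add, Matrix.add_mulVec, hsf.add_left])
    (fun s a b => by simp [ψ, Matrix.smul_mulVec, hsf.smul_left])
  have hΨ : Function.Injective Ψ := by
    rw [injective_iff_map_eq_zero]
    intro a ha
    by_contra ha0
    apply hvv
    have := LinearMap.congr_fun ha a⁻¹
    simp only [Ψ, LinearMap.mk₂_apply, mul_inv_cancel₀ ha0, LinearMap.zero_apply] at this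
    simpa [ψ] using this
  set S : Set (Matrix ι ι F) := {X | (∀ k ∈ K, X * k = k * X) ∧ IsAdj f X (-X)}
  -- the shape of a skew operator
  have shape : ∀ X ∈ S, ∃ a b : K, X *ᵥ v = e (0, a) ∧ X *ᵥ w = e (b, 0) ∧ ∀ k, ψ v (b * k) = - ψ w (a * k) := by
    rintro X ⟨hXc, hXa⟩
    obtain ⟨⟨p, a⟩, hXv⟩ := e.surjective (X *ᵥ v)
    obtain ⟨⟨b, t⟩, hXw⟩ := e.surjective (X *ᵥ w)
    have skew : ∀ u x : V, f (X *ᵥ u) x + f u (X *ᵥ x) = 0 := fun u x => by
      rw [hXa u x, Matrix.neg_mulVec, ← neg_one_smul F (X *ᵥ x), hsf.smul_right, map_neg, map_one]; ring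
    have hXk : ∀ k : K, X *ᵥ e (k, 0) = e (k * p, k * a) ∧ X *ᵥ e (0, k) = e (k * b, k * t) := fun k =>
      ⟨by rw [show e (k, 0) = (k : Matrix ι ι F) *ᵥ v by simp [he]]; exact operator_val e he hXc v k hXv.symm,
        by rw [show e (0, k) = (k : Matrix ι ι F) *ᵥ w by simp [he]]; exact operator_val e he hXc w k hXw.symm⟩
    have hp : p = 0 := by
      refine (injective_iff_map_eq_zero _).1 hΨ p (LinearMap.ext fun k => ?_)
      have h := skew (e (k, 0)) (e (1, 0))
      rw [(hXk k).1, (hXk 1).1, hval, hval] at h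
      simp only [mul_zero, zero_mul, mul_one, one_mul, show ψ w 0 = 0 by simp [ψ, hsf.zero_left], add_zero] at h
      show ψ v (p * k) = 0
      rw [mul_comm]
      exact (mul_eq_zero.1 (show (2 : F) * ψ v (k * p) = 0 by linear_combination h)).resolve_left h2
    have ht : ∀ k, ψ w (t * k) = 0 := fun k => by
      have h := skew (e (0, k)) (e (0, 1))
      rw [(hXk k).2, (hXk 1).2, hval, hval] at h
      simp only [mul_zero, zero_mul, mul_one, one_mul, show ψ v 0 = 0 by simp [ψ, hsf.zero_left], zero_add] at h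
      rw [mul_comm]
      exact (mul_eq_zero.1 (show (2 : F) * ψ w (k * t) = 0 by linear_combination h)).resolve_left h2
    have ht0 : t = 0 := by
      by_contra hne
      obtain ⟨u, hu⟩ := (hsf.nondegenerate w hw0).1
      apply hu
      obtain ⟨⟨c, d⟩, rfl⟩ := e.surjective u
      conv_lhs => arg 2; rw [hew]
      rw [hval]
      have := ht (t⁻¹ * d)
      rw [← mul_assoc, mul_inv_cancel₀ hne, one_mul] at this
      simp [this, show ψ v 0 = 0 by simp [ψ, hsf.zero_left]]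
    subst hp ht0
    refine ⟨a, b, hXv.symm, hXw.symm, fun k => ?_⟩
    have h := skew (e (0, k)) (e (1, 0))
    rw [(hXk k).2, (hXk 1).1, hval, hval] at h
    simp only [mul_zero, zero_mul, mul_one, one_mul, show ψ v 0 = 0 by simp [ψ, hsf.zero_left],
      show ψ w 0 = 0 by simp [ψ, hsf.zero_left], zero_add, add_zero] at h
    rw [mul_comm b k, mul_comm a k]
    linear_combination h
  refine ⟨S, fun X hX => hX.1, fun X hX Y hY => ?_, fun g hg X hX => ⟨fun k hk => ?_, ?_⟩, fun X hX => ?_, ?_⟩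
  · obtain ⟨a, b, hXv, hXw, hab⟩ := shape X hX
    obtain ⟨c, d, hYv, hYw, hcd⟩ := shape Y hY
    have key : d * a = b * c := by
      apply hΨ
      refine LinearMap.ext fun k => ?_
      show ψ v (d * a * k) = ψ v (b * c * k)
      rw [mul_assoc, mul_assoc, hcd, hab, mul_left_comm]
    have ev : ∀ {Z : Matrix ι ι F} (_ : ∀ k ∈ K, Z * k = k * Z) {z₁ z₂ : K} (_ : Z *ᵥ v = e (0, z₁))
        (_ : Z *ᵥ w = e (z₂, 0)) (s : K), Z *ᵥ e (0, s) = e (s * z₂, 0) ∧ Z *ᵥ e (s, 0) = e (0, s * z₁) := by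
      intro Z hZ z₁ z₂ h1 h2 s
      constructor
      · rw [show e (0, s) = (s : Matrix ι ι F) *ᵥ w by simp [he], operator_val e he hZ w s h2, mul_zero]
      · rw [show e (s, 0) = (s : Matrix ι ι F) *ᵥ v by simp [he], operator_val e he hZ v s h1, mul_zero]
    refine operator_ext e he (fun k hk => by rw [mul_assoc, hY.1 k hk, ← mul_assoc, hX.1 k hk, mul_assoc])
      (fun k hk => by rw [mul_assoc, hX.1 k hk, ← mul_assoc, hY.1 k hk, mul_assoc]) ?_ ?_
    · rw [← Matrix.mulVec_mulVec, ← Matrix.mulVec_mulVec, hXv, hYv, (ev hX.1 hXv hXw c).1, (ev hY.1 hYv hYw a).1,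
        mul_comm a d, key, mul_comm]
    · rw [← Matrix.mulVec_mulVec, ← Matrix.mulVec_mulVec, hXw, hYw, (ev hX.1 hXv hXw d).2, (ev hY.1 hYv hYw b).2,
        key]
  · have hk' : H46.glConj g⁻¹ k ∈ K := by
      rw [H46.glConj_apply]; exact (hnorm (inv_mem hg) k).1 hk
    have h := congrArg (H46.glConj g) (hX.1 _ hk')
    rwa [map_mul, map_mul, ← H46.glConj_mul, mul_inv_cancel, H46.glConj_one] at h
  · have := hsf.adj_conj (le_similarity hH hg) hX.2
    rwa [map_neg] at this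
  · exact ⟨-X, neg_mem (Algebra.subset_adjoin hX), hX.2⟩
  · -- existence
    let Λ : K →ₗ[F] F :=
      { toFun := fun k => - ψ w k
        map_add' := fun a b => by simp [ψ, Matrix.add_mulVec, hsf.add_left]; ring
        map_smul' := fun s a => by simp [ψ, Matrix.smul_mulVec, hsf.smul_left] }
    obtain ⟨b, hb⟩ := (LinearMap.injective_iff_surjective_of_finrank_eq_finrank
      Subspace.dual_finrank_eq.symm).1 hΨ Λ
    have hb' : ∀ k, ψ v (b * k) = - ψ w k := fun k => LinearMap.congr_fun hb k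
    obtain ⟨X, hXc, hX⟩ := exists_operator hK e he 0 b 1 0
    refine ⟨X, ⟨hXc, fun u x => ?_⟩, fun hXK => ?_⟩
    · obtain ⟨⟨s, t⟩, rfl⟩ := e.surjective u
      obtain ⟨⟨c, d⟩, rfl⟩ := e.surjective x
      rw [Matrix.neg_mulVec, ← neg_one_smul F (X *ᵥ _), hsf.smul_right, map_neg, map_one, hX, hX, hval, hval]
      simp only [zero_mul, one_mul, zero_add, add_zero]
      rw [show b * t * c = b * (t * c) by ring, show s * (b * d) = b * (s * d) by ring, hb', hb',
        show s * d = d * s by ring]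
      ring
    · have h1 := hX 1 0
      rw [← hev, show (X *ᵥ v : V) = e (⟨X, hXK⟩, 0) by simp [he]] at h1
      simpa using congrArg Prod.snd (e.injective h1)

/-- The commutative algebra, characteristic two. -/
theorem exists_gen_two (hq : (H43.polB q).Nondegenerate) (hn : Fintype.card ι = 2 * r) (hn2 : 2 ≤ Fintype.card ι)
    (h2 : (2 : F) = 0) (hK : IsFieldSubalgebra r K) (hs : IsSelfAdjointFor (QuadraticMap.polar ⇑q) K)
    {H : Subgroup (GL ι F)} (hH : ∀ g ∈ H, ∀ v, q ((g : Matrix ι ι F) *ᵥ v) = q v)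
    (hnorm : H ≤ subalgebraNormalizer K) :
    ∃ S : Set (Matrix ι ι F), (∀ x ∈ S, ∀ k ∈ K, x * k = k * x) ∧ (∀ x ∈ S, ∀ y ∈ S, x * y = y * x) ∧
      (∀ g ∈ H, ∀ x ∈ S, H46.glConj g x ∈ S) ∧
      (∀ x ∈ S, ∃ y ∈ Algebra.adjoin F S, IsAdj (QuadraticMap.polar ⇑q) x y) ∧ ∃ x ∈ S, x ∉ K := by
  classical
  haveI : Nonempty ι := Fintype.card_pos_iff.1 (by omega)
  letI : Field K := (isField_sub hK).toField
  have hsf := sform_polar hq
  have halt := alt_of_selfAdjoint h2 hK hs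
  obtain ⟨hsqrt, hsqinj⟩ := exists_sqrt h2 hK
  set f := QuadraticMap.polar ⇑q with hf
  have move : ∀ (k : K) (a b : V), f ((k : Matrix ι ι F) *ᵥ a) b = f a ((k : Matrix ι ι F) *ᵥ b) :=
    fun k a b => hs _ k.2 a b
  have hmul : ∀ (a b : K) (u x : V), f ((a : Matrix ι ι F) *ᵥ u) ((b : Matrix ι ι F) *ᵥ x) =
      f (((a * b : K) : Matrix ι ι F) *ᵥ u) x := fun a b u x => by
    rw [← move b, Matrix.mulVec_mulVec, hK.comm _ b.2 _ a.2, MulMemClass.coe_mul]
  have hsame : ∀ (a b : K) (u : V), f ((a : Matrix ι ι F) *ᵥ u) ((b : Matrix ι ι F) *ᵥ u) = 0 := fun a b u => by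
    rw [hmul]; exact halt _ (a * b).2 u
  obtain ⟨v, hv⟩ := H43.exists_qmap_eq hq (by rw [Module.finrank_pi]; exact hn2) 1 one_ne_zero
  have hv0 : v ≠ 0 := fun e => one_ne_zero (α := F) (by rw [← hv, e, QuadraticMap.map_zero])
  set A := LinearMap.range (orbit K v)
  obtain ⟨w, hwA⟩ : ∃ w, w ∉ A := by
    by_contra h
    push Not at h
    have h1 : A = ⊤ := eq_top_iff.2 fun x _ => h x
    have h3 := finrank_orbit hK hv0
    rw [show LinearMap.range (orbit K v) = ⊤ from h1, finrank_top, Module.finrank_pi] at h3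
    omega
  have hw0 : w ≠ 0 := fun e => hwA (e ▸ zero_mem _)
  obtain ⟨e, he⟩ := exists_planeCoords hK hn hv0 hw0 (eq_bot_iff.2 fun x ⟨hx, hx'⟩ => by
    obtain ⟨k, hk, rfl⟩ := mem_orbit.1 hx'
    rw [Submodule.mem_bot]
    by_contra hne
    obtain ⟨y, hy, hky⟩ := hK.inv k hk fun e => hne (by rw [e, Matrix.zero_mulVec])
    apply hwA
    obtain ⟨l, hl, hlk⟩ := mem_orbit.1 hx
    refine mem_orbit.2 ⟨y * l, mul_mem hy hl, ?_⟩
    rw [← Matrix.mulVec_mulVec, hlk, Matrix.mulVec_mulVec, mul_eq_one_comm.1 hky, Matrix.one_mulVec])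
  let ψ : K → F := fun k => f ((k : Matrix ι ι F) *ᵥ v) w
  have hψadd : ∀ a b, ψ (a + b) = ψ a + ψ b := fun a b => by simp [ψ, Matrix.add_mulVec, hsf.add_left]
  have hψsm : ∀ (s : F) a, ψ (s • a) = s * ψ a := fun s a => by simp [ψ, Matrix.smul_mulVec, hsf.smul_left]
  have hval : ∀ a b c d : K, f (e (a, b)) (e (c, d)) = ψ (a * d) + ψ (c * b) := by
    intro a b c d
    have h3 : f ((b : Matrix ι ι F) *ᵥ w) ((c : Matrix ι ι F) *ᵥ v) = ψ (c * b) := by
      rw [hf, QuadraticMap.polar_comm]; exact hmul c b v w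
    simp only [he, hsf.add_left, hsf.add_right, hsame, h3, zero_add, add_zero]
    simp only [hmul, ψ]
  let Ψ : K →ₗ[F] (K →ₗ[F] F) := LinearMap.mk₂ F (fun a b => ψ (a * b))
    (fun a b c => by rw [add_mul, hψadd]) (fun s a b => by rw [smul_mul_assoc, hψsm]; rfl)
    (fun a b c => by rw [mul_add, hψadd]) (fun s a b => by rw [mul_smul_comm, hψsm]; rfl)
  have hψ0 : ψ 0 = 0 := by simp [ψ, hsf.zero_left]
  have hΨ : Function.Injective Ψ := by
    rw [injective_iff_map_eq_zero]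
    intro a ha
    by_contra ha0
    have hall : ∀ k, ψ k = 0 := fun k => by
      have h := LinearMap.congr_fun ha (a⁻¹ * k)
      simpa [Ψ, mul_inv_cancel_left₀ ha0] using h
    obtain ⟨u, hu⟩ := (hsf.nondegenerate v hv0).1
    apply hu
    obtain ⟨⟨c, d⟩, rfl⟩ := e.surjective u
    rw [show v = e (1, 0) by simp [he], hval, hall, hall, add_zero]
  have hsurj := (LinearMap.injective_iff_surjective_of_finrank_eq_finrank
    Subspace.dual_finrank_eq.symm).1 hΨ
  have hext : ∀ a : K, (∀ k, ψ (a * k) = 0) → a = 0 := fun a h =>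
    (injective_iff_map_eq_zero _).1 hΨ a (LinearMap.ext h)
  have hqe : ∀ s t : K, q (e (s, t)) =
      q ((s : Matrix ι ι F) *ᵥ v) + q ((t : Matrix ι ι F) *ᵥ w) + ψ (s * t) := fun s t => by
    rw [he, QuadraticMap.map_add ⇑q, ← hf, hmul]
  set S : Set (Matrix ι ι F) := {X | (∀ k ∈ K, X * k = k * X) ∧ ∀ u, f (X *ᵥ u) u = q u}
  have hadjS : ∀ X ∈ S, IsAdj f X (1 - X) := by
    rintro X ⟨-, hX⟩ u x
    have h := hX (u + x)
    rw [Matrix.mulVec_add, hsf.add_left, hsf.add_right, hsf.add_right, hX, hX, QuadraticMap.map_add ⇑q u x, ← hf] at h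
    rw [Matrix.sub_mulVec, Matrix.one_mulVec, hsf.sub_right, hf, QuadraticMap.polar_comm ⇑q u (X *ᵥ x), ← hf]
    linear_combination h
  -- two operators differ by a field element
  have diff : ∀ X ∈ S, ∀ Y ∈ S, ∃ k ∈ K, X = Y + k := by
    intro X hX Y hY
    set D := X - Y
    have hDc : ∀ k ∈ K, D * k = k * D := fun k hk => by rw [sub_mul, mul_sub, hX.1 k hk, hY.1 k hk]
    have hD0 : ∀ u, f (D *ᵥ u) u = 0 := fun u => by rw [Matrix.sub_mulVec, hsf.sub_left, hX.2, hY.2, sub_self]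
    have hDsym : ∀ u x, f (D *ᵥ u) x = f u (D *ᵥ x) := fun u x => by
      have h := hD0 (u + x)
      rw [Matrix.mulVec_add, hsf.add_left, hsf.add_right, hsf.add_right, hD0, hD0] at h
      rw [hf, QuadraticMap.polar_comm ⇑q u, ← hf]
      linear_combination h - (f (D *ᵥ x) u) * h2
    obtain ⟨⟨a, b⟩, hv'⟩ := e.surjective (D *ᵥ v)
    obtain ⟨⟨c, d⟩, hw'⟩ := e.surjective (D *ᵥ w)
    have hDv : ∀ k : K, D *ᵥ e (k, 0) = e (k * a, k * b) := fun k => by
      rw [show e (k, 0) = (k : Matrix ι ι F) *ᵥ v by simp [he]]; exact operator_val e he hDc v k hv'.symm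
    have hDw : ∀ k : K, D *ᵥ e (0, k) = e (k * c, k * d) := fun k => by
      rw [show e (0, k) = (k : Matrix ι ι F) *ᵥ w by simp [he]]; exact operator_val e he hDc w k hw'.symm
    have hb : b = 0 := hext b fun k => by
      obtain ⟨l, rfl⟩ := hsqrt k
      have h := hD0 (e (l, 0))
      rw [hDv, hval] at h
      simp only [mul_zero, hψ0, zero_add] at h
      rwa [show b * (l * l) = l * (l * b) by ring]
    have hc : c = 0 := hext c fun k => by
      obtain ⟨l, rfl⟩ := hsqrt k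
      have h := hD0 (e (0, l))
      rw [hDw, hval] at h
      simp only [zero_mul, hψ0, add_zero] at h
      rwa [show c * (l * l) = l * c * l by ring]
    have had : a = d := sub_eq_zero.1 <| hext (a - d) fun k => by
      have h := hDsym (e (k, 0)) (e (0, 1))
      rw [hDv, hDw, hval, hval] at h
      simp only [mul_one, one_mul, mul_zero, zero_mul, hψ0, add_zero] at h
      rw [sub_mul, show ψ (a * k - d * k) = ψ (a * k) - ψ (d * k) by
        rw [eq_sub_iff_add_eq, ← hψadd, sub_add_cancel], mul_comm a, mul_comm d, h, sub_self]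
    subst hb hc had
    refine ⟨a, a.2, ?_⟩
    have h : D = (a : Matrix ι ι F) := operator_ext e he hDc (fun k hk => hK.comm _ a.2 k hk)
      (by rw [← hv']; simp [he]) (by rw [← hw']; simp [he])
    rw [← h]
    simp [D]
  refine ⟨S, fun X hX => hX.1, fun X hX Y hY => ?_, fun g hg X hX => ⟨fun k hk => ?_, fun u => ?_⟩,
    fun X hX => ⟨1 - X, sub_mem (one_mem _) (Algebra.subset_adjoin hX), hadjS X hX⟩, ?_⟩
  · obtain ⟨k, hk, rfl⟩ := diff X hX Y hY
    rw [add_mul, mul_add, hY.1 k hk]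
  · have hk' : H46.glConj g⁻¹ k ∈ K := by
      rw [H46.glConj_apply]; exact (hnorm (inv_mem hg) k).1 hk
    have h := congrArg (H46.glConj g) (hX.1 _ hk')
    rwa [map_mul, map_mul, ← H46.glConj_mul, mul_inv_cancel, H46.glConj_one] at h
  · obtain ⟨x, rfl⟩ : ∃ x, (g : Matrix ι ι F) *ᵥ x = u := ⟨_, mulVec_cancel_inv g u⟩
    rw [show H46.glConj g X *ᵥ ((g : Matrix ι ι F) *ᵥ x) = (g : Matrix ι ι F) *ᵥ (X *ᵥ x) by
      rw [Matrix.mulVec_mulVec, Matrix.mulVec_mulVec, (H46.glConj_eq_iff g X _).1 rfl], hH g hg, hf,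
      isometry_polar (hH g hg), ← hf, hX.2]
  · -- existence
    have dual : ∀ u : V, ∃ b : K, ∀ l : K, q ((l : Matrix ι ι F) *ᵥ u) = ψ (b * (l * l)) := by
      intro u
      choose s hs' using hsqrt
      have hss : ∀ l, s (l * l) = l := fun l => hsqinj _ _ (hs' _)
      let Λ : K →ₗ[F] F :=
        { toFun := fun k => q ((s k : Matrix ι ι F) *ᵥ u)
          map_add' := fun a b => by
            have e1 : s (a + b) = s a + s b := hsqinj _ _ (by
              rw [hs']
              have h2K : (2 : K) = 0 := by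
                have := congrArg (algebraMap F K) h2
                rwa [map_ofNat, map_zero] at this
              linear_combination -(hs' a) - (hs' b) - (s a * s b) * h2K)
            rw [e1, AddMemClass.coe_add, Matrix.add_mulVec, QuadraticMap.map_add ⇑q, ← hf, hsame, add_zero]
          map_smul' := fun c a => by
            obtain ⟨c', hc'⟩ : IsSquare c := H43.isSquare_of_two_eq_zero h2 c
            have e1 : s (c • a) = c' • s a := hsqinj _ _ (by
              rw [hs', smul_mul_smul_comm, hs', ← hc'])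
            rw [e1, SetLike.val_smul, Matrix.smul_mulVec, H43.qmap_smul, ← hc', RingHom.id_apply, smul_eq_mul] }
      obtain ⟨b, hb⟩ := hsurj Λ
      refine ⟨b, fun l => ?_⟩
      have h := LinearMap.congr_fun hb (l * l)
      simp only [Ψ, LinearMap.mk₂_apply, Λ, LinearMap.coe_mk, AddHom.coe_mk, hss] at h
      exact h.symm
    obtain ⟨b, hb⟩ := dual v
    obtain ⟨c, hc⟩ := dual w
    obtain ⟨X, hXc, hX⟩ := exists_operator hK e he 1 c b 0
    have hXS : X ∈ S := ⟨hXc, fun u => by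
      obtain ⟨⟨s, t⟩, rfl⟩ := e.surjective u
      rw [hX, hval, hqe, hb, hc]
      simp only [one_mul, zero_mul, add_zero, add_mul, mul_add, hψadd]
      rw [show s * (b * s) = b * (s * s) by ring, show c * t * t = c * (t * t) by ring]
      ring⟩
    refine ⟨X, hXS, fun hXK => ?_⟩
    have h1 := hsf.adj_unique (fun u x => hs X hXK u x) (hadjS X hXS)
    have h3 : (1 : Matrix ι ι F) = 0 := by
      have h4 : X + X = 1 := by nth_rw 1 [h1]; abel
      rw [← h4, ← two_smul F X, h2, zero_smul]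
    exact one_ne_zero h3

theorem exists_gen (hq : (H43.polB q).Nondegenerate) (hn : Fintype.card ι = 2 * r) (hn2 : 2 ≤ Fintype.card ι)
    (hK : IsFieldSubalgebra r K) (hs : IsSelfAdjointFor (QuadraticMap.polar ⇑q) K) {H : Subgroup (GL ι F)}
    (hH : ∀ g ∈ H, ∀ v, q ((g : Matrix ι ι F) *ᵥ v) = q v) (hnorm : H ≤ subalgebraNormalizer K) :
    ∃ S : Set (Matrix ι ι F), (∀ x ∈ S, ∀ k ∈ K, x * k = k * x) ∧ (∀ x ∈ S, ∀ y ∈ S, x * y = y * x) ∧
      (∀ g ∈ H, ∀ x ∈ S, H46.glConj g x ∈ S) ∧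
      (∀ x ∈ S, ∃ y ∈ Algebra.adjoin F S, IsAdj (QuadraticMap.polar ⇑q) x y) ∧ ∃ x ∈ S, x ∉ K := by
  by_cases h2 : (2 : F) = 0
  · exact exists_gen_two hq hn hn2 h2 hK hs hH hnorm
  · exact exists_gen_odd hq hn hn2 h2 hK hs hH hnorm

/-- A self-adjoint field of prime degree half the dimension leads to a split algebra or a quadratic field. -/
theorem half_field_reduce (hq : (H43.polB q).Nondegenerate) (hr : r.Prime) (hr2 : r ≠ 2)
    (hn : Fintype.card ι = 2 * r) (hK : IsFieldSubalgebra r K)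
    (hs : IsSelfAdjointFor (QuadraticMap.polar ⇑q) K) {H : Subgroup (GL ι F)}
    (hH : ∀ g ∈ H, ∀ v, q ((g : Matrix ι ι F) *ᵥ v) = q v) (hnorm : H ≤ subalgebraNormalizer K) :
    (∃ L : Subalgebra F (Matrix ι ι F), (∀ g ∈ H, ∀ X ∈ L, H46.glConj g X ∈ L) ∧
      (∀ X ∈ L, ∃ Y ∈ L, IsAdj (QuadraticMap.polar ⇑q) X Y) ∧
      ¬ ∀ x ∈ H51.FormAsch.centreOf L, x ≠ 0 → ∃ y ∈ H51.FormAsch.centreOf L, x * y = 1) ∨
    (∃ Z : Subalgebra F (Matrix ι ι F), IsFieldSubalgebra 2 Z ∧
      IsAdjointClosedFor (QuadraticMap.polar ⇑q) Z ∧ H ≤ subalgebraNormalizer Z) := by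
  classical
  have hn2 : 2 ≤ Fintype.card ι := by have := hr.two_le; omega
  haveI : Nonempty ι := Fintype.card_pos_iff.1 (by omega)
  have hsf := sform_polar hq
  obtain ⟨S, hSK, hSc, hSn, hSa, x₀, hx₀, hx₀K⟩ := exists_gen hq hn hn2 hK hs hH hnorm
  set T : Set (Matrix ι ι F) := (K : Set (Matrix ι ι F)) ∪ S
  set L := Algebra.adjoin F T with hL
  have hTn : ∀ g ∈ H, ∀ X ∈ T, H46.glConj g X ∈ T := by
    rintro g hg X (hX | hX)
    · exact Or.inl (by rw [H46.glConj_apply]; exact (hnorm hg X).1 hX)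
    · exact Or.inr (hSn g hg X hX)
  have hLn := H46.adjoin_normalized hTn
  have hTc : ∀ x ∈ T, ∀ y ∈ T, Commute x y := by
    rintro x (hx | hx) y (hy | hy)
    · exact hK.comm x hx y hy
    · exact (hSK y hy x hx).symm
    · exact hSK x hx y hy
    · exact hSc x hx y hy
  have hLc : ∀ x ∈ L, ∀ y ∈ L, x * y = y * x := fun x hx y hy =>
    (Algebra.commute_of_mem_adjoin_of_forall_mem_commute hy fun b hb =>
      (Algebra.commute_of_mem_adjoin_of_forall_mem_commute hx fun a ha => hTc b hb a ha).symm).eq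
  have hLa : ∀ X ∈ L, ∃ Y ∈ L, IsAdj (QuadraticMap.polar ⇑q) X Y := by
    intro X hX
    induction hX using Algebra.adjoin_induction with
    | mem y hy =>
      rcases hy with hy | hy
      · exact ⟨y, Algebra.subset_adjoin (Or.inl hy), fun u v => hs y hy u v⟩
      · obtain ⟨z, hz, hz'⟩ := hSa y hy
        exact ⟨z, Algebra.adjoin_mono Set.subset_union_right hz, hz'⟩
    | algebraMap c =>
      refine ⟨c • 1, L.smul_mem (one_mem _) _, ?_⟩
      rw [Algebra.algebraMap_eq_smul_one]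
      exact hsf.adj_smul c hsf.adj_one
    | add y z _ _ hy hz =>
      obtain ⟨a, ha, ha'⟩ := hy
      obtain ⟨b, hb, hb'⟩ := hz
      exact ⟨a + b, add_mem ha hb, hsf.adj_add ha' hb'⟩
    | mul y z _ _ hy hz =>
      obtain ⟨a, ha, ha'⟩ := hy
      obtain ⟨b, hb, hb'⟩ := hz
      exact ⟨b * a, mul_mem hb ha, hsf.adj_mul ha' hb'⟩
  have hcen : H51.FormAsch.centreOf L = L := by
    refine le_antisymm inf_le_left fun x hx => H51.FormAsch.mem_centreOf.2 ⟨hx, fun y hy => hLc y hy x hx⟩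
  by_cases hfield : ∀ x ∈ L, x ≠ 0 → ∃ y ∈ L, x * y = 1
  swap
  · exact Or.inl ⟨L, hLn, hLa, by rw [hcen]; exact hfield⟩
  right
  haveI : Nontrivial L := ⟨⟨0, 1, fun h => zero_ne_one (α := Matrix ι ι F) (congrArg Subtype.val h)⟩⟩
  have hLf : IsFieldSubalgebra (Module.finrank F L) L := ⟨hLc, hfield, rfl⟩
  have hdvd := H46.dvd_card_of_isFieldSubalgebra hLf
  have hKL : K ≤ L := fun k hk => Algebra.subset_adjoin (Or.inl hk)
  have hlt : r < Module.finrank F L := by
    have h1 : Module.finrank F (Subalgebra.toSubmodule K) < Module.finrank F (Subalgebra.toSubmodule L) :=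
      Submodule.finrank_lt_finrank_of_lt (lt_of_le_of_ne (fun _ h => hKL h) fun e => hx₀K (by
        have : x₀ ∈ Subalgebra.toSubmodule L := Algebra.subset_adjoin (Or.inr hx₀)
        rwa [← e] at this))
    rw [Subalgebra.finrank_toSubmodule, Subalgebra.finrank_toSubmodule, hK.finrank_eq] at h1
    exact h1
  have hdeg : Module.finrank F L = 2 * r := by
    rw [hn] at hdvd
    obtain ⟨c, hc⟩ := hdvd
    rcases c with _ | _ | c
    · omega
    · omega
    · exfalso
      have : Module.finrank F L * 2 ≤ Module.finrank F L * (c + 1 + 1) := Nat.mul_le_mul_left _ (by omega)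
      omega
  letI : Field L := (isField_sub hLf).toField
  haveI : Finite L := inferInstance
  set φ := FiniteField.frobeniusAlgEquivOfAlgebraic F L with hφ
  have hord : orderOf φ = 2 * r := by rw [FiniteField.orderOf_frobeniusAlgEquivOfAlgebraic F L, hdeg]
  set M := IntermediateField.fixedField (Subgroup.zpowers (φ ^ 2)) with hM
  have hM2 : Module.finrank F M = 2 := by
    have h1 : Module.finrank M L = r := by
      rw [IntermediateField.finrank_fixedField_eq_card, Nat.card_zpowers, orderOf_pow, hord,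
        Nat.gcd_eq_right (Dvd.intro r rfl), Nat.mul_div_cancel_left _ two_pos]
    have h2 := Module.finrank_mul_finrank F M L
    rw [h1, hdeg] at h2
    exact Nat.eq_of_mul_eq_mul_right hr.pos h2
  -- membership by a power
  have hpow : ∀ (x : L) (j : ℕ), (φ ^ j) x = x ^ Fintype.card F ^ j := by
    intro x j
    induction j with
    | zero => simp
    | succ j ih => rw [pow_succ', AlgEquiv.mul_apply, ih, hφ, FiniteField.coe_frobeniusAlgEquivOfAlgebraic]
                   show (x ^ Fintype.card F ^ j) ^ Fintype.card F = x ^ Fintype.card F ^ (j + 1)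
                   rw [← pow_mul, ← pow_succ]
  have hmemM : ∀ x : L, x ∈ M ↔ x ^ Fintype.card F ^ 2 = x := by
    intro x
    rw [hM, IntermediateField.mem_fixedField_iff, ← hpow]
    refine ⟨fun h => h _ (Subgroup.mem_zpowers _), fun h f hf => ?_⟩
    have hle : Subgroup.zpowers (φ ^ 2) ≤ MulAction.stabilizer (L ≃ₐ[F] L) x :=
      Subgroup.zpowers_le.2 (MulAction.mem_stabilizer_iff.2 h)
    exact MulAction.mem_stabilizer_iff.1 (hle hf)
  set Z : Subalgebra F (Matrix ι ι F) := M.toSubalgebra.map L.val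
  have hmemZ : ∀ X, X ∈ Z ↔ X ∈ L ∧ X ^ Fintype.card F ^ 2 = X := by
    intro X
    constructor
    · rintro ⟨x, hx, rfl⟩
      refine ⟨x.2, ?_⟩
      have h := congrArg Subtype.val ((hmemM x).1 hx)
      simpa using h
    · rintro ⟨hX, hXp⟩
      exact ⟨⟨X, hX⟩, (hmemM _).2 (Subtype.ext (by simpa using hXp)), rfl⟩
  refine ⟨Z, ⟨fun x hx y hy => hLc x ((hmemZ x).1 hx).1 y ((hmemZ y).1 hy).1, ?_, ?_⟩, ?_, ?_⟩
  · rintro _ ⟨x, hx, rfl⟩ hx0
    have hx0' : x ≠ 0 := fun h => hx0 (by rw [h, map_zero])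
    exact ⟨_, ⟨x⁻¹, M.inv_mem hx, rfl⟩, by rw [← map_mul, mul_inv_cancel₀ hx0', map_one]⟩
  · rw [← (Subalgebra.equivMapOfInjective M.toSubalgebra L.val Subtype.val_injective).toLinearEquiv.finrank_eq]
    exact hM2
  · intro X hX
    obtain ⟨hXL, hXp⟩ := (hmemZ X).1 hX
    obtain ⟨Y, hY, hXY⟩ := hLa X hXL
    refine ⟨Y, (hmemZ Y).2 ⟨hY, ?_⟩, hXY⟩
    have hp : ∀ j : ℕ, IsAdj (QuadraticMap.polar ⇑q) (X ^ j) (Y ^ j) := by
      intro j
      induction j with
      | zero => simpa using hsf.adj_one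
      | succ j ih => rw [pow_succ, pow_succ']; exact hsf.adj_mul ih hXY
    have h := hp (Fintype.card F ^ 2)
    rw [hXp] at h
    exact (hsf.adj_unique hXY h).symm
  · refine H46.le_subalgebraNormalizer fun g hg X hX => ?_
    obtain ⟨hXL, hXp⟩ := (hmemZ X).1 hX
    exact (hmemZ _).2 ⟨hLn g hg X hXL, by rw [← map_pow, hXp]⟩

end OE

end H98
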