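import Cfsg.Agent.H98.OrthEven.TensorCases
import Cfsg.Agent.H98.OrthEven.Disc
import Cfsg.Agent.H51.FormAsch.OrthOutcome

/-!
Dimension eight: an extraspecial or tensor power structure makes plus type.
-/

set_option autoImplicit false
set_option linter.unusedSectionVars false
set_option linter.style.haveILetI false
set_option maxHeartbeats 800000

open Cfsg.Geo
open scoped Matrix MatrixGroups Kronecker commutatorElement

namespace H98

namespace OE

open H51.FormAsch (sform_polar IsAdj centreOf mem_centreOf PowerData AbelianData unc matCoords_unc)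

variable {ι : Type} [Fintype ι] [DecidableEq ι] {F : Type*} [Field F] [Fintype F]
variable {q : QuadraticForm F (ι → F)}

local notation "V" => (ι → F)

/-- A perfect spanning group fixes every line it permutes in the conjugation action. -/
theorem commute_of_perfect_scaling [Nonempty ι] {H : Subgroup (GL ι F)} (hp : ⁅H, H⁆ = H)
    (hspan : Algebra.adjoin F (matrixSet H) = ⊤) {X : Matrix ι ι F}
    (h : ∀ g ∈ H, ∃ c : F, H46.glConj g X = c • X) : ∃ c : F, X = c • 1 := by
  by_cases hX : X = 0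
  · exact ⟨0, by rw [hX, zero_smul]⟩
  let St : Subgroup (GL ι F) :=
    { carrier := {g | H46.glConj g X = X}
      one_mem' := H46.glConj_one X
      mul_mem' := fun {a b} ha hb => by
        show H46.glConj (a * b) X = X
        rw [H46.glConj_mul, hb, ha]
      inv_mem' := fun {a} ha => by
        show H46.glConj a⁻¹ X = X
        conv_lhs => rw [← (ha : H46.glConj a X = X)]
        rw [← H46.glConj_mul, inv_mul_cancel, H46.glConj_one] }
  have hle : H ≤ St := by
    conv_lhs => rw [← hp]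
    rw [Subgroup.commutator_le]
    intro a ha b hb
    obtain ⟨c, hc⟩ := h a ha
    obtain ⟨d, hd⟩ := h b hb
    obtain ⟨c', hc'⟩ := h a⁻¹ (inv_mem ha)
    obtain ⟨d', hd'⟩ := h b⁻¹ (inv_mem hb)
    show H46.glConj (a * b * a⁻¹ * b⁻¹) X = X
    have h1 := H46.glConj_mul a a⁻¹ X
    have h2 := H46.glConj_mul b b⁻¹ X
    rw [mul_inv_cancel, H46.glConj_one, hc', map_smul, hc, smul_smul] at h1
    rw [mul_inv_cancel, H46.glConj_one, hd', map_smul, hd, smul_smul] at h2
    have e1 : c' * c = 1 := smul_left_injective F hX (h1.symm.trans (one_smul F X).symm)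
    have e2 : d' * d = 1 := smul_left_injective F hX (h2.symm.trans (one_smul F X).symm)
    simp only [H46.glConj_mul, hd', hc', hd, hc, map_smul, smul_smul]
    rw [show d' * (c' * (d * c)) = (c' * c) * (d' * d) by ring, e1, e2, one_mul, one_smul]
  refine H46.eq_scalar_of_commute_generators hspan fun s hs => ?_
  obtain ⟨g, hg, rfl⟩ := hs
  exact ((H46.glConj_eq_iff g X X).1 (hle hg)).symm

/-- A tensor cube makes plus type. -/
theorem plus_of_power (hq : (H43.polB q).Nondegenerate) (hn : Fintype.card ι = 8) {H : Subgroup (GL ι F)}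
    (hH : ∀ g ∈ H, ∀ v, q ((g : Matrix ι ι F) *ᵥ v) = q v) {a k : ℕ}
    (hd : PowerData (H ⊔ scalars ι F) a k) (hc : Fintype.card ι = a ^ k) : IsPlusTypeOn ⇑q ⊤ := by
  classical
  haveI : Nonempty ι := Fintype.card_pos_iff.1 (by omega)
  obtain ⟨ha, hk, φ, hcom, hgen, -, -, hD⟩ := hd
  have ha2 : a = 2 := by
    by_contra hne
    have h1 : 3 ^ 2 ≤ a ^ k := (Nat.pow_le_pow_left (by omega) 2).trans (Nat.pow_le_pow_right (by omega) hk)
    omega
  subst ha2
  choose D hDG hDp hDs hDA using hD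
  have hDH : ∀ i, D i ≤ H := fun i => by
    rw [← hDp i]
    refine (Subgroup.commutator_mono (hDG i) (hDG i)).trans ?_
    rw [H46.commutator_sup_scalars]
    exact Subgroup.commutator_le_self H
  set H' : Subgroup (GL ι F) := ⨆ i, D i
  have hH' : H' ≤ H := iSup_le hDH
  have hspan : Algebra.adjoin F (matrixSet H') = ⊤ := by
    rw [eq_top_iff, ← hgen, Algebra.adjoin_le_iff]
    intro X hX
    obtain ⟨i, hi⟩ := Set.mem_iUnion.1 hX
    have h1 : (φ i).range ≤ Algebra.adjoin F (matrixSet H') := by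
      rw [← hDA i]
      exact Algebra.adjoin_mono (Set.image_mono (le_iSup D i))
    exact h1 hi
  have hperf : ⁅H', H'⁆ = H' := le_antisymm (Subgroup.commutator_le_self H') (iSup_le fun i => by
    rw [← hDp i]
    exact Subgroup.commutator_mono (le_iSup D i) (le_iSup D i))
  set i0 : Fin k := ⟨0, by omega⟩
  set A := (φ i0).range with hA
  have hAeq : A = Algebra.adjoin F (matrixSet (D i0)) := (hDA i0).symm
  have hAn : ∀ g ∈ H', ∀ X ∈ A, H46.glConj g X ∈ A := by
    let N : Subgroup (GL ι F) :=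
      { carrier := {g | ∀ X, X ∈ A ↔ H46.glConj g X ∈ A}
        one_mem' := fun X => by rw [H46.glConj_one]
        mul_mem' := fun {a b} ha hb X => by rw [H46.glConj_mul, ← ha, ← hb]
        inv_mem' := fun {a} ha X => by
          rw [ha (H46.glConj a⁻¹ X), ← H46.glConj_mul, mul_inv_cancel, H46.glConj_one] }
    suffices hle : H' ≤ N from fun g hg X hX => (hle hg X).1 hX
    refine iSup_le fun i => ?_
    intro g hg
    have key : ∀ g ∈ D i, ∀ X ∈ A, H46.glConj g X ∈ A := by
      intro g hg X hX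
      by_cases hi : i = i0
      · subst hi
        rw [hAeq] at hX ⊢
        have hgA : ∀ h ∈ D i0, (h : Matrix ι ι F) ∈ Algebra.adjoin F (matrixSet (D i0)) := fun h hh =>
          Algebra.subset_adjoin (H46.mem_matrixSet hh)
        rw [H46.glConj_apply]
        exact mul_mem (mul_mem (hgA g hg) hX) (hgA g⁻¹ (inv_mem hg))
      · obtain ⟨Y, hY⟩ : (g : Matrix ι ι F) ∈ (φ i).range := by
          rw [← hDA i]; exact Algebra.subset_adjoin (H46.mem_matrixSet hg)
        obtain ⟨Z, rfl⟩ := hX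
        have hc' := hcom i i0 hi Y Z
        rw [show φ i Y = (g : Matrix ι ι F) from hY] at hc'
        show H46.glConj g (φ i0 Z) ∈ A
        rw [(H46.glConj_eq_iff g (φ i0 Z) (φ i0 Z)).2 hc'.eq]
        exact ⟨Z, rfl⟩
    intro X
    refine ⟨key g hg X, fun h => ?_⟩
    have h2 := key g⁻¹ (inv_mem hg) _ h
    rwa [← H46.glConj_mul, inv_mul_cancel, H46.glConj_one] at h2
  haveI : Nonempty (Fin 2) := ⟨0⟩
  have hinj : Function.Injective (φ i0) := RingHom.injective (φ i0).toRingHom
  have hZ : centreOf A = ⊥ := by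
    rw [eq_bot_iff]
    intro z hz
    obtain ⟨⟨Z, rfl⟩, hzc⟩ := mem_centreOf.1 hz
    obtain ⟨c, hc'⟩ := H46.eq_scalar_of_commute_generators (S := (Set.univ : Set (Matrix (Fin 2) (Fin 2) F)))
      (Algebra.adjoin_univ F _) (X := Z) fun Y _ => hinj (by
        show φ i0 (Z * Y) = φ i0 (Y * Z)
        rw [map_mul, map_mul]
        exact (hzc _ ⟨Y, rfl⟩).symm)
    exact Algebra.mem_bot.2 ⟨c, by
      show algebraMap F _ c = φ i0 Z
      rw [hc', map_smul, map_one, Algebra.algebraMap_eq_smul_one]⟩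
  have hfin : Module.finrank F A = 4 := by
    rw [← (AlgEquiv.ofInjective (φ i0) hinj).toLinearEquiv.finrank_eq, Module.finrank_matrix]
    simp
  have hbot : A ≠ ⊥ := fun e => by rw [e, Subalgebra.finrank_bot] at hfin; omega
  have htop : A ≠ ⊤ := fun e => by
    rw [e, (Subalgebra.topEquiv (R := F) (A := Matrix ι ι F)).toLinearEquiv.finrank_eq, Module.finrank_matrix,
      hn] at hfin
    simp at hfin
  have hirr : Irr H' := irr_iff.2 (H46.actsIrreducibly_of_adjoin hspan)
  have hH'q : ∀ g ∈ H', ∀ v, q ((g : Matrix ι ι F) *ᵥ v) = q v := fun g hg => hH g (hH' hg)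
  have hadj : ∀ X ∈ A, ∃ Y ∈ A, IsAdj (QuadraticMap.polar ⇑q) X Y := by
    rw [hAeq]
    exact fun X hX => (sform_polar hq).adj_mem_adjoin
      (le_similarity fun g hg => hH g (hDH i0 hg)) hX
  obtain ⟨a, m, e, P, S, C, κ, hle, hT⟩ := exists_tensorData hq (by omega) hirr hAn hadj hbot htop hZ
  have hcard := hT.card_eq
  obtain rfl : a = 2 := by
    have h1 := hT.two_le_left
    by_contra hne
    have := Nat.mul_le_mul (show 3 ≤ a by omega) (show 3 ≤ m by omega)
    omega
  by_cases halt : κ = -1 ∨ (2 : F) = 0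
  · obtain ⟨hC, hC0⟩ := hT.alternating hirr hH'q halt
    exact plus_of_pure rfl (hT.pure_zero hirr hH'q hC0 hC)
  exfalso
  push Not at halt
  have hκ := hT.sign.resolve_right halt.1
  obtain ⟨W, hW⟩ := hT.unitS
  set J := ((W⁻¹ : (Matrix (Fin 2) (Fin 2) F)ˣ) : Matrix (Fin 2) (Fin 2) F) * altTwo F with hJ
  have hSJ : S * J = altTwo F := by rw [hJ, ← mul_assoc, ← hW, W.mul_inv, one_mul]
  haveI : Nonempty (Fin m) := ⟨⟨0, by linarith [hT.two_le_right]⟩⟩
  obtain ⟨c, hc'⟩ := commute_of_perfect_scaling hperf hspan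
    (X := H46.matCoords e P (H46.kronOne (Fin 2) (Fin m) F J)) (fun g hg => by
      obtain ⟨x, y, hxy⟩ := hT.mem g hg
      obtain ⟨μ, -, hx, -⟩ := hT.similitude hH'q hg hxy
      have hdx : (x : Matrix (Fin 2) (Fin 2) F).det ≠ 0 := ((Matrix.isUnit_iff_isUnit_det _).1 x.isUnit).ne_zero
      refine ⟨μ / (x : Matrix (Fin 2) (Fin 2) F).det, ?_⟩
      have hxJ : (x : Matrix (Fin 2) (Fin 2) F) * J =
          (μ / (x : Matrix (Fin 2) (Fin 2) F).det) • (J * (x : Matrix (Fin 2) (Fin 2) F)) := by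
        refine ((((Matrix.isUnit_transpose _).2 x.isUnit).mul ⟨W, hW⟩)).mul_left_cancel ?_
        rw [Matrix.mul_smul, ← mul_assoc, hx, Matrix.smul_mul, hSJ, mul_assoc, ← mul_assoc S, hSJ, ← mul_assoc,
          altTwo_sim, smul_smul, div_mul_cancel₀ _ hdx]
      rw [H46.glConj_eq_iff, hxy, H46.kronOne_apply, Matrix.smul_mul, ← map_mul, ← map_mul, ← map_smul,
        ← Matrix.mul_kronecker_mul, ← Matrix.mul_kronecker_mul, hxJ, one_mul, mul_one, Matrix.smul_kronecker])
  have hJc : J = c • 1 := H46.kronOne_injective (μ := Fin m) ((H46.matCoords e P).injective (by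
    rw [hc', map_smul, map_smul, map_one, map_one]))
  rw [hJc, Matrix.mul_smul, mul_one] at hSJ
  have h01 := congrFun (congrFun hSJ 0) 1
  have h10 := congrFun (congrFun hSJ 1) 0
  simp only [Matrix.smul_apply, smul_eq_mul, hT.symS 0 1, hκ, one_mul] at h10
  simp [altTwo] at h01 h10
  exact halt.2 (by linear_combination h10 - h01)

/-- An extraspecial structure makes plus type. -/
theorem plus_of_abelian (hq : (H43.polB q).Nondegenerate) (hn : Fintype.card ι = 8) {H : Subgroup (GL ι F)}
    (hH : ∀ g ∈ H, ∀ v, q ((g : Matrix ι ι F) *ᵥ v) = q v) {r k : ℕ}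
    (hd : AbelianData (H ⊔ scalars ι F) r k) : IsPlusTypeOn ⇑q ⊤ := by
  classical
  haveI : Nonempty ι := Fintype.card_pos_iff.1 (by omega)
  haveI : Nontrivial ι := Fintype.one_lt_card_iff_nontrivial.1 (by omega)
  have hr : r = 2 := by
    have h8 : r ∣ 2 ^ 3 := ⟨r ^ (k - 1), by
      rw [← pow_succ', Nat.sub_add_cancel hd.one_le, ← hd.card_eq, hn]; norm_num⟩
    exact (Nat.prime_dvd_prime_iff_eq hd.prime Nat.prime_two).1 (hd.prime.dvd_of_dvd_pow h8)
  have h2 : (2 : F) ≠ 0 := fun h => hd.card_ne (by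
    rw [hn]; push_cast; linear_combination (4 : F) * h)
  obtain ⟨N, hZN, hNG, -, hspan, hab, hpow, -, -, -⟩ := hd.exists_group
  subst hr
  have hs := sform_polar hq
  set f := QuadraticMap.polar ⇑q
  -- the isometries of the group
  set R := N ⊓ H
  have hdec : ∀ x ∈ N, ∃ r ∈ R, ∃ z ∈ scalars ι F, x = r * z := by
    intro x hx
    obtain ⟨h, hh, z, hz, rfl⟩ := Subgroup.mem_sup_of_normal_right.1 (hNG hx)
    by_cases hzN : z ∈ N
    · exact ⟨h, ⟨by simpa using mul_mem hx (inv_mem hzN), hh⟩, z, hz, rfl⟩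
    · exact absurd (hZN hz) hzN
  obtain ⟨x₀, hx₀, y₀, hy₀, hxy₀⟩ : ∃ x ∈ R, ∃ y ∈ R, x * y ≠ y * x := by
    by_contra hc
    push Not at hc
    refine H46.not_adjoin_top_of_comm (R := N) (fun x hx y hy => ?_) hspan
    obtain ⟨r, hr, z, hz, rfl⟩ := hdec x hx
    obtain ⟨s, hs', w, hw, rfl⟩ := hdec y hy
    have cz : ∀ g, z * g = g * z := fun g => H46.scalars_mul_comm hz g
    have cw : ∀ g, w * g = g * w := fun g => H46.scalars_mul_comm hw g
    calc r * z * (s * w) = r * s * (z * w) := by rw [mul_assoc, ← mul_assoc z, cz s]; simp only [mul_assoc]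
      _ = s * r * (w * z) := by rw [hc r hr s hs', cz w]
      _ = s * w * (r * z) := by rw [mul_assoc s w, ← mul_assoc w r, cw r]; simp only [mul_assoc]
  -- scalar isometries are plus or minus one
  have hscal : ∀ g ∈ R, g ∈ scalars ι F → (g : Matrix ι ι F) = 1 ∨ (g : Matrix ι ι F) = -1 := by
    intro g hg hgs
    obtain ⟨c, rfl⟩ := H46.exists_scl hgs
    obtain ⟨v, hv⟩ := H43.exists_qmap_eq hq (by rw [Module.finrank_pi]; omega) 1 one_ne_zero
    have h1 := hH _ hg.2 v
    rw [H46.scl_val, Matrix.smul_mulVec, Matrix.one_mulVec, H43.qmap_smul, hv, mul_one] at h1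
    rw [H46.scl_val]
    rcases mul_self_eq_one_iff.1 (show (c : F) * c = 1 by linear_combination h1) with e | e <;> rw [e]
    · exact Or.inl (one_smul _ _)
    · exact Or.inr (by rw [neg_smul, one_smul])
  have hsq : ∀ g ∈ R, (g : Matrix ι ι F) * g = 1 ∨ (g : Matrix ι ι F) * g = -1 := by
    intro g hg
    have := hscal (g ^ 2) (pow_mem hg 2) (hpow g hg.1)
    rwa [pow_two, Units.val_mul] at this
  have hanti : (x₀ : Matrix ι ι F) * y₀ = -((y₀ : Matrix ι ι F) * x₀) := by
    have h1 := hscal (x₀ * y₀ * x₀⁻¹ * y₀⁻¹) (mul_mem (mul_mem (mul_mem hx₀ hy₀) (inv_mem hx₀)) (inv_mem hy₀))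
      (hab x₀ hx₀.1 y₀ hy₀.1)
    rcases h1 with h1 | h1
    · exact absurd (commutatorElement_eq_one_iff_mul_comm.1 (Units.ext h1)) hxy₀
    · have h2' := congrArg (· * ((y₀ : Matrix ι ι F) * x₀)) h1
      simp only [neg_mul, one_mul] at h2'
      rw [← h2', ← Units.val_mul y₀ x₀, ← Units.val_mul, ← Units.val_mul]
      congr 1
      group
  have hadj : ∀ g ∈ R, ∀ ε : F, (g : Matrix ι ι F) * g = ε • 1 → (ε = 1 ∨ ε = -1) →
      IsAdj f (g : Matrix ι ι F) (ε • (g : Matrix ι ι F)) := by
    intro g hg ε hε hεs u v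
    have hεε : ε * ε = 1 := by rcases hεs with e | e <;> rw [e] <;> ring
    have hv : (g : Matrix ι ι F) *ᵥ (ε • ((g : Matrix ι ι F) *ᵥ v)) = v := by
      rw [Matrix.mulVec_smul, Matrix.mulVec_mulVec, hε, Matrix.smul_mulVec, Matrix.one_mulVec, smul_smul, hεε,
        one_smul]
    conv_lhs => rw [← hv]
    rw [show f ((g : Matrix ι ι F) *ᵥ u) ((g : Matrix ι ι F) *ᵥ (ε • ((g : Matrix ι ι F) *ᵥ v))) =
      f u (ε • ((g : Matrix ι ι F) *ᵥ v)) from isometry_polar (hH g hg.2) _ _, Matrix.smul_mulVec]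
  -- two anticommuting elements with the same square
  obtain ⟨ε, hεs, x, hx, y, hy, hxx, hyy, hxy⟩ : ∃ ε : F, (ε = 1 ∨ ε = -1) ∧ ∃ x ∈ R, ∃ y ∈ R,
      (x : Matrix ι ι F) * x = ε • 1 ∧ (y : Matrix ι ι F) * y = ε • 1 ∧
      (x : Matrix ι ι F) * y = -((y : Matrix ι ι F) * x) := by
    set X := (x₀ : Matrix ι ι F)
    set Y := (y₀ : Matrix ι ι F)
    have hYX : Y * X = -(X * Y) := by rw [hanti, neg_neg]
    have hxZ : X * (X * Y) = -(X * Y * X) := by rw [mul_assoc X Y X, hYX, mul_neg, neg_neg]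
    have hyZ : Y * (X * Y) = -(X * Y * Y) := by rw [← mul_assoc, hYX, neg_mul]
    have hzz : X * Y * (X * Y) = -((X * X) * (Y * Y)) := by
      rw [mul_assoc X Y, hyZ, mul_neg, mul_assoc X Y Y, ← mul_assoc X X]
    rcases hsq x₀ hx₀ with h1 | h1 <;> rcases hsq y₀ hy₀ with h3 | h3
    · exact ⟨1, Or.inl rfl, x₀, hx₀, y₀, hy₀, by rw [h1, one_smul], by rw [h3, one_smul], hanti⟩
    · refine ⟨1, Or.inl rfl, x₀, hx₀, x₀ * y₀, mul_mem hx₀ hy₀, by rw [h1, one_smul], ?_, ?_⟩
      · rw [Units.val_mul, hzz, h1, h3, one_smul, one_mul, neg_neg]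
      · rw [Units.val_mul]; exact hxZ
    · refine ⟨1, Or.inl rfl, y₀, hy₀, x₀ * y₀, mul_mem hx₀ hy₀, by rw [h3, one_smul], ?_, ?_⟩
      · rw [Units.val_mul, hzz, h1, h3, one_smul, mul_one, neg_neg]
      · rw [Units.val_mul]; exact hyZ
    · exact ⟨-1, Or.inr rfl, x₀, hx₀, y₀, hy₀, by rw [h1, neg_smul, one_smul], by rw [h3, neg_smul, one_smul], hanti⟩
  have hax := hadj x hx ε hxx hεs
  have hay := hadj y hy ε hyy hεs
  rcases hεs with rfl | rfl
  · -- two isometric orthogonal halves
    rw [one_smul] at hxx hax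
    set U := LinearMap.ker (Matrix.toLin' (x : Matrix ι ι F) - LinearMap.id) with hU
    set U' := LinearMap.ker (Matrix.toLin' (x : Matrix ι ι F) + LinearMap.id) with hU'
    have memU : ∀ v, v ∈ U ↔ (x : Matrix ι ι F) *ᵥ v = v := fun v => by
      rw [hU, LinearMap.mem_ker, LinearMap.sub_apply, Matrix.toLin'_apply, LinearMap.id_apply, sub_eq_zero]
    have memU' : ∀ v, v ∈ U' ↔ (x : Matrix ι ι F) *ᵥ v = -v := fun v => by
      rw [hU', LinearMap.mem_ker, LinearMap.add_apply, Matrix.toLin'_apply, LinearMap.id_apply,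
        add_eq_zero_iff_eq_neg]
    have horth : ∀ u ∈ U, ∀ v ∈ U', f u v = 0 := by
      intro u hu v hv
      have h1 := hax u v
      rw [(memU u).1 hu, (memU' v).1 hv, ← neg_one_smul F v, hs.smul_right] at h1
      exact (mul_eq_zero.1 (show (2 : F) * f u v = 0 by simp at h1; linear_combination h1)).resolve_left h2
    have hdis : U ⊓ U' = ⊥ := eq_bot_iff.2 fun v hv => by
      have h1 := ((memU v).1 hv.1).symm.trans ((memU' v).1 hv.2)
      rw [Submodule.mem_bot]
      exact (smul_eq_zero.1 (show (2 : F) • v = 0 by rw [two_smul]; nth_rw 2 [h1]; rw [add_neg_cancel])).resolve_left h2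
    have hsup : U ⊔ U' = ⊤ := by
      rw [eq_top_iff]
      intro v _
      rw [show v = (2⁻¹ : F) • (v + (x : Matrix ι ι F) *ᵥ v) + (2⁻¹ : F) • (v - (x : Matrix ι ι F) *ᵥ v) by
        rw [← smul_add, show v + (x : Matrix ι ι F) *ᵥ v + (v - (x : Matrix ι ι F) *ᵥ v) = (2 : F) • v by
          rw [two_smul]; abel, smul_smul, inv_mul_cancel₀ h2, one_smul]]
      refine Submodule.add_mem_sup ((memU _).2 ?_) ((memU' _).2 ?_)
      · rw [Matrix.mulVec_smul, Matrix.mulVec_add, Matrix.mulVec_mulVec, hxx, Matrix.one_mulVec, add_comm]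
      · rw [Matrix.mulVec_smul, Matrix.mulVec_sub, Matrix.mulVec_mulVec, hxx, Matrix.one_mulVec, ← smul_neg,
          neg_sub]
    have hmap : U.map (Matrix.toLin' (y : Matrix ι ι F)) = U' := by
      apply le_antisymm
      · rintro _ ⟨v, hv, rfl⟩
        rw [memU', Matrix.toLin'_apply, Matrix.mulVec_mulVec, hxy, Matrix.neg_mulVec, ← Matrix.mulVec_mulVec,
          (memU v).1 hv]
      · intro v hv
        refine ⟨(y : Matrix ι ι F) *ᵥ v, (memU _).2 ?_, ?_⟩
        · rw [Matrix.mulVec_mulVec, hxy, Matrix.neg_mulVec, ← Matrix.mulVec_mulVec, (memU' v).1 hv,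
            Matrix.mulVec_neg, neg_neg]
        · rw [Matrix.toLin'_apply, Matrix.mulVec_mulVec, hyy, one_smul, Matrix.one_mulVec]
    have hiso := isometric_of_map (hH y hy.2) hmap
    have hfin : Module.finrank F U = Module.finrank F U' := by
      obtain ⟨e, -⟩ := hiso; exact e.finrank_eq
    have hsum := Submodule.finrank_sup_add_finrank_inf_eq U U'
    rw [hsup, hdis, finrank_top, finrank_bot, Module.finrank_pi, hn] at hsum
    have hk4 : Module.finrank F U = 4 := by omega
    have hnd : ∀ {A B : Submodule F V}, A ⊔ B = ⊤ → (∀ a ∈ A, ∀ b ∈ B, f b a = 0) → IsNondegenerateOn f A := by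
      intro A B hAB horth w hw hw0
      obtain ⟨u, hu⟩ := (hs.nondegenerate w hw0).1
      obtain ⟨a, ha, b, hb, rfl⟩ := Submodule.mem_sup.1 (hAB ▸ Submodule.mem_top : u ∈ A ⊔ B)
      have ha' : f a w ≠ 0 := by rwa [hs.add_left, horth w hw b hb, add_zero] at hu
      exact ⟨⟨a, ha, ha'⟩, ⟨a, ha, fun h => ha' (hs.eq_zero_comm h)⟩⟩
    have hD : IsOrthogonalMDecomposition ⇑q 4 ![U, U'] := by
      refine ⟨⟨⟨le_rfl, by norm_num, ?_, ?_, ?_⟩, ?_, ?_⟩, ?_⟩
      · intro i; fin_cases i
        · exact hk4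
        · exact hfin.symm.trans hk4
      · rw [iSupIndep_pair (i := (0 : Fin 2)) (j := 1) (by decide) (fun k => by omega)]
        simpa [disjoint_iff] using hdis
      · rw [← hsup]
        refine le_antisymm (iSup_le fun i => ?_) (sup_le ?_ ?_)
        · fin_cases i <;> simp
        · exact le_iSup_of_le 0 (by simp)
        · exact le_iSup_of_le 1 (by simp)
      · intro i; fin_cases i
        · exact hnd hsup fun a ha b hb => hs.eq_zero_comm (horth a ha b hb)
        · exact hnd (sup_comm U _ ▸ hsup) fun a ha b hb => horth b hb a ha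
      · intro i j hij
        fin_cases i <;> fin_cases j
        · exact absurd rfl hij
        · exact fun u hu v hv => horth u hu v hv
        · exact fun u hu v hv => hs.eq_zero_comm (horth v hv u hu)
        · exact absurd rfl hij
      · intro i j
        fin_cases i <;> fin_cases j
        · show AreIsometricFor ⇑q U U
          exact ⟨LinearEquiv.refl F U, fun w => rfl⟩
        · exact hiso
        · exact isometric_symm hiso
        · show AreIsometricFor ⇑q U' U'
          exact ⟨LinearEquiv.refl F U', fun w => rfl⟩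
    exact decomp_plus hq hD ⟨1, rfl⟩ (m := 4) (by omega) ⟨2, rfl⟩
  · -- an anti-self-adjoint involution
    obtain ⟨s, t, hst⟩ := FiniteField.exists_root_sum_quadratic (R := F) (f := Polynomial.X ^ 2)
      (g := Polynomial.X ^ 2 - Polynomial.C (-1)) (Polynomial.degree_X_pow 2)
      (Polynomial.degree_X_pow_sub_C (by decide) _) (H51.FormAsch.odd_card_of_two h2 |> Nat.odd_iff.1)
    simp at hst
    set W := s • (x : Matrix ι ι F) + t • (y : Matrix ι ι F)
    have hWW : W * W = 1 := by
      simp only [W, add_mul, mul_add, Matrix.smul_mul, Matrix.mul_smul, smul_smul, hxx, hyy, hxy, smul_neg,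
        neg_smul, one_smul]
      rw [show -((t * s) • ((y : Matrix ι ι F) * x)) = (-(t * s)) • ((y : Matrix ι ι F) * x) by rw [neg_smul]]
      match_scalars <;> first | linear_combination hst | linear_combination -hst | ring
    have haW : IsAdj f W (-W) := by
      have h1 := hs.adj_add (hs.adj_smul s hax) (hs.adj_smul t hay)
      simp only [RingEquiv.refl_apply, neg_smul, one_smul, smul_neg] at h1
      rw [show -W = -(s • (x : Matrix ι ι F)) + -(t • (y : Matrix ι ι F)) from neg_add _ _]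
      exact h1
    have hts : ∀ c : F, c * c = 1 → ∀ U : Submodule F V, (∀ v ∈ U, W *ᵥ v = c • v) →
        IsTotallySingularFor f U ∧ 2 * Module.finrank F U ≤ 8 := by
      intro c hc U hU
      have hU0 : IsTotallySingularFor f U := by
        intro u hu v hv
        have h1 := haW u v
        rw [Matrix.neg_mulVec, hU u hu, hU v hv, hs.smul_left, ← neg_smul, hs.smul_right, RingEquiv.refl_apply] at h1
        have hc0 : c ≠ 0 := left_ne_zero_of_mul_eq_one hc
        exact (mul_eq_zero.1 (show (2 * c) * f u v = 0 by linear_combination h1)).resolve_left (mul_ne_zero h2 hc0)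
      refine ⟨hU0, ?_⟩
      have h4 : U ≤ (H43.polB q).orthogonal U := fun v hv w hw => hU0 w hw v hv
      have h5 := Submodule.finrank_mono h4
      have h6 : Module.finrank F ↥((H43.polB q).orthogonal U) + Module.finrank F ↥U = Module.finrank F V :=
        H43.finrank_orth_add hq U
      rw [Module.finrank_pi, hn] at h6
      omega
    set U := LinearMap.ker (Matrix.toLin' W - LinearMap.id) with hU
    set U' := LinearMap.ker (Matrix.toLin' W + LinearMap.id) with hU'
    have memU : ∀ v ∈ U, W *ᵥ v = (1 : F) • v := fun v hv => by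
      rw [hU, LinearMap.mem_ker, LinearMap.sub_apply, Matrix.toLin'_apply, LinearMap.id_apply, sub_eq_zero] at hv
      rw [hv, one_smul]
    have memU' : ∀ v ∈ U', W *ᵥ v = (-1 : F) • v := fun v hv => by
      rw [hU', LinearMap.mem_ker, LinearMap.add_apply, Matrix.toLin'_apply, LinearMap.id_apply,
        add_eq_zero_iff_eq_neg] at hv
      rw [hv, neg_one_smul]
    obtain ⟨hts1, hd1⟩ := hts 1 (one_mul 1) U memU
    obtain ⟨-, hd2⟩ := hts (-1) (by ring) U' memU'
    have hsup : U ⊔ U' = ⊤ := by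
      rw [eq_top_iff]
      intro v _
      rw [show v = (2⁻¹ : F) • (v + W *ᵥ v) + (2⁻¹ : F) • (v - W *ᵥ v) by
        rw [← smul_add, show v + W *ᵥ v + (v - W *ᵥ v) = (2 : F) • v by rw [two_smul]; abel, smul_smul,
          inv_mul_cancel₀ h2, one_smul]]
      refine Submodule.add_mem_sup ?_ ?_
      · rw [hU, LinearMap.mem_ker, LinearMap.sub_apply, Matrix.toLin'_apply, LinearMap.id_apply, Matrix.mulVec_smul,
          Matrix.mulVec_add, Matrix.mulVec_mulVec, hWW, Matrix.one_mulVec, add_comm, sub_self]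
      · rw [hU', LinearMap.mem_ker, LinearMap.add_apply, Matrix.toLin'_apply, LinearMap.id_apply, Matrix.mulVec_smul,
          Matrix.mulVec_sub, Matrix.mulVec_mulVec, hWW, Matrix.one_mulVec, ← smul_add, sub_add_sub_cancel, sub_self,
          smul_zero]
    have hsum := Submodule.finrank_add_le_finrank_add_finrank U U'
    rw [hsup, finrank_top, Module.finrank_pi, hn] at hsum
    exact ⟨U, le_top, tsQuad_of_tsFor h2 hts1, by rw [finrank_top, Module.finrank_pi, hn]; omega⟩

end OE

end H98
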