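import Cfsg.Agent.H98.OrthEven.Rational
import Cfsg.Agent.H98.OrthEven.PowerEight
import Cfsg.Agent.H98.OrthEven.HalfField
import Cfsg.Agent.H51.FormAsch.OrthOutcome
import Cfsg.Agent.H51.FormAsch.OrthMax

/-!
The structures left invariant by an irreducible subgroup of the commutator subgroup of an orthogonal group in
dimensions eight, ten and twelve.
-/

set_option autoImplicit false
set_option linter.unusedSectionVars false
set_option linter.style.haveILetI false
set_option maxHeartbeats 1000000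

open Cfsg.Geo
open scoped Matrix MatrixGroups commutatorElement

namespace H98

namespace OE

open H51.FormAsch (IsAdj SForm sform_polar centreOf mem_centreOf centreOf_comm centreOf_normalized centreOf_adj
  of_field_centre of_split_centre omega_isometry orth_of_simple abelian_data_of_abelian power_data_of_not_simple)

variable {ι : Type} [Fintype ι] [DecidableEq ι] {F : Type*} [Field F] [Fintype F]

local notation "V" => (ι → F)

/-- The structures of an irreducible group. -/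
inductive IrrOutcome (q : QuadraticForm F (ι → F)) (H : Subgroup (GL ι F)) : Prop
  | decomp (t k : ℕ) (D : Fin t → Submodule F (ι → F)) (hc : Fintype.card ι = t * k)
      (hD : IsNondegenerateMDecomposition (QuadraticMap.polar ⇑q) k D) (h : H ≤ decompositionStabilizer D)
  | pair (k : ℕ) (D : Fin 2 → Submodule F (ι → F)) (hc : Fintype.card ι = 2 * k) (hD : IsMDecomposition k D)
      (hts : ∀ i, IsTotallySingularQuad ⇑q (D i)) (h : H ≤ decompositionStabilizer D)
  | selfField (r : ℕ) (K : Subalgebra F (Matrix ι ι F)) (hr : r = 2 ∨ r = 3) (hK : IsFieldSubalgebra r K)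
      (hdvd : r ∣ Fintype.card ι) (hs : IsSelfAdjointFor (QuadraticMap.polar ⇑q) K)
      (h : H ≤ subalgebraNormalizer K)
  | unitField (K : Subalgebra F (Matrix ι ι F)) (hK : IsFieldSubalgebra 2 K)
      (ha : IsAdjointClosedFor (QuadraticMap.polar ⇑q) K) (hns : ¬ IsSelfAdjointFor (QuadraticMap.polar ⇑q) K)
      (hQ : ∀ k ∈ K, ∃ c : F, ∀ v : ι → F, q (k *ᵥ v) = c * q v) (h : H ≤ subalgebraNormalizer K)
  | plus8 (hn : Fintype.card ι = 8) (hp : IsPlusTypeOn ⇑q ⊤)
  | tensorAlt (hn : Fintype.card ι = 12) (h3 : 3 ≤ Fintype.card F) (hp : IsPlusTypeOn ⇑q ⊤)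
      (e : ι ≃ Fin 2 × Fin 6) (P : GL ι F) (f₁ : (Fin 2 → F) → (Fin 2 → F) → F)
      (f₂ : (Fin 6 → F) → (Fin 6 → F) → F) (h1 : IsSymplecticForm f₁) (h2 : IsSymplecticForm f₂)
      (ht : IsTensorFormStructure id (QuadraticMap.polar ⇑q) f₁ f₂ e P)
      (hpure : ∀ (x₁ : Fin 2 → F) (x₂ : Fin 6 → F),
        q (Matrix.mulVec (P : Matrix ι ι F) ((fun a : Fin 2 × Fin 6 => x₁ a.1 * x₂ a.2) ∘ e)) = 0)
      (h : H ≤ tensorProductSubgroup 2 6 e P)
  | tensorSym (hn : Fintype.card ι = 12) (hodd : Odd (Fintype.card F)) (h5 : 5 ≤ Fintype.card F)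
      (hp : ¬ IsPlusTypeOn ⇑q ⊤) (e : ι ≃ Fin 3 × Fin 4) (P : GL ι F) (f₁ : (Fin 3 → F) → (Fin 3 → F) → F)
      (f₂ : (Fin 4 → F) → (Fin 4 → F) → F) (h1 : IsSymmetricForm f₁) (h2 : IsSymmetricForm f₂)
      (hp2 : ¬ IsPlusTypeOn (fun v : Fin 4 → F => f₂ v v) ⊤)
      (ht : IsTensorFormStructure id (QuadraticMap.polar ⇑q) f₁ f₂ e P)
      (h : H ≤ tensorProductSubgroup 3 4 e P)
  | subfield (F₀ : Subfield F) (r : ℕ) (P : GL ι F) (ζ : F) (hr : r.Prime)
      (hc : Fintype.card F = Nat.card F₀ ^ r) (hζ : ζ ≠ 0)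
      (hR : IsQuadFormRationalStructure (fun v => ζ * q v) F₀ P) (h : H ≤ subfieldSubgroup F₀ P)
  | core (h : InOrthogonalResidualClass H)

variable {q : QuadraticForm F (ι → F)} {H : Subgroup (GL ι F)}

/-- A swapped or fixed pair of totally singular spaces for the polar form is totally singular. -/
theorem pair_singular (hq : (H43.polB q).Nondegenerate) (hn : 2 ≤ Fintype.card ι) (hirr : Irr H)
    (hH : ∀ g ∈ H, ∀ v, q ((g : Matrix ι ι F) *ᵥ v) = q v) {k : ℕ} {D : Fin 2 → Submodule F V}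
    (hD : IsMDecomposition k D) (hts : ∀ i, IsTotallySingularFor (QuadraticMap.polar ⇑q) (D i))
    (h : H ≤ decompositionStabilizer D) : ∀ i, IsTotallySingularQuad ⇑q (D i) := by
  by_cases h2 : (2 : F) = 0
  swap
  · exact fun i => tsQuad_of_tsFor h2 (hts i)
  have hco : IsCompl (D 0) (D 1) := by
    refine ⟨disjoint_iff.2 ?_, codisjoint_iff.2 ?_⟩
    · exact disjoint_iff.1 (hD.indep.pairwiseDisjoint (show (0 : Fin 2) ≠ 1 by decide))
    · rw [← top_le_iff, ← hD.iSup_eq_top]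
      refine iSup_le fun i => ?_
      fin_cases i
      · exact le_sup_left
      · exact le_sup_right
  let p0 : V →ₗ[F] V := (D 0).subtype.comp ((D 0).projectionOnto (D 1) hco)
  let p1 : V →ₗ[F] V := (D 1).subtype.comp ((D 1).projectionOnto (D 0) hco.symm)
  have hp0 : ∀ v, p0 v ∈ D 0 := fun v => Submodule.coe_mem _
  have hp1 : ∀ v, p1 v ∈ D 1 := fun v => Submodule.coe_mem _
  let E : V → F := fun v => q (p0 v) + q (p1 v)
  have hE : ∀ a ∈ D 0, ∀ b ∈ D 1, E (a + b) = q a + q b := by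
    intro a ha b hb
    have e0 : p0 (a + b) = a := by
      simp only [p0, LinearMap.comp_apply, map_add, Submodule.coe_subtype]
      rw [Submodule.linearProjOfIsCompl_apply_left hco ⟨a, ha⟩,
        Submodule.linearProjOfIsCompl_apply_right hco ⟨b, hb⟩]
      simp
    have e1 : p1 (a + b) = b := by
      simp only [p1, LinearMap.comp_apply, map_add, Submodule.coe_subtype]
      rw [Submodule.linearProjOfIsCompl_apply_left hco.symm ⟨b, hb⟩,
        Submodule.linearProjOfIsCompl_apply_right hco.symm ⟨a, ha⟩]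
      simp
    simp only [E, e0, e1]
  have hsplit : ∀ v : V, ∃ a ∈ D 0, ∃ b ∈ D 1, v = a + b := fun v => by
    have : v ∈ D 0 ⊔ D 1 := by rw [hco.sup_eq_top]; exact Submodule.mem_top
    obtain ⟨a, ha, b, hb, rfl⟩ := Submodule.mem_sup.1 this
    exact ⟨a, ha, b, hb, rfl⟩
  have hadd : ∀ u v, E (u + v) = E u + E v := fun u v => by
    simp only [E, map_add, QuadraticMap.map_add ⇑q, hts 0 _ (hp0 u) _ (hp0 v), hts 1 _ (hp1 u) _ (hp1 v)]
    ring
  have hsm : ∀ (c : F) v, E (c • v) = c ^ 2 * E v := fun c v => by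
    simp only [E, map_smul, H43.qmap_smul]
    ring
  have hEinv : ∀ g ∈ H, ∀ v, E ((g : Matrix ι ι F) *ᵥ v) = E v := by
    intro g hg v
    obtain ⟨σ, hσ⟩ := h hg
    obtain ⟨a, ha, b, hb, rfl⟩ := hsplit v
    have ga : (g : Matrix ι ι F) *ᵥ a ∈ D (σ 0) := hσ 0 ▸ ⟨a, ha, Matrix.toLin'_apply _ _⟩
    have gb : (g : Matrix ι ι F) *ᵥ b ∈ D (σ 1) := hσ 1 ▸ ⟨b, hb, Matrix.toLin'_apply _ _⟩
    rw [Matrix.mulVec_add, hE a ha b hb]
    have hne : σ 0 ≠ σ 1 := fun e => absurd (σ.injective e) (by decide)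
    by_cases e0 : σ 0 = 0
    · have e1 : σ 1 = 1 := by omega
      rw [e0] at ga; rw [e1] at gb
      rw [hE _ ga _ gb, hH g hg, hH g hg]
    · have e0' : σ 0 = 1 := by omega
      have e1 : σ 1 = 0 := by omega
      rw [e0'] at ga; rw [e1] at gb
      rw [add_comm, hE _ gb _ ga, hH g hg, hH g hg, add_comm]
  have h0 := semilinear_eq_zero hirr hn E hadd hsm fun g hg v hv => by rw [hEinv g hg v, hv]
  intro i v hv
  have hq0 : q 0 = 0 := by simp
  fin_cases i
  · have h1 := hE v hv 0 (zero_mem _)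
    rw [h0, hq0, add_zero] at h1
    exact h1.symm
  · have h1 := hE 0 (zero_mem _) v hv
    rw [h0, hq0, zero_add] at h1
    exact h1.symm

/-- A normalised algebra whose centre is not a field. -/
theorem of_split (hq : (H43.polB q).Nondegenerate) (hn : 2 ≤ Fintype.card ι) (hirr : Irr H)
    (hH : ∀ g ∈ H, ∀ v, q ((g : Matrix ι ι F) *ᵥ v) = q v) {A : Subalgebra F (Matrix ι ι F)}
    (hA : ∀ g ∈ H, ∀ X ∈ A, H46.glConj g X ∈ A)
    (hadj : ∀ X ∈ A, ∃ Y ∈ A, IsAdj (QuadraticMap.polar ⇑q) X Y)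
    (hfield : ¬ ∀ x ∈ centreOf A, x ≠ 0 → ∃ y ∈ centreOf A, x * y = 1) : IrrOutcome q H := by
  rcases of_split_centre (sform_polar hq) (le_similarity hH) (irr_iff.1 hirr) hA hadj hfield with
    ⟨t, k, D, hc, hD, hle⟩ | ⟨e, k, D, hc, hD, hts, hle, -, -⟩
  · exact .decomp t k D hc hD hle
  · exact .pair k D hc hD (pair_singular hq hn hirr hH hD hts hle) hle

/-- A normalised algebra with non-scalar centre. -/
theorem of_centre (hq : (H43.polB q).Nondegenerate)
    (hn : Fintype.card ι = 8 ∨ Fintype.card ι = 10 ∨ Fintype.card ι = 12) (hirr : Irr H)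
    (hH : ∀ g ∈ H, ∀ v, q ((g : Matrix ι ι F) *ᵥ v) = q v) {A : Subalgebra F (Matrix ι ι F)}
    (hA : ∀ g ∈ H, ∀ X ∈ A, H46.glConj g X ∈ A)
    (hadj : ∀ X ∈ A, ∃ Y ∈ A, IsAdj (QuadraticMap.polar ⇑q) X Y) (hZ : centreOf A ≠ ⊥) : IrrOutcome q H := by
  classical
  haveI : Nonempty ι := Fintype.card_pos_iff.1 (by omega)
  have hs := sform_polar hq
  have hn2 : 2 ≤ Fintype.card ι := by omega
  by_cases hfield : ∀ x ∈ centreOf A, x ≠ 0 → ∃ y ∈ centreOf A, x * y = 1
  swap
  · exact of_split hq hn2 hirr hH hA hadj hfield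
  rcases of_field_centre hs (le_similarity hH) centreOf_comm hfield hZ (centreOf_normalized hA)
    (centreOf_adj hs hadj) with ⟨r, K, hr, hK, hdvd, hself, hle⟩ | ⟨K, θ, hK, -, ha, hns, hle, -, -⟩
  swap
  · exact .unitField K hK ha hns (unit_scaling hq hn2 hH hirr hK ha hns hle) hle
  by_cases h23 : r = 2 ∨ r = 3
  · exact .selfField r K h23 hK hdvd hself hle
  have hr5 : r = 5 ∧ Fintype.card ι = 10 := by
    have := hr.two_le
    have hle' := Nat.le_of_dvd (by omega) hdvd
    obtain ⟨c, hc⟩ := hdvd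
    push Not at h23
    rcases hn with e | e | e <;> rw [e] at hc hle' ⊢ <;> interval_cases r <;> first | omega | (norm_num at hr)
  obtain ⟨rfl, hn10⟩ := hr5
  rcases half_field_reduce hq hr (by omega) (by omega) hK hself hH hle with
    ⟨L, hL, hLa, hLf⟩ | ⟨Z, hZ2, hZa, hZle⟩
  · exact of_split hq hn2 hirr hH hL hLa hLf
  · by_cases hsZ : IsSelfAdjointFor (QuadraticMap.polar ⇑q) Z
    · exact .selfField 2 Z (Or.inl rfl) hZ2 (by omega) hsZ hZle
    · exact .unitField Z hZ2 hZa hsZ (unit_scaling hq hn2 hH hirr hZ2 hZa hsZ hZle) hZle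

/-- A normalised proper algebra closed under adjoints. -/
theorem of_algebra (hq : (H43.polB q).Nondegenerate)
    (hn : Fintype.card ι = 8 ∨ Fintype.card ι = 10 ∨ Fintype.card ι = 12) (hirr : Irr H)
    (hH : ∀ g ∈ H, ∀ v, q ((g : Matrix ι ι F) *ᵥ v) = q v) (hdet : ∀ g ∈ H, (g : Matrix ι ι F).det = 1)
    {A : Subalgebra F (Matrix ι ι F)} (hA : ∀ g ∈ H, ∀ X ∈ A, H46.glConj g X ∈ A)
    (hadj : ∀ X ∈ A, ∃ Y ∈ A, IsAdj (QuadraticMap.polar ⇑q) X Y) (hbot : A ≠ ⊥) (htop : A ≠ ⊤) :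
    IrrOutcome q H := by
  by_cases hZ : centreOf A = ⊥
  swap
  · exact of_centre hq hn hirr hH hA hadj hZ
  cases of_scalar_centre_orth hq hn hirr hH hdet hA hadj hbot htop hZ with
  | plus8 h8 hp => exact .plus8 h8 hp
  | tensorAlt h12 h3 hp e P f₁ f₂ h1 h2 ht hpure h => exact .tensorAlt h12 h3 hp e P f₁ f₂ h1 h2 ht hpure h
  | tensorSym h12 hodd h5 hp e P f₁ f₂ h1 h2 hp2 ht h =>
    exact .tensorSym h12 hodd h5 hp e P f₁ f₂ h1 h2 hp2 ht h
  | comm h =>
    obtain ⟨B, hBc, hBn, hBa, hBb⟩ := h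
    refine of_centre hq hn hirr hH hBn hBa fun e => hBb (eq_bot_iff.2 fun x hx => ?_)
    rw [← e]
    exact mem_centreOf.2 ⟨hx, fun y hy => hBc y hy x hx⟩

/-- **The structures of an irreducible group.** -/
theorem irrOutcome (hq : (H43.polB q).Nondegenerate)
    (hn : Fintype.card ι = 8 ∨ Fintype.card ι = 10 ∨ Fintype.card ι = 12) (hle : H ≤ omegaGL ⇑q)
    (hirr : Irr H) : IrrOutcome q H := by
  classical
  haveI : Nonempty ι := Fintype.card_pos_iff.1 (by omega)
  haveI : Nontrivial ι := Fintype.one_lt_card_iff_nontrivial.1 (by omega)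
  have hn3 : 3 ≤ Fintype.card ι := by omega
  have hs := sform_polar hq
  have hH : ∀ g ∈ H, ∀ v, q ((g : Matrix ι ι F) *ᵥ v) = q v := fun g hg v => omega_isometry (hle hg) v
  have hdet : ∀ g ∈ H, (g : Matrix ι ι F).det = 1 := fun g hg => omega_det hq (by omega) (hle hg)
  set G := H ⊔ scalars ι F with hGdef
  have hHG : H ≤ G := le_sup_left
  have hZG : scalars ι F ≤ G := le_sup_right
  have hG : G ≤ similarityGroup (QuadraticMap.polar ⇑q) := by
    refine sup_le (le_similarity hH) fun g hg => ?_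
    obtain ⟨c, rfl⟩ := H46.exists_scl hg
    refine ⟨c * c, fun u v => ?_⟩
    simp only [H46.scl_val, Matrix.smul_mulVec, Matrix.one_mulVec, Units.val_mul]
    rw [hs.smul_left, hs.smul_right, RingEquiv.refl_apply, mul_assoc]
  have hirrG : Irr G := fun W hW => hirr W (hHG.trans hW)
  have hGZ : ¬ G ≤ scalars ι F := by
    intro hGZ
    obtain ⟨i, j, hij⟩ := exists_pair_ne ι
    rcases hirrG (Submodule.span F {Pi.single i 1}) (le_stab_of_maps fun g hg v hv => by
      obtain ⟨c, rfl⟩ := H46.exists_scl (hGZ hg)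
      rw [H46.scl_val, Matrix.smul_mulVec, Matrix.one_mulVec]
      exact Submodule.smul_mem _ _ hv) with h | h
    · rw [Submodule.span_singleton_eq_bot] at h
      exact one_ne_zero (Pi.single_eq_zero_iff.1 h)
    · have hmem : (Pi.single j 1 : ι → F) ∈ Submodule.span F {Pi.single i (1 : F)} := h ▸ Submodule.mem_top
      obtain ⟨c, hc⟩ := Submodule.mem_span_singleton.1 hmem
      have := congrFun hc j
      simp [Pi.single_eq_of_ne (Ne.symm hij)] at this
  by_cases hspan : ∀ N : Subgroup (GL ι F), N ≤ G → (∀ g ∈ G, ∀ x ∈ N, g * x * g⁻¹ ∈ N) →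
      ¬ N ≤ scalars ι F → Algebra.adjoin F (matrixSet N) = ⊤
  swap
  · simp only [not_forall] at hspan
    obtain ⟨N, hNG, hnorm, hns, htop⟩ := hspan
    exact of_algebra hq hn hirr hH hdet
      (fun g hg => H46.adjoin_normalized (H46.glConj_matrixSet hnorm) g (hHG hg))
      (fun X hX => hs.adj_mem_adjoin (hNG.trans hG) hX) (H46.adjoin_ne_bot_of_not_scalar hns) htop
  haveI : Finite (Subgroup (GL ι F)) := inferInstance
  have hGne : G ∈ {N : Subgroup (GL ι F) | scalars ι F ≤ N ∧ N ≤ G ∧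
      (∀ g ∈ G, ∀ x ∈ N, g * x * g⁻¹ ∈ N) ∧ N ≠ scalars ι F} :=
    ⟨hZG, le_rfl, fun g hg x hx => mul_mem (mul_mem hg hx) (inv_mem hg), fun h => hGZ h.le⟩
  obtain ⟨N, hN⟩ := (Set.toFinite {N : Subgroup (GL ι F) | scalars ι F ≤ N ∧ N ≤ G ∧
      (∀ g ∈ G, ∀ x ∈ N, g * x * g⁻¹ ∈ N) ∧ N ≠ scalars ι F}).exists_minimal ⟨G, hGne⟩
  obtain ⟨⟨hZN, hNG, hnorm, hNne⟩, hNmin⟩ := hN
  have hns : ¬ N ≤ scalars ι F := fun h => hNne (le_antisymm h hZN)
  have hmin : ∀ M : Subgroup (GL ι F), scalars ι F ≤ M → M ≤ N →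
      (∀ g ∈ G, ∀ x ∈ M, g * x * g⁻¹ ∈ M) → M = scalars ι F ∨ M = N := by
    intro M hZM hMN hM
    by_cases h : M = scalars ι F
    · exact Or.inl h
    · exact Or.inr (le_antisymm hMN (hNmin ⟨hZM, hMN.trans hNG, hM, h⟩ hMN))
  have notPow : ∀ a k : ℕ, 2 ≤ k → Fintype.card ι = a ^ k → Fintype.card ι = 8 := by
    intro a k hk hc
    by_contra h8
    have ha : a ≤ 3 := by
      by_contra ha
      have h1 : 4 ^ 2 ≤ a ^ k := (Nat.pow_le_pow_left (by omega) 2).trans (Nat.pow_le_pow_right (by omega) hk)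
      omega
    have hk4 : a ≤ 1 ∨ k ≤ 3 := by
      by_contra h
      push Not at h
      have h1 : 2 ^ 4 ≤ a ^ k := (Nat.pow_le_pow_left (by omega) 4).trans (Nat.pow_le_pow_right (by omega) h.2)
      omega
    rcases hk4 with h | h
    · interval_cases a <;> simp [zero_pow (by omega : k ≠ 0)] at hc <;> omega
    · interval_cases a <;> interval_cases k <;> simp at hc <;> omega
  by_cases hab : ⁅N, N⁆ ≤ scalars ι F
  · have hab' : ∀ x ∈ N, ∀ y ∈ N, x * y * x⁻¹ * y⁻¹ ∈ scalars ι F := fun x hx y hy => by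
      rw [← commutatorElement_def]; exact hab (Subgroup.commutator_mem_commutator hx hy)
    obtain ⟨r, k, hd⟩ := abelian_data_of_abelian hn3 hspan hNG hZN hnorm hns hmin hab'
    have h8 : Fintype.card ι = 8 := by
      have h1 := hd.one_le
      rcases Nat.eq_or_lt_of_le h1 with h | h
      · exfalso
        have hc := hd.card_eq
        rw [← h, pow_one] at hc
        have hp := hd.prime
        rcases hn with e | e | e <;> rw [← hc, e] at hp <;> norm_num at hp
      · exact notPow r k h hd.card_eq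
    exact .plus8 h8 (plus_of_abelian hq h8 hH hd)
  have hPN : ⁅N, N⁆ ⊔ scalars ι F = N := by
    refine (hmin _ le_sup_right (sup_le (Subgroup.commutator_le_self N) hZN) ?_).resolve_left
      fun h => hab (le_sup_left.trans h.le)
    exact fun g hg => H46.conj_mem_sup_scalars (H46.conj_mem_commutator (hnorm g hg))
  by_cases hsimple : ∀ M : Subgroup (GL ι F), scalars ι F ≤ M → M ≤ N →
      (∀ x ∈ N, ∀ y ∈ M, x * y * x⁻¹ ∈ M) → M = scalars ι F ∨ M = N
  swap
  · simp only [not_forall, not_or] at hsimple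
    obtain ⟨M, h1, h2, h3, h4, h5⟩ := hsimple
    obtain ⟨a, k, hd, hc⟩ := power_data_of_not_simple hn3 hnorm hNG hZN hmin hab (hspan N hNG hnorm hns)
      ⟨M, h1, h2, h3, h4, h5⟩
    have h8 := notPow a k hd.two_le_num hc
    exact .plus8 h8 (plus_of_power hq h8 hH hd hc)
  cases orth_of_simple hs hG hNG hnorm hZN hPN hab (hspan _
      ((Subgroup.commutator_le_self N).trans hNG) (fun g hg => H46.conj_mem_commutator (hnorm g hg)) hab)
      hsimple with
  | singular W hW hts h =>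
    exfalso
    refine hW ((hirrG W h).resolve_right fun e => ?_)
    obtain ⟨u, hu⟩ := (hs.nondegenerate (Pi.single (Classical.arbitrary ι) 1) (by simp)).1
    exact hu (hts u (e ▸ Submodule.mem_top) _ (e ▸ Submodule.mem_top))
  | nondeg W hW ht hnd h => exact ((hirrG W h).elim hW ht).elim
  | frame t D hc hD h => exact .decomp t 1 D (by omega) hD (hHG.trans h)
  | subfield F₀ r P ζ hr hc hζ hR h =>
    exact .subfield F₀ r P ζ hr hc hζ (rational_quad hq (by omega) hirr hH hζ hR (hHG.trans h)) (hHG.trans h)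
  | core P hPle hPn hp hsimp hnab hcent habs hsub hU =>
    refine .core ⟨P, ⟨?_, fun g hg => hPn g (hHG hg), hp, hsimp, hnab, fun g hg => hcent g (hHG hg), habs, hsub⟩,
      hU⟩
    refine hPle.trans ?_
    rw [hGdef, H46.commutator_sup_scalars]
    exact Subgroup.commutator_le_self H

end OE

end H98
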