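import Mathlib

/-!
The proper similitudes of the determinant on two by two matrices are tensor products of two matrices.
-/

set_option autoImplicit false
set_option linter.unusedSectionVars false

open scoped Matrix Kronecker

namespace H98

namespace OE

variable {F : Type*} [Field F]

/-- The alternating matrix of size two. -/
def altTwo (F : Type*) [Field F] : Matrix (Fin 2) (Fin 2) F := !![0, 1; -1, 0]

theorem altTwo_sim (x : Matrix (Fin 2) (Fin 2) F) : xᵀ * altTwo F * x = x.det • altTwo F := by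
  ext i j
  fin_cases i <;> fin_cases j <;>
    simp [altTwo, Matrix.mul_apply, Fin.sum_univ_two, Matrix.det_fin_two] <;> ring

/-- An isometry of the trace-zero matrices fixing the identity and a diagonal one. -/
theorem fixed_cases (L : Matrix (Fin 2) (Fin 2) F →ₗ[F] Matrix (Fin 2) (Fin 2) F) (h2 : (2 : F) ≠ 0)
    (hdet : ∀ X, (L X).det = X.det) (h1 : L 1 = 1) (hh : L !![1, 0; 0, -1] = !![1, 0; 0, -1]) :
    ∃ v : F, v ≠ 0 ∧ ((L !![0, 1; 0, 0] = !![0, v; 0, 0] ∧ L !![0, 0; 1, 0] = !![0, 0; v⁻¹, 0]) ∨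
      (L !![0, 1; 0, 0] = !![0, 0; v, 0] ∧ L !![0, 0; 1, 0] = !![0, v⁻¹; 0, 0])) := by
  have shape : ∀ X : Matrix (Fin 2) (Fin 2) F, X.det = 0 → (X + 1).det = 1 → (X + !![1, 0; 0, -1]).det = -1 →
      ∃ v w : F, L X = !![0, v; w, 0] ∧ v * w = 0 := by
    intro X d0 d1 d2
    have e0 := hdet X
    have e1 := hdet (X + 1)
    have e2 := hdet (X + !![1, 0; 0, -1])
    rw [map_add, h1, d1] at e1
    rw [map_add, hh, d2] at e2
    rw [d0] at e0
    simp only [Matrix.det_fin_two, Matrix.add_apply, Matrix.one_apply_eq, ne_eq, Fin.reduceEq, not_false_eq_true,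
      Matrix.one_apply_ne, add_zero, Matrix.of_apply, Matrix.cons_val', Matrix.cons_val_zero, Matrix.cons_val_one,
      Matrix.cons_val_fin_one] at e0 e1 e2
    have a1 : L X 0 0 + L X 1 1 = 0 := by linear_combination e1 - e0
    have a2 : -L X 0 0 + L X 1 1 = 0 := by linear_combination e2 - e0
    have a0 : L X 0 0 = 0 := (mul_eq_zero.1 (show (2 : F) * L X 0 0 = 0 by linear_combination a1 - a2)).resolve_left h2
    have a3 : L X 1 1 = 0 := by linear_combination a1 - a0
    refine ⟨L X 0 1, L X 1 0, ?_, ?_⟩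
    · ext i j
      fin_cases i <;> fin_cases j <;> simp [a0, a3]
    · rw [a0, a3] at e0
      linear_combination -e0
  obtain ⟨v, w, he, hvw⟩ := shape !![0, 1; 0, 0] (by simp [Matrix.det_fin_two])
    (by simp [Matrix.det_fin_two]) (by simp [Matrix.det_fin_two])
  obtain ⟨v', w', hf, hvw'⟩ := shape !![0, 0; 1, 0] (by simp [Matrix.det_fin_two])
    (by simp [Matrix.det_fin_two]) (by simp [Matrix.det_fin_two])
  have e3 := hdet (!![0, 1; 0, 0] + !![0, 0; 1, 0])
  rw [map_add, he, hf] at e3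
  simp [Matrix.det_fin_two] at e3
  by_cases hv : v = 0
  · have hw0 : w * v' = 1 := by subst hv; linear_combination e3 - hvw'
    have hw : w ≠ 0 := left_ne_zero_of_mul_eq_one hw0
    have hv' : v' = w⁻¹ := (eq_inv_of_mul_eq_one_right hw0)
    have hw' : w' = 0 := (mul_eq_zero.1 hvw').resolve_left (by rw [hv']; exact inv_ne_zero hw)
    exact ⟨w, hw, Or.inr ⟨by rw [he, hv], by rw [hf, hw', hv']⟩⟩
  · have hw : w = 0 := (mul_eq_zero.1 hvw).resolve_left hv
    have hw0 : v * w' = 1 := by subst hw; linear_combination e3 - hvw'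
    have hw' : w' = v⁻¹ := (eq_inv_of_mul_eq_one_right hw0)
    have hv' : v' = 0 := (mul_eq_zero.1 hvw').resolve_right (by rw [hw']; exact inv_ne_zero hv)
    exact ⟨v, hv, Or.inl ⟨by rw [he, hw], by rw [hf, hw', hv']⟩⟩

theorem exists_eigenbasis (h2 : (2 : F) ≠ 0) {M : Matrix (Fin 2) (Fin 2) F} (ht : M 0 0 + M 1 1 = 0)
    (hd : M.det = -1) : ∃ b : (Matrix (Fin 2) (Fin 2) F)ˣ, M * (b : Matrix (Fin 2) (Fin 2) F) =
      (b : Matrix (Fin 2) (Fin 2) F) * !![1, 0; 0, -1] := by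
  set α := M 0 0 with hα
  set β := M 0 1 with hβ
  set γ := M 1 0 with hγ
  have hδ : M 1 1 = -α := by linear_combination ht
  rw [Matrix.det_fin_two, hδ, ← hα, ← hβ, ← hγ] at hd
  have hM : M = !![α, β; γ, -α] := by
    ext i j
    fin_cases i <;> fin_cases j <;> simp [hα, hβ, hγ, hδ]
  obtain ⟨B, hB, hMB⟩ : ∃ B : Matrix (Fin 2) (Fin 2) F, B.det ≠ 0 ∧ M * B = B * !![1, 0; 0, -1] := by
    by_cases hb : β = 0
    · rw [hb] at hd
      rcases mul_self_eq_one_iff.1 (show α * α = 1 by linear_combination -hd) with ha | ha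
      · exact ⟨!![2, 0; γ, 1], by simpa [Matrix.det_fin_two] using h2, by
          rw [hM, hb, ha]
          ext i j
          fin_cases i <;> fin_cases j <;> simp [Matrix.mul_apply, Fin.sum_univ_two] <;> ring⟩
      · exact ⟨!![0, 2; 1, -γ], by simpa [Matrix.det_fin_two] using h2, by
          rw [hM, hb, ha]
          ext i j
          fin_cases i <;> fin_cases j <;> simp [Matrix.mul_apply, Fin.sum_univ_two] <;> ring⟩
    · refine ⟨!![β, β; 1 - α, -1 - α], ?_, ?_⟩
      · rw [Matrix.det_fin_two]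
        simp only [Matrix.of_apply, Matrix.cons_val', Matrix.cons_val_zero, Matrix.cons_val_one,
          Matrix.cons_val_fin_one]
        intro e
        exact mul_ne_zero h2 hb (by linear_combination -e)
      · rw [hM]
        ext i j
        fin_cases i <;> fin_cases j <;> simp [Matrix.mul_apply, Fin.sum_univ_two] <;>
          first | linear_combination hd | linear_combination -hd | ring
  exact ⟨((Matrix.isUnit_iff_isUnit_det _).2 (isUnit_iff_ne_zero.2 hB)).unit, hMB⟩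

/-- A proper similitude of the determinant form is a tensor product. -/
theorem proper_similitude (h2 : (2 : F) ≠ 0) {y : Matrix (Fin 2 × Fin 2) (Fin 2 × Fin 2) F} {μ : F} (hμ : μ ≠ 0)
    (hy : yᵀ * (altTwo F ⊗ₖ altTwo F) * y = μ • (altTwo F ⊗ₖ altTwo F)) (hdety : y.det = μ ^ 2) :
    ∃ a b : Matrix (Fin 2) (Fin 2) F, y = a ⊗ₖ b := by
  classical
  let vec : Matrix (Fin 2) (Fin 2) F → (Fin 2 × Fin 2 → F) := fun X p => X p.1 p.2
  let L : Matrix (Fin 2) (Fin 2) F →ₗ[F] Matrix (Fin 2) (Fin 2) F :=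
    { toFun := fun X => Matrix.of fun i j => (y *ᵥ vec X) (i, j)
      map_add' := fun X Z => by
        ext i j
        simp [vec, Matrix.mulVec, dotProduct, mul_add, Finset.sum_add_distrib]
      map_smul' := fun c X => by
        ext i j
        simp [vec, Matrix.mulVec, dotProduct, Finset.mul_sum, mul_left_comm] }
  have hquad : ∀ X : Matrix (Fin 2) (Fin 2) F, vec X ⬝ᵥ (altTwo F ⊗ₖ altTwo F) *ᵥ vec X = 2 * X.det := by
    intro X
    simp [vec, altTwo, dotProduct, Matrix.mulVec, Fintype.sum_prod_type, Fin.sum_univ_two, Matrix.det_fin_two]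
    ring
  have hLdet : ∀ X, (L X).det = μ * X.det := by
    intro X
    apply mul_left_cancel₀ h2
    rw [← hquad, mul_left_comm, ← hquad]
    show (y *ᵥ vec X) ⬝ᵥ (altTwo F ⊗ₖ altTwo F) *ᵥ (y *ᵥ vec X) = _
    rw [Matrix.mulVec_mulVec, ← Matrix.vecMul_transpose, ← Matrix.dotProduct_mulVec, Matrix.mulVec_mulVec,
      ← mul_assoc, hy, Matrix.smul_mulVec, dotProduct_smul, smul_eq_mul]
  set X0 := L 1 with hX0
  have hX0d : X0.det = μ := by rw [hX0, hLdet, Matrix.det_one, mul_one]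
  set U0 := ((Matrix.isUnit_iff_isUnit_det _).2 (isUnit_iff_ne_zero.2 (by rw [hX0d]; exact hμ) : IsUnit X0.det)).unit
  have hU0 : (U0 : Matrix (Fin 2) (Fin 2) F) = X0 := IsUnit.unit_spec _
  let φ : Matrix (Fin 2) (Fin 2) F →ₗ[F] Matrix (Fin 2) (Fin 2) F :=
    (LinearMap.mulLeft F ((U0⁻¹ : (Matrix (Fin 2) (Fin 2) F)ˣ) : Matrix (Fin 2) (Fin 2) F)).comp L
  have hφdet : ∀ X, (φ X).det = X.det := by
    intro X
    show (_ * L X).det = _
    rw [Matrix.det_mul, hLdet, ← mul_assoc]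
    have h := congrArg Matrix.det U0.inv_mul
    rw [Matrix.det_mul, Matrix.det_one, hU0, hX0d] at h
    rw [h, one_mul]
  have hφ1 : φ 1 = 1 := by
    show _ * L 1 = 1
    rw [← hX0, ← hU0]
    exact U0.inv_mul
  set M := φ !![1, 0; 0, -1] with hM
  have hMt : M 0 0 + M 1 1 = 0 := by
    have e0 := hφdet !![1, 0; 0, -1]
    have e1 := hφdet (!![1, 0; 0, -1] + 1)
    rw [map_add, hφ1, ← hM] at e1
    rw [← hM] at e0
    simp [Matrix.det_fin_two] at e0 e1
    linear_combination e1 - e0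
  have hMd : M.det = -1 := by rw [hM, hφdet]; simp [Matrix.det_fin_two]
  obtain ⟨b, hb⟩ := exists_eigenbasis h2 hMt hMd
  let ψ : Matrix (Fin 2) (Fin 2) F →ₗ[F] Matrix (Fin 2) (Fin 2) F :=
    ((LinearMap.mulLeft F ((b⁻¹ : (Matrix (Fin 2) (Fin 2) F)ˣ) : Matrix (Fin 2) (Fin 2) F)).comp
      (LinearMap.mulRight F (b : Matrix (Fin 2) (Fin 2) F))).comp φ
  have hψ : ∀ X, φ X = (b : Matrix (Fin 2) (Fin 2) F) * ψ X * ((b⁻¹ : (Matrix (Fin 2) (Fin 2) F)ˣ) : Matrix (Fin 2) (Fin 2) F) := by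
    intro X
    show _ = _ * (_ * (φ X * _)) * _
    simp only [mul_assoc, Units.mul_inv, mul_one, Units.mul_inv_cancel_left]
  obtain ⟨v, hv, hcase⟩ := fixed_cases ψ h2 (fun X => by
      rw [← hφdet X, hψ X, Matrix.det_mul, Matrix.det_mul, mul_right_comm, ← Matrix.det_mul, b.mul_inv,
        Matrix.det_one, one_mul])
    (by show _ * (φ 1 * _) = 1; rw [hφ1, one_mul, b.inv_mul])
    (by show _ * (M * _) = _; rw [hb, Units.inv_mul_cancel_left])
  have hlin : ∀ X : Matrix (Fin 2) (Fin 2) F, X = ((X 0 0 + X 1 1) / 2) • 1 + ((X 0 0 - X 1 1) / 2) • !![1, 0; 0, -1] +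
      X 0 1 • !![0, 1; 0, 0] + X 1 0 • !![0, 0; 1, 0] := by
    intro X
    ext i j
    fin_cases i <;> fin_cases j <;> simp <;> field_simp <;> ring
  have hψ1 : ψ 1 = 1 := by show _ * (φ 1 * _) = 1; rw [hφ1, one_mul, b.inv_mul]
  have hψh : ψ !![1, 0; 0, -1] = !![1, 0; 0, -1] := by show _ * (M * _) = _; rw [hb, Units.inv_mul_cancel_left]
  have hcols : ∀ (A B : Matrix (Fin 2) (Fin 2) F) (σ : Matrix (Fin 2) (Fin 2) F → Matrix (Fin 2) (Fin 2) F),
      (∀ X, L X = A * σ X * Bᵀ) → ∀ i j k l, y (i, j) (k, l) = (A * σ (Matrix.single k l 1) * Bᵀ) i j := by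
    intro A B σ h i j k l
    rw [← h]
    show y (i, j) (k, l) = (y *ᵥ vec (Matrix.single k l 1)) (i, j)
    have e : vec (Matrix.single k l (1 : F)) = Pi.single (k, l) 1 := by
      funext p
      simp only [vec, Matrix.single_apply, Pi.single_apply]
      by_cases h : p = (k, l)
      · subst h; simp
      · rw [if_neg, if_neg h]
        rintro ⟨rfl, rfl⟩
        exact h rfl
    rw [e, Matrix.mulVec_single_one]
    rfl
  have hLX : ∀ X, L X = X0 * φ X := fun X => by
    show _ = _ * (_ * L X)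
    rw [← hU0, Units.mul_inv_cancel_left]
  rcases hcase with ⟨he, hf⟩ | ⟨he, hf⟩
  · -- conjugation by a diagonal matrix
    have hψX : ∀ X, ψ X = !![v, 0; 0, 1] * X * !![v⁻¹, 0; 0, 1] := by
      intro X
      conv_lhs => rw [hlin X]
      simp only [map_add, map_smul, hψ1, hψh, he, hf]
      ext i j
      fin_cases i <;> fin_cases j <;> simp [Matrix.mul_apply, Matrix.vecMul, dotProduct, Fin.sum_univ_two] <;> (try field_simp [hv]) <;> (try ring_nf)
    refine ⟨X0 * (b : Matrix (Fin 2) (Fin 2) F) * !![v, 0; 0, 1],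
      (!![v⁻¹, 0; 0, 1] * ((b⁻¹ : (Matrix (Fin 2) (Fin 2) F)ˣ) : Matrix (Fin 2) (Fin 2) F))ᵀ, ?_⟩
    ext ⟨i, j⟩ ⟨k, l⟩
    rw [hcols (X0 * (b : Matrix (Fin 2) (Fin 2) F) * !![v, 0; 0, 1])
      ((!![v⁻¹, 0; 0, 1] * ((b⁻¹ : (Matrix (Fin 2) (Fin 2) F)ˣ) : Matrix (Fin 2) (Fin 2) F))ᵀ) id
      (fun X => by rw [hLX, hψ, hψX, Matrix.transpose_transpose]; simp [mul_assoc])]
    simp [Matrix.mul_apply, Matrix.single_apply, Fin.sum_univ_two, Matrix.kroneckerMap_apply]
    fin_cases k <;> fin_cases l <;> simp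
  · -- with a transposition the map is improper
    exfalso
    have hψX : ∀ X, ψ X = !![v⁻¹, 0; 0, 1] * Xᵀ * !![v, 0; 0, 1] := by
      intro X
      conv_lhs => rw [hlin X]
      simp only [map_add, map_smul, hψ1, hψh, he, hf]
      ext i j
      fin_cases i <;> fin_cases j <;> simp [Matrix.mul_apply, Matrix.vecMul, dotProduct, Fin.sum_univ_two] <;> (try field_simp [hv]) <;> (try ring_nf)
    set A := X0 * (b : Matrix (Fin 2) (Fin 2) F) * !![v⁻¹, 0; 0, 1] with hA
    set B := (!![v, 0; 0, 1] * ((b⁻¹ : (Matrix (Fin 2) (Fin 2) F)ˣ) : Matrix (Fin 2) (Fin 2) F))ᵀ with hB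
    have hLA : ∀ X, L X = A * Xᵀ * Bᵀ := fun X => by
      rw [hLX, hψ, hψX, hA, hB, Matrix.transpose_transpose]; simp [mul_assoc]
    have hyeq : y = (A ⊗ₖ B).submatrix id (Equiv.prodComm (Fin 2) (Fin 2)) := by
      ext ⟨i, j⟩ ⟨k, l⟩
      rw [hcols A B Matrix.transpose hLA]
      simp [Matrix.mul_apply, Matrix.single_apply, Fin.sum_univ_two, Matrix.kroneckerMap_apply]
      fin_cases k <;> fin_cases l <;> simp
    have hdA : A.det * B.det = μ := by
      have h := hLdet 1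
      rw [hLA, Matrix.transpose_one, mul_one, Matrix.det_mul, Matrix.det_transpose, Matrix.det_one, mul_one] at h
      exact h
    rw [hyeq, show (Equiv.prodComm (Fin 2) (Fin 2) : Fin 2 × Fin 2 ≃ Fin 2 × Fin 2) =
      Equiv.swap ((0 : Fin 2), (1 : Fin 2)) (1, 0) by decide, Matrix.det_permute', Equiv.Perm.sign_swap (by decide),
      Matrix.det_kronecker, Fintype.card_fin, ← mul_pow, hdA] at hdety
    push_cast at hdety
    exact mul_ne_zero h2 (pow_ne_zero 2 hμ) (by linear_combination -hdety)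

end OE

end H98
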