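import Cfsg.Agent.H98.OrthEven.Disc
import Cfsg.Agent.H98.OrthEven.Proper
import Cfsg.Agent.H44.JordanEven

/-!
The stabilised subspaces of a reducible subgroup of the commutator subgroup of an orthogonal group in even
dimension at most twelve.
-/

set_option autoImplicit false
set_option linter.unusedSectionVars false
set_option linter.style.haveILetI false
set_option maxHeartbeats 800000

open Cfsg.Geo
open scoped Matrix MatrixGroups

namespace H98

namespace OE

open H51.FormAsch (sform_polar omega_isometry odd_card_of_two)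

variable {ι : Type} [Fintype ι] [DecidableEq ι] {F : Type*} [Field F] [Fintype F]

local notation "V" => (ι → F)

theorem not_odd_card (h2 : (2 : F) = 0) : ¬ Odd (Fintype.card F) := by
  rintro ⟨j, hj⟩
  have h := FiniteField.cast_card_eq_zero F
  rw [hj, Nat.cast_add, Nat.cast_mul, Nat.cast_ofNat, h2, zero_mul, zero_add, Nat.cast_one] at h
  exact one_ne_zero h

/-- The reducible types. -/
inductive RedOutcome (q : QuadraticForm F (ι → F)) (H : Subgroup (GL ι F)) : Prop
  | singular (W : Submodule F (ι → F)) (hb : W ≠ ⊥) (hs : IsTotallySingularQuad ⇑q W)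
      (hdim : IsPlusTypeOn ⇑q ⊤ → 2 * Module.finrank F W + 2 ≠ Fintype.card ι) (h : H ≤ subspaceStabilizer W)
  | oddDim (hodd : Odd (Fintype.card F)) (W : Submodule F (ι → F)) (hb : W ≠ ⊥) (ht : W ≠ ⊤)
      (hd : Odd (Module.finrank F W)) (hne : 2 * Module.finrank F W ≠ Fintype.card ι)
      (hn : IsNondegenerateOn (QuadraticMap.polar ⇑q) W) (h : H ≤ subspaceStabilizer W)
  | minusPlane (W : Submodule F (ι → F)) (hd : Module.finrank F W = 2)
      (hn : IsNondegenerateOn (QuadraticMap.polar ⇑q) W) (hp : ¬ IsPlusTypeOn ⇑q W)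
      (h : H ≤ subspaceStabilizer W)
  | plusPlane (h4 : 4 ≤ Fintype.card F) (W : Submodule F (ι → F)) (hd : Module.finrank F W = 2)
      (hn : IsNondegenerateOn (QuadraticMap.polar ⇑q) W) (hp : IsPlusTypeOn ⇑q W) (h : H ≤ subspaceStabilizer W)
  | four (W : Submodule F (ι → F)) (hd : Module.finrank F W = 4)
      (hn : IsNondegenerateOn (QuadraticMap.polar ⇑q) W) (h : H ≤ subspaceStabilizer W)
  | half (W : Submodule F (ι → F)) (hd : 2 * Module.finrank F W = Fintype.card ι)
      (hn : IsNondegenerateOn (QuadraticMap.polar ⇑q) W) (h : H ≤ subspaceStabilizer W)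
  | point (he : ¬ Odd (Fintype.card F)) (v : ι → F) (hv : q v ≠ 0)
      (h : H ≤ subspaceStabilizer (Submodule.span F {v}))

variable {q : QuadraticForm F (ι → F)} {H : Subgroup (GL ι F)}

theorem singular_case (hq : (H43.polB q).Nondegenerate) (hn : 5 ≤ Fintype.card ι) (hle : H ≤ omegaGL ⇑q)
    {W : Submodule F V} (hb : W ≠ ⊥) (hs : IsTotallySingularQuad ⇑q W) (h : H ≤ subspaceStabilizer W) :
    RedOutcome q H := by
  by_cases hex : IsPlusTypeOn ⇑q ⊤ ∧ 2 * Module.finrank F W + 2 = Fintype.card ι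
  · obtain ⟨U, hU, hUd, hUH⟩ := half_stable hq hn hex.1 hle hs hex.2 h
    exact .singular U (fun e => by rw [e, finrank_bot] at hUd; omega) hU (fun _ => by omega) hUH
  · exact .singular W hb hs (fun hp e => hex ⟨hp, e⟩) h

/-- The value one vectors of a plus plane over at most three elements lie on a line. -/
theorem small_plane (hq : (H43.polB q).Nondegenerate) (h4 : Fintype.card F < 4) (hn : 4 ≤ Fintype.card ι)
    (hH : ∀ g ∈ H, ∀ v, q ((g : Matrix ι ι F) *ᵥ v) = q v) {W : Submodule F V}
    (hW : W ⊓ (H43.polB q).orthogonal W = ⊥) (hd : Module.finrank F W = 2) (hp : IsPlusTypeOn ⇑q W)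
    (h : H ≤ subspaceStabilizer W) : RedOutcome q H := by
  classical
  obtain ⟨-, φ, hφ⟩ | ⟨hnp, -⟩ := type_cases hq hW (m := 1) (by rw [hd])
  swap
  · exact absurd hp hnp
  set a : W := φ.symm fun _ => 1 with ha
  have hqa : q (a : V) = 1 := by rw [hφ, ha, LinearEquiv.apply_symm_apply]; simp [Cfsg.quadFormPlus]
  have ha0 : (a : V) ≠ 0 := fun e => one_ne_zero (α := F) (by rw [← hqa, e, QuadraticMap.map_zero])
  have hline : ∀ x : W, q (x : V) = 1 → ∃ c : F, (x : V) = c • (a : V) := by
    intro x hx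
    rw [hφ] at hx
    simp only [Cfsg.quadFormPlus, Fin.sum_univ_one] at hx
    refine ⟨φ x (.inl 0), ?_⟩
    have e : x = φ x (.inl 0) • a := φ.injective (by
      rw [map_smul, ha, LinearEquiv.apply_symm_apply]
      funext i
      have hsq : φ x (.inl 0) * φ x (.inl 0) = 1 := by
        have hne : φ x (.inl 0) ≠ 0 := left_ne_zero_of_mul_eq_one hx
        rcases Nat.lt_or_ge (Fintype.card F) 3 with h3 | h3
        · have h1 := FiniteField.pow_card_sub_one_eq_one _ hne
          have h2 : Fintype.card F = 2 := by have := Fintype.one_lt_card (α := F); omega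
          rw [h2, pow_one] at h1
          rw [h1, one_mul]
        · have h1 := FiniteField.pow_card_sub_one_eq_one _ hne
          rw [show Fintype.card F = 3 by omega] at h1
          simpa [pow_two] using h1
      rcases i with i | i <;> obtain rfl : i = 0 := Subsingleton.elim _ _ <;>
        simp only [Pi.smul_apply, smul_eq_mul, mul_one]
      calc φ x (.inr 0) = φ x (.inl 0) * φ x (.inl 0) * φ x (.inr 0) := by rw [hsq, one_mul]
        _ = φ x (.inl 0) := by rw [mul_assoc, hx, mul_one])
    exact congrArg Subtype.val e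
  have hst : H ≤ subspaceStabilizer (Submodule.span F {(a : V)}) := by
    refine le_stab_of_maps fun g hg x hx => ?_
    obtain ⟨s, rfl⟩ := Submodule.mem_span_singleton.1 hx
    obtain ⟨c, hc⟩ := hline ⟨_, (h hg (a : V)).1 a.2⟩ (show q ((g : Matrix ι ι F) *ᵥ (a : V)) = 1 by
      rw [hH g hg]; exact hqa)
    rw [Matrix.mulVec_smul, show (g : Matrix ι ι F) *ᵥ (a : V) = c • (a : V) from hc]
    exact Submodule.smul_mem _ _ (Submodule.smul_mem _ _ (Submodule.mem_span_singleton_self _))
  by_cases h2 : (2 : F) = 0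
  · exact .point (not_odd_card h2) a (by rw [hqa]; exact one_ne_zero) hst
  refine .oddDim (odd_card_of_two h2) _ (by rwa [Ne, Submodule.span_singleton_eq_bot]) (fun e => ?_)
    (by rw [finrank_span_singleton ha0]; exact odd_one) (by rw [finrank_span_singleton ha0]; omega)
    (nondegOn_iff.2 (eq_bot_iff.2 ?_)) hst
  · have h1 := finrank_span_singleton (K := F) ha0
    rw [e, finrank_top, Module.finrank_pi] at h1
    omega
  · rintro x ⟨hx, hx'⟩
    obtain ⟨s, rfl⟩ := Submodule.mem_span_singleton.1 hx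
    have h1 := mem_orth.1 hx' _ (Submodule.mem_span_singleton_self (a : V))
    rw [map_smul, H43.polB_self, hqa, mul_one, smul_eq_mul] at h1
    rw [Submodule.mem_bot, (mul_eq_zero.1 h1).resolve_right h2, zero_smul]

/-- An invariant non-degenerate subspace of dimension at most half. -/
theorem nondeg_small (hq : (H43.polB q).Nondegenerate)
    (hn : Fintype.card ι = 8 ∨ Fintype.card ι = 10 ∨ Fintype.card ι = 12)
    (hH : ∀ g ∈ H, ∀ v, q ((g : Matrix ι ι F) *ᵥ v) = q v) {W : Submodule F V} (hb : W ≠ ⊥)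
    (hd : 2 * Module.finrank F W ≤ Fintype.card ι) (hW : W ⊓ (H43.polB q).orthogonal W = ⊥)
    (h : H ≤ subspaceStabilizer W) : RedOutcome q H := by
  by_cases hhalf : 2 * Module.finrank F W = Fintype.card ι
  · exact .half W hhalf (nondegOn_iff.2 hW) h
  have ht : W ≠ ⊤ := fun e => by rw [e, finrank_top, Module.finrank_pi] at hd; omega
  have hpos : 1 ≤ Module.finrank F W := Nat.one_le_iff_ne_zero.2 fun e => hb (Submodule.finrank_eq_zero.1 e)
  rcases Nat.even_or_odd (Module.finrank F W) with ⟨j, hj⟩ | hod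
  · have hd24 : Module.finrank F W = 2 ∨ Module.finrank F W = 4 := by omega
    rcases hd24 with hd2 | hd4
    · by_cases hp : IsPlusTypeOn ⇑q W
      · by_cases h4 : 4 ≤ Fintype.card F
        · exact .plusPlane h4 W hd2 (nondegOn_iff.2 hW) hp h
        · exact small_plane hq (by omega) (by omega) hH hW hd2 hp h
      · exact .minusPlane W hd2 (nondegOn_iff.2 hW) hp h
    · exact .four W hd4 (nondegOn_iff.2 hW) h
  · refine .oddDim ?_ W hb ht hod hhalf (nondegOn_iff.2 hW) h
    refine odd_card_of_two fun h2 => ?_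
    have := H44.even_finrank_of_alt (H43.polB (q.restrict W))
      (fun x => by rw [H43.polB_self, h2, zero_mul]) fun x hx => (H43.restrict_nondeg W hW).1 x hx
    exact Nat.not_even_iff_odd.2 hod this

/-- **The reducible types.** -/
theorem redOutcome (hq : (H43.polB q).Nondegenerate)
    (hn : Fintype.card ι = 8 ∨ Fintype.card ι = 10 ∨ Fintype.card ι = 12) (hle : H ≤ omegaGL ⇑q)
    (hirr : ¬ Irr H) : RedOutcome q H := by
  classical
  simp only [Irr, not_forall, not_or] at hirr
  obtain ⟨W, hW, hb, ht⟩ := hirr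
  have hH : ∀ g ∈ H, ∀ v, q ((g : Matrix ι ι F) *ᵥ v) = q v := fun g hg v => omega_isometry (hle hg) v
  have hWo := le_stab_orth hH hW
  set U := W ⊓ (H43.polB q).orthogonal W with hU
  by_cases hU0 : U = ⊥
  · by_cases hd : 2 * Module.finrank F W ≤ Fintype.card ι
    · exact nondeg_small hq hn hH hb hd hU0 hW
    · have h1 : Module.finrank F ↥((H43.polB q).orthogonal W) + Module.finrank F ↥W = Module.finrank F V :=
        H43.finrank_orth_add hq W
      rw [Module.finrank_pi] at h1
      refine nondeg_small hq hn hH (fun e => ht ?_) ?_ (orth_orth_nondeg hq hU0) hWo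
      · have h2 := sup_orth_eq_top hq hU0
        rwa [e, sup_bot_eq] at h2
      · omega
  have hUts : ∀ u ∈ U, ∀ v ∈ U, H43.polB q u v = 0 := fun u hu v hv => mem_orth.1 hv.2 u hu.1
  have hUH : H ≤ subspaceStabilizer U :=
    le_stab_of_maps fun g hg v hv => ⟨(hW hg v).1 hv.1, (hWo hg v).1 hv.2⟩
  by_cases h2 : (2 : F) = 0
  swap
  · exact singular_case hq (by omega) hle hU0
      (tsQuad_of_tsFor h2 fun u hu v hv => by rw [← H43.polB_apply]; exact hUts u hu v hv) hUH
  let K : Submodule F V :=
    { carrier := {v | v ∈ U ∧ q v = 0}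
      zero_mem' := ⟨zero_mem _, QuadraticMap.map_zero _⟩
      add_mem' := fun {u v} hu hv => ⟨add_mem hu.1 hv.1, by
        rw [H43.qmap_add, hu.2, hv.2, hUts u hu.1 v hv.1, add_zero, add_zero]⟩
      smul_mem' := fun c v hv => ⟨U.smul_mem c hv.1, by rw [H43.qmap_smul, hv.2, mul_zero]⟩ }
  by_cases hK : K = ⊥
  swap
  · exact singular_case hq (by omega) hle hK (fun v hv => hv.2)
      (le_stab_of_maps fun g hg v hv => ⟨(hUH hg v).1 hv.1, by rw [hH g hg]; exact hv.2⟩)
  obtain ⟨v, hv, hv0⟩ := U.exists_mem_ne_zero_of_ne_bot hU0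
  have hqv : q v ≠ 0 := fun e => hv0 (by
    have : v ∈ K := ⟨hv, e⟩
    rwa [hK, Submodule.mem_bot] at this)
  have hUv : U = Submodule.span F {v} := by
    refine le_antisymm (fun u hu => ?_) ((Submodule.span_singleton_le_iff_mem v U).2 hv)
    obtain ⟨c, hc⟩ := H43.isSquare_of_two_eq_zero h2 (q u / q v)
    have : u - c • v ∈ K := ⟨sub_mem hu (U.smul_mem c hv), by
      rw [sub_eq_add_neg, ← neg_smul, H43.qmap_add, H43.qmap_smul, hUts u hu _ (U.smul_mem _ hv), add_zero,
        neg_mul_neg, ← hc, div_mul_cancel₀ _ hqv, ← two_mul, h2, zero_mul]⟩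
    rw [hK, Submodule.mem_bot, sub_eq_zero] at this
    exact Submodule.mem_span_singleton.2 ⟨c, this.symm⟩
  exact .point (not_odd_card h2) v hqv (hUv ▸ hUH)

end OE

end H98
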