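import Cfsg.Agent.H98.OrthEven.TensorTwelve
import Cfsg.Agent.H49.TensorThree
import Cfsg.Agent.H45.EvenTensorTwo
import Cfsg.Agent.H51.FormAsch.Core

/-!
The possible outcomes of a tensor decomposition in dimensions eight, ten and twelve.
-/

set_option autoImplicit false
set_option linter.unusedSectionVars false
set_option linter.style.haveILetI false
set_option maxHeartbeats 800000

open Cfsg.Geo
open scoped Matrix MatrixGroups Kronecker

namespace H98

namespace OE

open H51.FormAsch (IsAdj centreOf unc gramMatrix_formOfGram isSymmetricForm_gram odd_card_of_two)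

variable {ι : Type} [Fintype ι] [DecidableEq ι] {F : Type*} [Field F] [Fintype F]

local notation "V" => (ι → F)

/-- A commutative normalised algebra closed under adjoints, larger than the scalars. -/
def HasCommAlg (q : QuadraticForm F (ι → F)) (H : Subgroup (GL ι F)) : Prop :=
  ∃ B : Subalgebra F (Matrix ι ι F), (∀ x ∈ B, ∀ y ∈ B, x * y = y * x) ∧
    (∀ g ∈ H, ∀ X ∈ B, H46.glConj g X ∈ B) ∧
    (∀ X ∈ B, ∃ Y ∈ B, IsAdj (QuadraticMap.polar ⇑q) X Y) ∧ B ≠ ⊥

/-- The outcomes of tensor coordinates. -/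
inductive TensorResult (q : QuadraticForm F (ι → F)) (H : Subgroup (GL ι F)) : Prop
  | plus8 (hn : Fintype.card ι = 8) (hp : IsPlusTypeOn ⇑q ⊤)
  | tensorAlt (hn : Fintype.card ι = 12) (h3 : 3 ≤ Fintype.card F) (hp : IsPlusTypeOn ⇑q ⊤)
      (e : ι ≃ Fin 2 × Fin 6) (P : GL ι F) (f₁ : (Fin 2 → F) → (Fin 2 → F) → F)
      (f₂ : (Fin 6 → F) → (Fin 6 → F) → F) (h1 : IsSymplecticForm f₁) (h2 : IsSymplecticForm f₂)
      (ht : IsTensorFormStructure id (QuadraticMap.polar ⇑q) f₁ f₂ e P)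
      (hpure : ∀ (x₁ : Fin 2 → F) (x₂ : Fin 6 → F),
        q (Matrix.mulVec (P : Matrix ι ι F) ((fun a : Fin 2 × Fin 6 => x₁ a.1 * x₂ a.2) ∘ e)) = 0)
      (h : H ≤ tensorProductSubgroup 2 6 e P)
  | tensorSym (hn : Fintype.card ι = 12) (hodd : Odd (Fintype.card F)) (h5 : 5 ≤ Fintype.card F)
      (hp : ¬ IsPlusTypeOn ⇑q ⊤) (e : ι ≃ Fin 3 × Fin 4) (P : GL ι F) (f₁ : (Fin 3 → F) → (Fin 3 → F) → F)
      (f₂ : (Fin 4 → F) → (Fin 4 → F) → F) (h1 : IsSymmetricForm f₁) (h2 : IsSymmetricForm f₂)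
      (hp2 : ¬ IsPlusTypeOn (fun v : Fin 4 → F => f₂ v v) ⊤)
      (ht : IsTensorFormStructure id (QuadraticMap.polar ⇑q) f₁ f₂ e P)
      (h : H ≤ tensorProductSubgroup 3 4 e P)
  | comm (h : HasCommAlg q H)

variable {q : QuadraticForm F (ι → F)} {H : Subgroup (GL ι F)} {a m : ℕ} {e : ι ≃ Fin a × Fin m} {P : GL ι F}
  {S : Matrix (Fin a) (Fin a) F} {C : Matrix (Fin m) (Fin m) F} {κ : F}

theorem TensorData.le_tensor (hd : TensorData q H e P S C κ) : H ≤ tensorProductSubgroup a m e P := by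
  intro g hg
  obtain ⟨x, y, hxy⟩ := hd.mem g hg
  refine H46.mem_tensorProductSubgroup e P g ⟨x, y, ?_⟩
  apply (H46.matCoords e P).injective
  rw [H46.matCoords_glCoords_symm, hxy]

theorem TensorData.structure_eq (hd : TensorData q H e P S C κ) :
    IsTensorFormStructure id (QuadraticMap.polar ⇑q) (formOfGram (id : F → F) S) (formOfGram (id : F → F) C) e P :=
  ⟨1, one_ne_zero, fun x y => by
    rw [one_mul, gramMatrix_formOfGram, gramMatrix_formOfGram]
    exact hd.form x y⟩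

theorem TensorData.alternating (hd : TensorData q H e P S C κ) (hirr : Irr H)
    (hH : ∀ g ∈ H, ∀ v, q ((g : Matrix ι ι F) *ᵥ v) = q v) (h : κ = -1 ∨ (2 : F) = 0) :
    Cᵀ = -C ∧ ∀ u, C u u = 0 := by
  by_cases h2 : (2 : F) = 0
  · refine ⟨?_, hd.diag_zero h2 hirr hH⟩
    ext u v
    rw [Matrix.transpose_apply, Matrix.neg_apply, hd.symC]
    rcases hd.sign with e | e <;> rw [e]
    · linear_combination C u v * h2
    · ring
  · have hκ := h.resolve_right h2
    refine ⟨?_, fun u => ?_⟩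
    · ext u v
      rw [Matrix.transpose_apply, Matrix.neg_apply, hd.symC, hκ, neg_one_mul]
    · have := hd.symC u u
      rw [hκ] at this
      exact (mul_eq_zero.1 (show (2 : F) * C u u = 0 by linear_combination this)).resolve_left h2

theorem TensorData.even_right (hd : TensorData q H e P S C κ) (hirr : Irr H)
    (hH : ∀ g ∈ H, ∀ v, q ((g : Matrix ι ι F) *ᵥ v) = q v) (h : κ = -1 ∨ (2 : F) = 0) : Even m := by
  obtain ⟨h1, h2⟩ := hd.alternating hirr hH h
  simpa using H46.even_card_of_symplectic (H46.isSymplecticForm_gram C hd.unitC h1 h2)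

/-- A symmetric two-dimensional factor. -/
theorem TensorData.sym_two {e : ι ≃ Fin 2 × Fin m} {S : Matrix (Fin 2) (Fin 2) F} (hd : TensorData q H e P S C κ)
    (h2 : (2 : F) ≠ 0) (hκ : κ = 1) (hH : ∀ g ∈ H, ∀ v, q ((g : Matrix ι ι F) *ᵥ v) = q v) : HasCommAlg q H := by
  have hS : Sᵀ = S := by ext i j; rw [Matrix.transpose_apply, hd.symS, hκ, one_mul]
  obtain ⟨W, hW⟩ := hd.unitS
  set Si := ((W⁻¹ : (Matrix (Fin 2) (Fin 2) F)ˣ) : Matrix (Fin 2) (Fin 2) F)
  have hSSi : S * Si = 1 := by rw [← hW]; exact W.mul_inv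
  have hSiS : Si * S = 1 := by rw [← hW]; exact W.inv_mul
  set J := Si * altTwo F with hJ
  have hSJ : S * J = altTwo F := by rw [hJ, ← mul_assoc, hSSi, one_mul]
  refine hd.reduce_single J (fun c hc => ?_) (fun g hg x y hxy => ?_) ⟨-1, 0, ?_⟩
  · have h1 := congrArg (S * ·) hc
    simp only [hSJ, Matrix.mul_smul, mul_one] at h1
    have h01 := congrFun (congrFun h1 0) 1
    have h10 := congrFun (congrFun h1 1) 0
    simp only [Matrix.smul_apply, smul_eq_mul, hd.symS 0 1, hκ, one_mul] at h10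
    simp [altTwo] at h01 h10
    exact h2 (by linear_combination h01 - h10)
  · obtain ⟨μ, -, hx, -⟩ := hd.similitude hH hg hxy
    have hdx : (x : Matrix (Fin 2) (Fin 2) F).det ≠ 0 := ((Matrix.isUnit_iff_isUnit_det _).1 x.isUnit).ne_zero
    refine ⟨μ / (x : Matrix (Fin 2) (Fin 2) F).det, 0, ?_⟩
    rw [zero_smul, add_zero, Matrix.smul_mul]
    refine ((((Matrix.isUnit_transpose _).2 x.isUnit).mul ⟨W, hW⟩)).mul_left_cancel ?_
    rw [Matrix.mul_smul, ← mul_assoc, hx, Matrix.smul_mul, hSJ, mul_assoc, ← mul_assoc S, hSJ, ← mul_assoc,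
      altTwo_sim, smul_smul, div_mul_cancel₀ _ hdx]
  · have hSi : Siᵀ = Si := by
      have h1 := congrArg Matrix.transpose hSiS
      rw [Matrix.transpose_mul, hS, Matrix.transpose_one] at h1
      exact (left_inv_eq_right_inv hSiS h1).symm
    rw [zero_smul, add_zero, Matrix.mul_smul, hSJ, hJ, Matrix.transpose_mul, hSi, mul_assoc, hSiS, mul_one]
    ext i j
    fin_cases i <;> fin_cases j <;> simp [altTwo]

/-- An alternating two-dimensional factor over two elements. -/
theorem TensorData.alt_two {e : ι ≃ Fin 2 × Fin m} {S : Matrix (Fin 2) (Fin 2) F} (hd : TensorData q H e P S C κ)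
    (hq2 : Fintype.card F = 2) (hS : Sᵀ = -S) (hS0 : ∀ i, S i i = 0) : HasCommAlg q H := by
  have h2 : (2 : F) = 0 := by
    have := FiniteField.cast_card_eq_zero F
    rw [hq2] at this
    exact_mod_cast this
  refine hd.reduce_single !![0, 1; 1, 1] (fun c hc => ?_) (fun g hg x y hxy => ?_) ⟨-1, 1, ?_⟩
  · simpa using congrFun (congrFun hc 0) 1
  · have hdx : (x : Matrix (Fin 2) (Fin 2) F).det ≠ 0 := ((Matrix.isUnit_iff_isUnit_det _).1 x.isUnit).ne_zero
    rcases H45.gl2_two_cases hq2 _ hdx with ⟨h1, h3⟩ | ⟨h1, h3⟩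
    · refine ⟨1, 0, ?_⟩
      rw [one_smul, zero_smul, add_zero]
      ext i j
      fin_cases i <;> fin_cases j <;> simp [Matrix.mul_apply, Fin.sum_univ_two]
      · exact h1
      · exact h3
      · linear_combination -h3 + h1
      · linear_combination -h1
    · refine ⟨1, 1, ?_⟩
      rw [one_smul, one_smul]
      ext i j
      fin_cases i <;> fin_cases j <;> simp [Matrix.mul_apply, Fin.sum_univ_two, add_mul]
      · linear_combination h3
      · rw [← h1, h3]; linear_combination -(x : Matrix (Fin 2) (Fin 2) F) 0 0 * 0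
      · rw [← h1]; linear_combination -(x : Matrix (Fin 2) (Fin 2) F) 1 0 * h2
      · rw [← h1, h3]; linear_combination -(x : Matrix (Fin 2) (Fin 2) F) 0 0 * h2
  · have h01 : S 1 0 = -S 0 1 := congrFun (congrFun hS 0) 1
    ext i j
    fin_cases i <;> fin_cases j <;>
      simp [Matrix.mul_apply, Fin.sum_univ_two, hS0, h01]

/-- A symmetric three-dimensional factor over three elements. -/
theorem TensorData.sym_three {e : ι ≃ Fin 3 × Fin m} {S : Matrix (Fin 3) (Fin 3) F} (hd : TensorData q H e P S C κ)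
    (hq3 : Fintype.card F = 3) (hκ : κ = 1) (hH : ∀ g ∈ H, ∀ v, q ((g : Matrix ι ι F) *ᵥ v) = q v) :
    HasCommAlg q H := by
  have hS : Sᵀ = S := by ext i j; rw [Matrix.transpose_apply, hd.symS, hκ, one_mul]
  obtain ⟨B, d, hd0, hB⟩ := H49.exists_frame_three hq3 _ (isSymmetricForm_gram S hd.unitS hS)
  rw [gramMatrix_formOfGram] at hB
  have hBdet : B.det ≠ 0 := fun h0 => by
    have h := congrArg Matrix.det hB
    rw [Matrix.det_mul, h0, mul_zero, Matrix.det_smul, Matrix.det_one, mul_one] at h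
    exact pow_ne_zero _ hd0 h.symm
  set U := ((Matrix.isUnit_iff_isUnit_det _).2 (isUnit_iff_ne_zero.2 hBdet)).unit
  have hU : (U : Matrix (Fin 3) (Fin 3) F) = B := IsUnit.unit_spec _
  set Ui := ((U⁻¹ : GL (Fin 3) F) : Matrix (Fin 3) (Fin 3) F)
  have hBUi : B * Ui = 1 := by rw [← hU]; exact U.mul_inv
  have hUiB : Ui * B = 1 := by rw [← hU]; exact U.inv_mul
  let φ : (Fin 3 → F) →ₐ[F] Matrix (Fin 3) (Fin 3) F :=
    (H46.glConj U).toAlgHom.comp (Matrix.diagonalAlgHom F)
  have hφ : ∀ w, φ w = B * Matrix.diagonal w * Ui := fun w => by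
    show H46.glConj U (Matrix.diagonal w) = _
    rw [H46.glConj_apply, hU]
  refine hd.reduce (A := φ.range) ?_ (fun h => ?_) (fun g hg x y hxy X hX => ?_) (fun X hX => ?_)
  · rintro _ ⟨u, rfl⟩ _ ⟨v, rfl⟩
    show φ u * φ v = φ v * φ u
    rw [← map_mul, ← map_mul, mul_comm]
  · have hmem : φ (Pi.single 0 1) ∈ φ.range := ⟨_, rfl⟩
    rw [h] at hmem
    obtain ⟨c, hc⟩ := Algebra.mem_bot.1 hmem
    have h1 : φ (algebraMap F _ c) = φ (Pi.single 0 1) := by rw [AlgHom.commutes]; exact hc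
    have h2 : Matrix.diagonal (algebraMap F (Fin 3 → F) c) = Matrix.diagonal (Pi.single (0 : Fin 3) (1 : F)) :=
      (H46.glConj U).injective h1
    have h3 := Matrix.diagonal_injective h2
    have e0 := congrFun h3 0
    have e1 := congrFun h3 1
    simp at e0 e1
    exact one_ne_zero (α := F) (e0.symm.trans e1)
  · obtain ⟨w, rfl⟩ := hX
    obtain ⟨μ, hμ, hx, -⟩ := hd.similitude hH hg hxy
    set C' := Ui * (x : Matrix (Fin 3) (Fin 3) F) * B with hC'
    have hC'C : C'ᵀ * C' = μ • 1 := by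
      have hSB : S = d • (Uiᵀ * Ui) := by
        calc S = (Uiᵀ * Bᵀ) * S * (B * Ui) := by
              rw [← Matrix.transpose_mul, hBUi, Matrix.transpose_one, one_mul, mul_one]
          _ = Uiᵀ * (Bᵀ * S * B) * Ui := by simp only [mul_assoc]
          _ = _ := by rw [hB, Matrix.mul_smul, Matrix.smul_mul, mul_one]
      apply smul_right_injective _ hd0
      show d • (C'ᵀ * C') = d • (μ • (1 : Matrix (Fin 3) (Fin 3) F))
      calc d • (C'ᵀ * C') = Bᵀ * ((x : Matrix (Fin 3) (Fin 3) F)ᵀ * (d • (Uiᵀ * Ui)) * (x : Matrix (Fin 3) (Fin 3) F)) * B := by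
            rw [hC', Matrix.transpose_mul, Matrix.transpose_mul]
            simp only [Matrix.mul_smul, Matrix.smul_mul, mul_assoc]
        _ = _ := by rw [← hSB, hx, Matrix.mul_smul, Matrix.smul_mul, hB, smul_comm]
    obtain ⟨π, s, -, hπ⟩ := H49.monomial_three hq3 C' μ hμ hC'C
    refine ⟨φ (w ∘ π.symm), ⟨_, rfl⟩, ?_⟩
    have hmono : C' * Matrix.diagonal w = Matrix.diagonal (w ∘ π.symm) * C' := by
      ext k i
      rw [Matrix.mul_diagonal, Matrix.diagonal_mul, hπ k i]
      by_cases hk : k = π i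
      · subst hk; simp [mul_comm]
      · simp [hk]
    show (x : Matrix (Fin 3) (Fin 3) F) * φ w = φ (w ∘ π.symm) * (x : Matrix (Fin 3) (Fin 3) F)
    rw [hφ, hφ]
    calc (x : Matrix (Fin 3) (Fin 3) F) * (B * Matrix.diagonal w * Ui)
        = B * (C' * Matrix.diagonal w) * Ui := by
          rw [hC']; simp only [← mul_assoc, hBUi, one_mul]
      _ = B * Matrix.diagonal (w ∘ π.symm) * Ui * (x : Matrix (Fin 3) (Fin 3) F) := by
          rw [hmono, hC']; simp only [mul_assoc, hBUi, mul_one]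
  · obtain ⟨w, rfl⟩ := hX
    refine ⟨φ w, ⟨w, rfl⟩, ?_⟩
    show (φ w)ᵀ * S = S * φ w
    have hBS : Bᵀ * S = d • Ui := by
      rw [← mul_one (Bᵀ * S), ← hBUi, ← mul_assoc, hB, Matrix.smul_mul, one_mul]
    have hSB : S * B = d • Uiᵀ := by
      have h := congrArg Matrix.transpose hBS
      rwa [Matrix.transpose_mul, Matrix.transpose_transpose, hS, Matrix.transpose_smul] at h
    rw [hφ, Matrix.transpose_mul, Matrix.transpose_mul, Matrix.diagonal_transpose, mul_assoc, mul_assoc, hBS,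
      ← mul_assoc S, ← mul_assoc S, hSB, Matrix.smul_mul, Matrix.mul_smul, Matrix.mul_smul, Matrix.smul_mul,
      ← mul_assoc]

/-- A normalised algebra with scalar centre. -/
theorem of_scalar_centre_orth (hq : (H43.polB q).Nondegenerate)
    (hn : Fintype.card ι = 8 ∨ Fintype.card ι = 10 ∨ Fintype.card ι = 12) (hirr : Irr H)
    (hH : ∀ g ∈ H, ∀ v, q ((g : Matrix ι ι F) *ᵥ v) = q v) (hdet : ∀ g ∈ H, (g : Matrix ι ι F).det = 1)
    {A : Subalgebra F (Matrix ι ι F)} (hA : ∀ g ∈ H, ∀ X ∈ A, H46.glConj g X ∈ A)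
    (hadj : ∀ X ∈ A, ∃ Y ∈ A, IsAdj (QuadraticMap.polar ⇑q) X Y) (hbot : A ≠ ⊥) (htop : A ≠ ⊤)
    (hZ : centreOf A = ⊥) : TensorResult q H := by
  obtain ⟨a, m, e, P, S, C, κ, hle, hd⟩ := exists_tensorData hq (by omega) hirr hA hadj hbot htop hZ
  have hcard := hd.card_eq
  have ha3 : a ≤ 3 := by
    by_contra hc
    have := Nat.mul_le_mul (show 4 ≤ a by omega) (show 4 ≤ m by omega)
    omega
  have ha2 := hd.two_le_left
  by_cases halt : κ = -1 ∨ (2 : F) = 0
  · -- alternating factors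
    obtain ⟨hC, hC0⟩ := hd.alternating hirr hH halt
    obtain ⟨hS, hS0⟩ := hd.swap.alternating hirr hH halt
    have hea := hd.swap.even_right hirr hH halt
    have hem := hd.even_right hirr hH halt
    obtain rfl : a = 2 := by obtain ⟨i, hi⟩ := hea; omega
    have hpure := hd.pure_zero hirr hH hC0 hC
    have hp := plus_of_pure (q := q) rfl hpure
    rcases hn with h8 | h10 | h12
    · exact .plus8 h8 hp
    · obtain ⟨i, hi⟩ := hem; omega
    obtain rfl : m = 6 := by omega
    by_cases hq2 : Fintype.card F = 2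
    · exact .comm (hd.alt_two hq2 hS hS0)
    · exact .tensorAlt h12 (by have := Fintype.one_lt_card (α := F); omega) hp e P _ _
        (H46.isSymplecticForm_gram S hd.unitS hS hS0) (H46.isSymplecticForm_gram C hd.unitC hC hC0)
        hd.structure_eq hpure hd.le_tensor
  push Not at halt
  have hκ := hd.sign.resolve_right halt.1
  obtain rfl | rfl : a = 2 ∨ a = 3 := by omega
  · exact .comm (hd.sym_two halt.2 hκ hH)
  obtain rfl : m = 4 := by omega
  have hSs : Sᵀ = S := by ext i j; rw [Matrix.transpose_apply, hd.symS, hκ, one_mul]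
  have hCs : Cᵀ = C := by ext i j; rw [Matrix.transpose_apply, hd.symC, hκ, one_mul]
  have hodd := odd_card_of_two halt.2
  by_cases hq3 : Fintype.card F = 3
  · exact .comm (hd.sym_three hq3 hκ hH)
  have h5 : 5 ≤ Fintype.card F := by
    have := Fintype.one_lt_card (α := F)
    obtain ⟨i, hi⟩ := hodd
    omega
  have h12 : Fintype.card ι = 12 := by omega
  by_cases hp : IsPlusTypeOn ⇑q ⊤
  · obtain ⟨e', P', S', C', hd'⟩ := hd.regroup hq halt.2 hH hdet hSs hCs hp
    obtain ⟨hC, hC0⟩ := hd'.alternating hirr hH (Or.inl rfl)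
    obtain ⟨hS, hS0⟩ := hd'.swap.alternating hirr hH (Or.inl rfl)
    exact .tensorAlt h12 (by omega) hp e' P' _ _ (H46.isSymplecticForm_gram S' hd'.unitS hS hS0)
      (H46.isSymplecticForm_gram C' hd'.unitC hC hC0) hd'.structure_eq (hd'.pure_zero hirr hH hC0 hC) hd'.le_tensor
  · exact .tensorSym h12 hodd h5 hp e P _ _ (isSymmetricForm_gram S hd.unitS hSs)
      (isSymmetricForm_gram C hd.unitC hCs)
      (fun h => hp ((hd.plus_iff_four hq halt.2 hCs).2 ((plus_quadOf_iff halt.2 C).1 h)))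
      hd.structure_eq hd.le_tensor

end OE

end H98
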