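import Cfsg.Agent.H98.OrthEven.Field
import Cfsg.Agent.H51.FormAsch.Tensor
import Cfsg.Agent.H46.ClsQuad

/-!
An even-dimensional orthogonal space with a normalised central simple algebra: tensor coordinates, vanishing of
the form on pure tensors, algebras from one factor.
-/

set_option autoImplicit false
set_option linter.unusedSectionVars false
set_option linter.style.haveILetI false
set_option maxHeartbeats 800000

open Cfsg.Geo
open scoped Matrix MatrixGroups Kronecker

namespace H98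

namespace OE

open H51.FormAsch (sform_polar SForm IsAdj centreOf mem_centreOf unc vecCoords_unc unc_vecCoords matCoords_unc
  formOfGram_mulVec_left formOfGram_mulVec_right gram_ext)

variable {ι : Type} [Fintype ι] [DecidableEq ι] {F : Type*} [Field F] [Fintype F]

local notation "V" => (ι → F)

/-- A tensor decomposition of the polar form preserved by a group. -/
structure TensorData (q : QuadraticForm F (ι → F)) (H : Subgroup (GL ι F)) {a m : ℕ}
    (e : ι ≃ Fin a × Fin m) (P : GL ι F) (S : Matrix (Fin a) (Fin a) F) (C : Matrix (Fin m) (Fin m) F)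
    (κ : F) : Prop where
  two_le_left : 2 ≤ a
  two_le_right : 2 ≤ m
  unitS : IsUnit S
  unitC : IsUnit C
  form : ∀ x y, QuadraticMap.polar ⇑q (unc e P x) (unc e P y) = formOfGram (id : F → F) (S ⊗ₖ C) x y
  sign : κ = 1 ∨ κ = -1
  symS : ∀ i j, S j i = κ * S i j
  symC : ∀ u v, C v u = κ * C u v
  mem : ∀ g ∈ H, ∃ (x : GL (Fin a) F) (y : GL (Fin m) F), (g : Matrix ι ι F) =
    H46.matCoords e P ((x : Matrix (Fin a) (Fin a) F) ⊗ₖ (y : Matrix (Fin m) (Fin m) F))

variable {q : QuadraticForm F (ι → F)} {H : Subgroup (GL ι F)} {a m : ℕ} {e : ι ≃ Fin a × Fin m} {P : GL ι F}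
  {S : Matrix (Fin a) (Fin a) F} {C : Matrix (Fin m) (Fin m) F} {κ : F}

theorem TensorData.card_eq (_hd : TensorData q H e P S C κ) : Fintype.card ι = a * m := by
  rw [Fintype.card_congr e, Fintype.card_prod, Fintype.card_fin, Fintype.card_fin]

theorem TensorData.swap (hd : TensorData q H e P S C κ) :
    TensorData q H (e.trans (Equiv.prodComm _ _)) P C S κ where
  two_le_left := hd.two_le_right
  two_le_right := hd.two_le_left
  unitS := hd.unitC
  unitC := hd.unitS
  sign := hd.sign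
  symS := hd.symC
  symC := hd.symS
  mem := fun g hg => by
    obtain ⟨x, y, h⟩ := hd.mem g hg
    exact ⟨y, x, by rw [H51.FormAsch.matCoords_swap, h]⟩
  form := by
    intro x y
    show QuadraticMap.polar ⇑q (unc e P (x ∘ Prod.swap)) (unc e P (y ∘ Prod.swap)) = _
    rw [hd.form]
    simp only [formOfGram, Matrix.kroneckerMap_apply, Function.comp_apply, id]
    rw [← (Equiv.prodComm (Fin m) (Fin a)).sum_comp]
    refine Finset.sum_congr rfl fun z _ => ?_
    rw [← (Equiv.prodComm (Fin m) (Fin a)).sum_comp]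
    exact Finset.sum_congr rfl fun z' _ => by
      simp only [Equiv.prodComm_apply, Prod.fst_swap, Prod.snd_swap, Prod.swap_swap]
      ring

/-- The factors of an isometry are similitudes with reciprocal multipliers. -/
theorem TensorData.similitude (hd : TensorData q H e P S C κ)
    (hH : ∀ g ∈ H, ∀ v, q ((g : Matrix ι ι F) *ᵥ v) = q v) {g : GL ι F} (hg : g ∈ H)
    {x : GL (Fin a) F} {y : GL (Fin m) F} (hxy : (g : Matrix ι ι F) =
      H46.matCoords e P ((x : Matrix (Fin a) (Fin a) F) ⊗ₖ (y : Matrix (Fin m) (Fin m) F))) :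
    ∃ μ : F, μ ≠ 0 ∧ (x : Matrix (Fin a) (Fin a) F)ᵀ * S * (x : Matrix (Fin a) (Fin a) F) = μ • S ∧
      (y : Matrix (Fin m) (Fin m) F)ᵀ * C * (y : Matrix (Fin m) (Fin m) F) = μ⁻¹ • C := by
  haveI : Nonempty (Fin a) := ⟨⟨0, by linarith [hd.two_le_left]⟩⟩
  haveI : Nonempty (Fin m) := ⟨⟨0, by linarith [hd.two_le_right]⟩⟩
  set S' := (x : Matrix (Fin a) (Fin a) F)ᵀ * S * (x : Matrix (Fin a) (Fin a) F)
  set C' := (y : Matrix (Fin m) (Fin m) F)ᵀ * C * (y : Matrix (Fin m) (Fin m) F)
  have hM2 : S' ⊗ₖ C' = S ⊗ₖ C := by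
    rw [Matrix.mul_kronecker_mul, Matrix.mul_kronecker_mul, Matrix.kroneckerMap_transpose]
    apply gram_ext
    intro u v
    rw [mul_assoc, ← formOfGram_mulVec_left, ← formOfGram_mulVec_right, ← hd.form, ← hd.form]
    have h := isometry_polar (hH g hg) (unc e P u) (unc e P v)
    rwa [hxy, matCoords_unc, matCoords_unc] at h
  obtain ⟨i₀, j₀, hS0⟩ : ∃ i j, S i j ≠ 0 := by
    by_contra h
    push Not at h
    exact hd.unitS.ne_zero (Matrix.ext h)
  obtain ⟨u₀, v₀, hC0⟩ : ∃ u v, C u v ≠ 0 := by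
    by_contra h
    push Not at h
    exact hd.unitC.ne_zero (Matrix.ext h)
  have he : ∀ i j u v, S' i j * C' u v = S i j * C u v := fun i j u v =>
    congrFun (congrFun hM2 (i, u)) (j, v)
  have h0 := mul_ne_zero hS0 hC0
  rw [← he] at h0
  refine ⟨C u₀ v₀ / C' u₀ v₀, div_ne_zero hC0 (right_ne_zero_of_mul h0), ?_, ?_⟩
  · ext i j
    rw [Matrix.smul_apply, smul_eq_mul, div_mul_eq_mul_div, eq_div_iff (right_ne_zero_of_mul h0)]
    linear_combination he i j u₀ v₀
  · ext u v
    have h1 := he i₀ j₀ u v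
    have h2 := he i₀ j₀ u₀ v₀
    rw [Matrix.smul_apply, smul_eq_mul, inv_div]
    field_simp
    refine mul_left_cancel₀ (left_ne_zero_of_mul h0) ?_
    linear_combination C u₀ v₀ * h1 - C u v * h2

/-- Tensor coordinates from a normalised algebra with scalar centre. -/
theorem exists_tensorData (hq : (H43.polB q).Nondegenerate) (hn : 2 ≤ Fintype.card ι) (hirr : Irr H)
    {A : Subalgebra F (Matrix ι ι F)} (hA : ∀ g ∈ H, ∀ X ∈ A, H46.glConj g X ∈ A)
    (hadj : ∀ X ∈ A, ∃ Y ∈ A, IsAdj (QuadraticMap.polar ⇑q) X Y) (hbot : A ≠ ⊥) (htop : A ≠ ⊤)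
    (hZ : centreOf A = ⊥) :
    ∃ (a m : ℕ) (e : ι ≃ Fin a × Fin m) (P : GL ι F) (S : Matrix (Fin a) (Fin a) F)
      (C : Matrix (Fin m) (Fin m) F) (κ : F), a ≤ m ∧ TensorData q H e P S C κ := by
  haveI : Nonempty ι := Fintype.card_pos_iff.1 (by omega)
  haveI := H46.isSemisimpleRing_of_normalized (irr_iff.1 hirr) A hA
  have hs := sform_polar hq
  set f := QuadraticMap.polar ⇑q
  obtain ⟨a, m, e, P, ha, hm, hmem⟩ := H46.exists_coords_of_central A fun z hz hzc => by
    obtain ⟨c, rfl⟩ := Algebra.mem_bot.1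
      (hZ ▸ mem_centreOf.2 ⟨hz, fun x hx => (hzc x hx).symm⟩ : z ∈ (⊥ : Subalgebra F (Matrix ι ι F)))
    exact ⟨c, Algebra.algebraMap_eq_smul_one c⟩
  have ha2 : 2 ≤ a := by
    by_contra hlt
    obtain rfl : a = 1 := by omega
    apply hbot
    rw [eq_bot_iff]
    intro X hX
    obtain ⟨Y, rfl⟩ := (hmem X).1 hX
    have : Y = algebraMap F _ (Y 0 0) := by
      ext i j
      fin_cases i; fin_cases j
      simp [Matrix.algebraMap_matrix_apply]
    rw [this, AlgHom.commutes, AlgEquiv.commutes]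
    exact Subalgebra.algebraMap_mem _ _
  have hm2 : 2 ≤ m := by
    by_contra hlt
    obtain rfl : m = 1 := by omega
    apply htop
    rw [eq_top_iff]
    intro X _
    refine (hmem X).2 ⟨Matrix.of fun i j => (H46.matCoords e P).symm X (i, 0) (j, 0), ?_⟩
    rw [← AlgEquiv.symm_apply_eq]
    ext ⟨i, u⟩ ⟨j, v⟩
    obtain rfl : u = 0 := Subsingleton.elim _ _
    obtain rfl : v = 0 := Subsingleton.elim _ _
    simp [H46.kronOne_apply]
  have hHc : ∀ g ∈ H, ∃ (x : GL (Fin a) F) (y : GL (Fin m) F), (g : Matrix ι ι F) =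
      H46.matCoords e P ((x : Matrix (Fin a) (Fin a) F) ⊗ₖ (y : Matrix (Fin m) (Fin m) F)) := by
    intro g hg
    obtain ⟨x, y, rfl⟩ := H46.exists_glKron_of_normalizes ha hm e P g fun Y => by
      obtain ⟨Y', hY'⟩ := (hmem _).1 (hA g hg _ ((hmem _).2 ⟨Y, rfl⟩))
      exact ⟨Y', hY'⟩
    exact ⟨x, y, by rw [H46.glCoords_val, H46.glKron_val]⟩
  let M : Matrix (Fin a × Fin m) (Fin a × Fin m) F := gramMatrix fun x y => f (unc e P x) (unc e P y)
  have hunc_add : ∀ x y, unc e P (x + y) = unc e P x + unc e P y := fun x y => by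
    rw [unc, unc, unc, ← Matrix.mulVec_add]; rfl
  have hunc_smul : ∀ (c : F) x, unc e P (c • x) = c • unc e P x := fun c x => by
    rw [unc, unc, ← Matrix.mulVec_smul]; rfl
  have hMf : ∀ x y, f (unc e P x) (unc e P y) = formOfGram (id : F → F) M x y := fun x y =>
    congrFun (congrFun (H46.eq_formOfGram (RingEquiv.refl F) (fun x y => f (unc e P x) (unc e P y))
      (fun x y v => by rw [hunc_add, hs.add_left]) (fun c x v => by rw [hunc_smul, hs.smul_left])
      (fun v x y => by rw [hunc_add, hs.add_right]) (fun c v x => by rw [hunc_smul, hs.smul_right])) x) y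
  have hMsym : ∀ i j, M j i = M i j := fun i j => QuadraticMap.polar_comm _ _ _
  have hMu : IsUnit M := H46.isUnit_gram_of_nondegenerate (RingEquiv.refl F) M fun v hv => by
    have hne : unc e P v ≠ 0 := fun h => hv (by rw [← vecCoords_unc e P v, h, map_zero])
    obtain ⟨⟨x, hx⟩, ⟨y, hy⟩⟩ := hs.nondegenerate _ hne
    refine ⟨⟨H46.vecCoords e P x, ?_⟩, ⟨H46.vecCoords e P y, ?_⟩⟩
    · show formOfGram id M _ _ ≠ 0
      rw [← hMf, unc_vecCoords]; exact hx
    · show formOfGram id M _ _ ≠ 0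
      rw [← hMf, unc_vecCoords]; exact hy
  let Sl : Fin m → Fin m → Matrix (Fin a) (Fin a) F := fun u v => Matrix.of fun i j => M (i, u) (j, v)
  have hslice : ∀ Y' : Matrix (Fin a) (Fin a) F, ∃ Y : Matrix (Fin a) (Fin a) F,
      ∀ u v, Yᵀ * Sl u v = Sl u v * Y' := by
    intro Y'
    obtain ⟨Z, hZA, hZ'⟩ := hadj _ ((hmem _).2 ⟨Y', rfl⟩)
    obtain ⟨Y, rfl⟩ := (hmem Z).1 hZA
    refine ⟨Y, fun u v => ?_⟩
    have h1 := hs.adj_symm hZ'
    have h3 : (H46.kronOne (Fin a) (Fin m) F Y)ᵀ * M = M * H46.kronOne (Fin a) (Fin m) F Y' := by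
      apply gram_ext
      intro x y
      rw [← formOfGram_mulVec_left, ← formOfGram_mulVec_right, ← hMf, ← hMf, ← matCoords_unc,
        ← matCoords_unc, h1]
    ext i j
    have := congrFun (congrFun h3 (i, u)) (j, v)
    simpa [Sl, Matrix.mul_apply, Fintype.sum_prod_type, Matrix.one_apply, H46.kronOne_apply,
      ite_mul, mul_ite] using this
  haveI : Nonempty (Fin a) := ⟨⟨0, ha⟩⟩
  obtain ⟨u₀, v₀, hS₀⟩ : ∃ u v, Sl u v ≠ 0 := by
    by_contra h
    push Not at h
    haveI : Nonempty (Fin a × Fin m) := ⟨(⟨0, ha⟩, ⟨0, hm⟩)⟩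
    apply hMu.ne_zero
    ext i j
    exact congrFun (congrFun (h i.2 j.2) i.1) j.1
  set S₀ := Sl u₀ v₀ with hS₀def
  have hS₀u : IsUnit S₀ := by
    rw [Matrix.isUnit_iff_isUnit_det, isUnit_iff_ne_zero]
    intro hd
    obtain ⟨x, hx, hSx⟩ := Matrix.exists_mulVec_eq_zero_iff.2 hd
    apply hS₀
    refine Matrix.ext_of_mulVec_single fun j => ?_
    obtain ⟨i, hi⟩ : ∃ i, x i ≠ 0 := Function.ne_iff.1 hx
    obtain ⟨Y, hY⟩ := hslice (Matrix.vecMulVec (Pi.single j 1) (Pi.single i (x i)⁻¹))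
    have := congrArg (· *ᵥ x) (hY u₀ v₀)
    simp only [← Matrix.mulVec_mulVec] at this
    rw [hSx, Matrix.mulVec_zero, Matrix.vecMulVec_mulVec, single_dotProduct, inv_mul_cancel₀ hi] at this
    refine Eq.trans ?_ (Matrix.zero_mulVec _).symm
    simpa using this.symm
  have hscal : ∀ u v, ∃ c : F, Sl u v = c • S₀ := by
    intro u v
    obtain ⟨W, hW⟩ := hS₀u
    obtain ⟨c, hc⟩ := H46.eq_scalar_of_commute_generators (S := (Set.univ : Set (Matrix (Fin a) (Fin a) F)))
      (Algebra.adjoin_univ F _) (X := ((W⁻¹ : (Matrix (Fin a) (Fin a) F)ˣ) : Matrix (Fin a) (Fin a) F) * Sl u v)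
      (fun Y' _ => by
        obtain ⟨Y, hY⟩ := hslice Y'
        have e1 : Yᵀ = S₀ * Y' * ((W⁻¹ : (Matrix (Fin a) (Fin a) F)ˣ) : Matrix (Fin a) (Fin a) F) := by
          have := hY u₀ v₀
          rw [← hS₀def, ← hW] at this
          rw [← hW, ← this, mul_assoc, Units.mul_inv, mul_one]
        have := hY u v
        rw [e1, ← hW] at this
        show _ * Y' = Y' * _
        calc ((W⁻¹ : (Matrix (Fin a) (Fin a) F)ˣ) : Matrix (Fin a) (Fin a) F) * Sl u v * Y'
            = ((W⁻¹ : (Matrix (Fin a) (Fin a) F)ˣ) : Matrix (Fin a) (Fin a) F) * ((W : Matrix (Fin a) (Fin a) F) *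
              Y' * ((W⁻¹ : (Matrix (Fin a) (Fin a) F)ˣ) : Matrix (Fin a) (Fin a) F) * Sl u v) := by
              rw [this, mul_assoc]
          _ = _ := by simp only [mul_assoc, Units.inv_mul_cancel_left])
    refine ⟨c, ?_⟩
    have := congrArg ((W : Matrix (Fin a) (Fin a) F) * ·) hc
    simp only [← mul_assoc, Units.mul_inv, one_mul, Matrix.mul_smul, mul_one] at this
    rwa [hW] at this
  choose c hc using hscal
  let C : Matrix (Fin m) (Fin m) F := Matrix.of c
  have hkron : M = S₀ ⊗ₖ C := by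
    ext ⟨i, u⟩ ⟨j, v⟩
    have := congrFun (congrFun (hc u v) i) j
    simpa [Sl, C, mul_comm] using this
  have hCu : IsUnit C := by
    rw [Matrix.isUnit_iff_isUnit_det, isUnit_iff_ne_zero]
    intro hd
    have := (Matrix.isUnit_iff_isUnit_det _).1 hMu
    rw [hkron, Matrix.det_kronecker, hd, zero_pow (by simp; omega), mul_zero] at this
    exact not_isUnit_zero this
  have hent : ∀ i j u v, S₀ i j * C u v = S₀ j i * C v u := by
    intro i j u v
    have := hMsym (j, v) (i, u)
    simpa [hkron] using this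
  obtain ⟨i₀, j₀, hij⟩ : ∃ i j, S₀ i j ≠ 0 := by
    by_contra h
    push Not at h
    exact hS₀ (Matrix.ext h)
  obtain ⟨p₀, r₀, hpr⟩ : ∃ p r, C p r ≠ 0 := by
    by_contra h
    push Not at h
    haveI : Nonempty (Fin m) := ⟨⟨0, hm⟩⟩
    exact hCu.ne_zero (Matrix.ext h)
  have hrp : C r₀ p₀ ≠ 0 := fun h => mul_ne_zero hij hpr (by rw [hent, h, mul_zero])
  set κ := C p₀ r₀ / C r₀ p₀ with hκ
  have hSκ : ∀ i j, S₀ j i = κ * S₀ i j := fun i j => by
    rw [hκ]
    field_simp
    linear_combination -(hent i j p₀ r₀)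
  have hκ2 : κ * κ = 1 := by
    have h := hSκ j₀ i₀
    rw [hSκ i₀ j₀] at h
    exact mul_right_cancel₀ hij (by linear_combination -h)
  have hCκ : ∀ u v, C v u = κ * C u v := fun u v => by
    have := hent i₀ j₀ u v
    rw [hSκ i₀ j₀] at this
    apply mul_left_cancel₀ hij
    linear_combination -κ * this - (S₀ i₀ j₀ * C v u) * hκ2
  have hd : TensorData q H e P S₀ C κ :=
    ⟨ha2, hm2, hS₀u, hCu, hkron ▸ hMf, mul_self_eq_one_iff.1 hκ2, hSκ, hCκ, hHc⟩
  rcases le_total a m with h | h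
  · exact ⟨a, m, e, P, S₀, C, κ, h, hd⟩
  · exact ⟨m, a, _, P, C, S₀, κ, h, hd.swap⟩

/-- In characteristic two both factors are alternating. -/
theorem TensorData.diag_zero (hd : TensorData q H e P S C κ) (h2 : (2 : F) = 0) (hirr : Irr H)
    (hH : ∀ g ∈ H, ∀ v, q ((g : Matrix ι ι F) *ᵥ v) = q v) : ∀ u, C u u = 0 := by
  have hsym : ∀ u v, C v u = C u v := by
    intro u v
    rw [hd.symC]
    rcases hd.sign with h | h <;> rw [h]
    · rw [one_mul]
    · linear_combination -(C u v) * h2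
  let d : (Fin m → F) → F := fun v => formOfGram (id : F → F) C v v
  have hadd : ∀ p r, d (p + r) = d p + d r := by
    intro p r
    have hc : formOfGram (id : F → F) C r p = formOfGram (id : F → F) C p r := by
      simp only [formOfGram, id]
      rw [Finset.sum_comm]
      exact Finset.sum_congr rfl fun u _ => Finset.sum_congr rfl fun v _ => by rw [hsym u v]; ring
    have e0 : d (p + r) = d p + d r + (formOfGram (id : F → F) C p r + formOfGram (id : F → F) C r p) := by
      simp only [d, H46.formOfGram_eq, Function.id_comp, Matrix.mulVec_add, add_dotProduct, dotProduct_add]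
      ring
    rw [e0, hc]
    linear_combination (formOfGram (id : F → F) C p r) * h2
  have hsm : ∀ (c : F) p, d (c • p) = c ^ 2 * d p := fun c p => by
    simp only [d, H46.formOfGram_eq, Function.id_comp, Matrix.mulVec_smul, smul_dotProduct, dotProduct_smul,
      smul_eq_mul]
    ring
  set K := sqKer d hadd hsm
  let W : Submodule F V :=
    { carrier := {v | ∀ i, (fun u => H46.vecCoords e P v (i, u)) ∈ K}
      zero_mem' := fun i => by
        simp only [map_zero, Pi.zero_apply]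
        exact zero_mem K
      add_mem' := fun {v w} hv hw i => by
        simp only [map_add, Pi.add_apply]
        exact add_mem (hv i) (hw i)
      smul_mem' := fun c v hv i => by
        simp only [map_smul, Pi.smul_apply]
        exact K.smul_mem c (hv i) }
  have hW : H ≤ subspaceStabilizer W := le_stab_of_maps fun g hg v hv i => by
    obtain ⟨x, y, hxy⟩ := hd.mem g hg
    obtain ⟨μ, -, -, hy⟩ := hd.similitude hH hg hxy
    have hz : (fun u' => ∑ j, (x : Matrix (Fin a) (Fin a) F) i j * H46.vecCoords e P v (j, u')) ∈ K := by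
      have e1 : (fun u' => ∑ j, (x : Matrix (Fin a) (Fin a) F) i j * H46.vecCoords e P v (j, u')) =
          ∑ j, (x : Matrix (Fin a) (Fin a) F) i j • fun u' => H46.vecCoords e P v (j, u') := by
        funext u'
        simp [Finset.sum_apply]
      rw [e1]
      exact sum_mem fun j _ => K.smul_mem _ (hv j)
    have e2 : (fun u => H46.vecCoords e P ((g : Matrix ι ι F) *ᵥ v) (i, u)) = (y : Matrix (Fin m) (Fin m) F) *ᵥ
        fun u' => ∑ j, (x : Matrix (Fin a) (Fin a) F) i j * H46.vecCoords e P v (j, u') := by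
      rw [hxy, H46.vecCoords_matCoords]
      funext u
      simp only [Matrix.mulVec, dotProduct, Fintype.sum_prod_type, Matrix.kroneckerMap_apply, Finset.mul_sum]
      rw [Finset.sum_comm]
      exact Finset.sum_congr rfl fun u' _ => Finset.sum_congr rfl fun j _ => by ring
    rw [e2, mem_sqKer]
    have e3 : ∀ z, d ((y : Matrix (Fin m) (Fin m) F) *ᵥ z) = μ⁻¹ * d z := fun z => by
      simp only [d]
      rw [formOfGram_mulVec_left, formOfGram_mulVec_right, hy, H46.formOfGram_smul_gram]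
    rw [e3, mem_sqKer.1 hz, mul_zero]
  haveI : Nonempty (Fin a) := ⟨⟨0, by linarith [hd.two_le_left]⟩⟩
  obtain ⟨i₁⟩ := ‹Nonempty (Fin a)›
  rcases hirr W hW with h | h
  · exfalso
    obtain ⟨z, -, hz0, hz⟩ := exists_zero_of_semilinear d hadd (W := ⊤)
      (by rw [finrank_top, Module.finrank_pi, Fintype.card_fin]; exact hd.two_le_right)
    have hmem : unc e P (fun p => if p.1 = i₁ then z p.2 else 0) ∈ W := fun i => by
      rw [vecCoords_unc]
      by_cases hi : i = i₁
      · simp only [hi, if_true]; exact mem_sqKer.2 hz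
      · simp only [hi, if_false]; exact zero_mem K
    rw [h, Submodule.mem_bot] at hmem
    apply hz0
    funext u
    have h5 := congrArg (H46.vecCoords e P) hmem
    rw [vecCoords_unc, map_zero] at h5
    simpa using congrFun h5 (i₁, u)
  · intro u
    have hmem : unc e P (fun p => if p.1 = i₁ then (Pi.single u (1 : F) : Fin m → F) p.2 else 0) ∈ W :=
      h ▸ Submodule.mem_top
    have h5 := hmem i₁
    rw [vecCoords_unc] at h5
    simp only [if_true] at h5
    have h6 := mem_sqKer.1 h5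
    simp only [d] at h6
    rw [show (fun z => (Pi.single u (1 : F) : Fin m → F) z) = Pi.single u 1 from rfl] at h6
    rwa [show formOfGram (id : F → F) C (Pi.single u 1) (Pi.single u 1) = C u u from
      H46.formOfGram_single (RingEquiv.refl F) C u u] at h6

/-- The second factor alternating: the form vanishes on pure tensors. -/
theorem TensorData.pure_zero (hd : TensorData q H e P S C κ) (hirr : Irr H)
    (hH : ∀ g ∈ H, ∀ v, q ((g : Matrix ι ι F) *ᵥ v) = q v) (hC : ∀ u, C u u = 0) (hCs : Cᵀ = -C)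
    (x : Fin a → F) (y : Fin m → F) : q (unc e P fun p => x p.1 * y p.2) = 0 := by
  have hzero : formOfGram (id : F → F) C y y = 0 :=
    (H46.isSymplecticForm_gram C hd.unitC hCs hC).alternating y
  have hpure : formOfGram (id : F → F) (S ⊗ₖ C) (fun p => x p.1 * y p.2) (fun p => x p.1 * y p.2) =
      formOfGram (id : F → F) S x x * formOfGram (id : F → F) C y y := by
    simp only [formOfGram, id, Fintype.sum_prod_type, Matrix.kroneckerMap_apply, Finset.sum_mul_sum]
    exact Finset.sum_congr rfl fun i _ => Finset.sum_congr rfl fun u _ => Finset.sum_congr rfl fun j _ =>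
      Finset.sum_congr rfl fun v _ => by ring
  by_cases h2 : (2 : F) = 0
  swap
  · have h := hd.form (fun p => x p.1 * y p.2) (fun p => x p.1 * y p.2)
    rw [polar_self, hpure, hzero, mul_zero] at h
    exact (mul_eq_zero.1 h).resolve_left h2
  have hκ : κ = 1 := by
    rcases hd.sign with h | h
    · exact h
    · rw [h]; linear_combination -h2
  have hSs : ∀ i j, S j i = S i j := fun i j => by rw [hd.symS, hκ, one_mul]
  have hCs' : ∀ i j, C j i = C i j := fun i j => by rw [hd.symC, hκ, one_mul]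
  have hSd : ∀ i, S i i = 0 := hd.swap.diag_zero h2 hirr hH
  set D : V → F := fun v => q v - H46.tensQuad S C (H46.vecCoords e P v)
  have hpol : ∀ u v, QuadraticMap.polar ⇑q u v =
      H46.tensQuad S C (H46.vecCoords e P u + H46.vecCoords e P v) - H46.tensQuad S C (H46.vecCoords e P u) -
        H46.tensQuad S C (H46.vecCoords e P v) := fun u v => by
    conv_lhs => rw [← unc_vecCoords e P u, ← unc_vecCoords e P v]
    rw [hd.form, H46.tensQuad_polar hSs hSd hCs']
    rfl
  have hadd : ∀ u v, D (u + v) = D u + D v := fun u v => by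
    have h := hpol u v
    simp only [D, map_add]
    rw [QuadraticMap.map_add ⇑q u v]
    linear_combination h
  have hsm : ∀ (c : F) v, D (c • v) = c ^ 2 * D v := fun c v => by
    simp only [D, map_smul, H46.tensQuad_smul, H43.qmap_smul]; ring
  have hn : 2 ≤ Fintype.card ι := by
    have := Nat.mul_le_mul hd.two_le_left hd.two_le_right
    rw [hd.card_eq]; omega
  have h := semilinear_eq_zero hirr hn D hadd hsm (fun g hg v hv => by
    obtain ⟨x, y, hxy⟩ := hd.mem g hg
    simp only [D] at hv ⊢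
    rw [hH g hg, hxy, H46.vecCoords_matCoords, H46.tensQuad_kron hSs hSd hCs' hd.unitC hCs hC _ _ (c := 1)
      (fun z w => ?_), one_mul]
    · exact hv
    · have h1 := isometry_polar (hH g hg) (unc e P z) (unc e P w)
      rw [hxy, matCoords_unc, matCoords_unc, hd.form, hd.form] at h1
      rw [one_mul]
      exact h1) (unc e P fun p => x p.1 * y p.2)
  simp only [D, vecCoords_unc, sub_eq_zero] at h
  rw [h, H46.tensQuad_pure S hd.unitC hCs hC]

/-- A two-dimensional first factor and a form vanishing on pure tensors: plus type. -/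
theorem plus_of_pure (ha : a = 2) (hpure : ∀ (x : Fin a → F) (y : Fin m → F), q (unc e P fun p => x p.1 * y p.2) = 0) :
    IsPlusTypeOn ⇑q ⊤ := by
  subst ha
  let φ : (Fin m → F) →ₗ[F] V :=
    { toFun := fun y => unc e P fun p => (Pi.single (0 : Fin 2) (1 : F) : Fin 2 → F) p.1 * y p.2
      map_add' := fun y y' => by
        simp only [unc, ← Matrix.mulVec_add]
        congr 1
        funext i
        simp [mul_add]
      map_smul' := fun c y => by
        simp only [unc, RingHom.id_apply, ← Matrix.mulVec_smul]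
        congr 1
        funext i
        simp [mul_left_comm] }
  have hinj : Function.Injective φ := by
    intro y y' h
    funext u
    have h1 := congrFun (mulVec_inj P h) (e.symm (0, u))
    simpa [Function.comp_apply] using h1
  refine ⟨LinearMap.range φ, le_top, ?_, ?_⟩
  · rintro _ ⟨y, rfl⟩
    exact hpure _ y
  · rw [LinearMap.finrank_range_of_inj hinj, finrank_top, Module.finrank_pi, Module.finrank_pi,
      Fintype.card_congr e, Fintype.card_prod, Fintype.card_fin, Fintype.card_fin]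

/-- A normalised commutative algebra on the first factor. -/
theorem TensorData.reduce (hd : TensorData q H e P S C κ) {A : Subalgebra F (Matrix (Fin a) (Fin a) F)}
    (hcomm : ∀ x ∈ A, ∀ y ∈ A, x * y = y * x) (hne : A ≠ ⊥)
    (hnorm : ∀ g ∈ H, ∀ (x : GL (Fin a) F) (y : GL (Fin m) F), (g : Matrix ι ι F) =
      H46.matCoords e P ((x : Matrix (Fin a) (Fin a) F) ⊗ₖ (y : Matrix (Fin m) (Fin m) F)) →
        ∀ X ∈ A, ∃ Y ∈ A, (x : Matrix (Fin a) (Fin a) F) * X = Y * (x : Matrix (Fin a) (Fin a) F))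
    (hadj : ∀ X ∈ A, ∃ Y ∈ A, Xᵀ * S = S * Y) :
    ∃ B : Subalgebra F (Matrix ι ι F), (∀ x ∈ B, ∀ y ∈ B, x * y = y * x) ∧
      (∀ g ∈ H, ∀ X ∈ B, H46.glConj g X ∈ B) ∧
      (∀ X ∈ B, ∃ Y ∈ B, IsAdj (QuadraticMap.polar ⇑q) X Y) ∧ B ≠ ⊥ := by
  haveI : Nonempty (Fin m) := ⟨⟨0, by linarith [hd.two_le_right]⟩⟩
  set Ψ : Matrix (Fin a) (Fin a) F →ₐ[F] Matrix ι ι F :=
    (H46.matCoords e P).toAlgHom.comp (H46.kronOne (Fin a) (Fin m) F)
  have hΨ : ∀ X, Ψ X = H46.matCoords e P (X ⊗ₖ (1 : Matrix (Fin m) (Fin m) F)) := fun X => rfl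
  refine ⟨A.map Ψ, ?_, ?_, ?_, fun h => hne ?_⟩
  · rintro _ ⟨x, hx, rfl⟩ _ ⟨y, hy, rfl⟩
    show Ψ x * Ψ y = Ψ y * Ψ x
    rw [← map_mul, ← map_mul, hcomm x hx y hy]
  · rintro g hg _ ⟨X, hX, rfl⟩
    obtain ⟨x, y, hxy⟩ := hd.mem g hg
    obtain ⟨Y, hY, hxY⟩ := hnorm g hg x y hxy X hX
    refine ⟨Y, hY, ?_⟩
    show Ψ Y = H46.glConj g (Ψ X)
    symm
    rw [H46.glConj_eq_iff, hxy, hΨ, hΨ, ← map_mul, ← map_mul, ← Matrix.mul_kronecker_mul,
      ← Matrix.mul_kronecker_mul, hxY, one_mul, mul_one]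
  · rintro _ ⟨X, hX, rfl⟩
    obtain ⟨Y, hY, hXY⟩ := hadj X hX
    refine ⟨Ψ Y, ⟨Y, hY, rfl⟩, fun u v => ?_⟩
    show QuadraticMap.polar ⇑q (Ψ X *ᵥ u) v = QuadraticMap.polar ⇑q u (Ψ Y *ᵥ v)
    obtain ⟨u, rfl⟩ : ∃ x, unc e P x = u := ⟨_, unc_vecCoords e P u⟩
    obtain ⟨v, rfl⟩ : ∃ x, unc e P x = v := ⟨_, unc_vecCoords e P v⟩
    rw [hΨ, hΨ, matCoords_unc, matCoords_unc, hd.form, hd.form, formOfGram_mulVec_left, formOfGram_mulVec_right,
      ← Matrix.kroneckerMap_transpose, Matrix.transpose_one, ← Matrix.mul_kronecker_mul, ← Matrix.mul_kronecker_mul,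
      hXY, one_mul, mul_one]
  · rw [eq_bot_iff]
    intro X hX
    have hmem : Ψ X ∈ A.map Ψ := ⟨X, hX, rfl⟩
    rw [h] at hmem
    obtain ⟨c, hc⟩ := Algebra.mem_bot.1 hmem
    refine Algebra.mem_bot.2 ⟨c, ?_⟩
    apply H46.kronOne_injective (μ := Fin m)
    apply (H46.matCoords e P).injective
    show Ψ _ = Ψ _
    rw [AlgHom.commutes]
    exact hc

/-- A matrix with its conjugates in the algebra it generates. -/
theorem TensorData.reduce_single (hd : TensorData q H e P S C κ) (J : Matrix (Fin a) (Fin a) F)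
    (hns : ∀ c : F, J ≠ c • 1)
    (hnorm : ∀ g ∈ H, ∀ (x : GL (Fin a) F) (y : GL (Fin m) F), (g : Matrix ι ι F) =
      H46.matCoords e P ((x : Matrix (Fin a) (Fin a) F) ⊗ₖ (y : Matrix (Fin m) (Fin m) F)) →
        ∃ c d : F, (x : Matrix (Fin a) (Fin a) F) * J = (c • J + d • 1) * (x : Matrix (Fin a) (Fin a) F))
    (hadj : ∃ c d : F, Jᵀ * S = S * (c • J + d • 1)) :
    ∃ B : Subalgebra F (Matrix ι ι F), (∀ x ∈ B, ∀ y ∈ B, x * y = y * x) ∧
      (∀ g ∈ H, ∀ X ∈ B, H46.glConj g X ∈ B) ∧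
      (∀ X ∈ B, ∃ Y ∈ B, IsAdj (QuadraticMap.polar ⇑q) X Y) ∧ B ≠ ⊥ := by
  set A := Algebra.adjoin F ({J} : Set (Matrix (Fin a) (Fin a) F))
  have hJ : J ∈ A := Algebra.subset_adjoin rfl
  have hlin : ∀ c d : F, c • J + d • (1 : Matrix (Fin a) (Fin a) F) ∈ A := fun c d =>
    add_mem (A.smul_mem hJ c) (A.smul_mem (one_mem A) d)
  have hcomm : ∀ x ∈ A, ∀ y ∈ A, x * y = y * x := by
    have h1 : ∀ y ∈ A, Commute J y := by
      intro y hy
      induction hy using Algebra.adjoin_induction with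
      | mem y hy => obtain rfl : y = J := hy; rfl
      | algebraMap r => exact (Algebra.commutes r _).symm
      | add y z _ _ hy hz => exact hy.add_right hz
      | mul y z _ _ hy hz => exact hy.mul_right hz
    intro x hx y hy
    induction hx using Algebra.adjoin_induction with
    | mem x hx => obtain rfl : x = J := hx; exact (h1 y hy).eq
    | algebraMap r => exact Algebra.commutes r y
    | add x z _ _ hx hz => rw [add_mul, mul_add, hx, hz]
    | mul x z _ _ hx hz => rw [mul_assoc, hz, ← mul_assoc, hx, mul_assoc]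
  refine hd.reduce hcomm ?_ (fun g hg x y hxy X hX => ?_) (fun X hX => ?_)
  · intro h
    obtain ⟨c, hc⟩ := Algebra.mem_bot.1 (h ▸ hJ)
    exact hns c (by rw [← hc, Algebra.algebraMap_eq_smul_one])
  · obtain ⟨c, d, hcd⟩ := hnorm g hg x y hxy
    induction hX using Algebra.adjoin_induction with
    | mem X hX => obtain rfl : X = J := hX; exact ⟨_, hlin c d, hcd⟩
    | algebraMap r => exact ⟨_, A.algebraMap_mem r, (Algebra.commutes r _).symm⟩
    | add X Z _ _ hX hZ =>
      obtain ⟨X', hX', e1⟩ := hX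
      obtain ⟨Z', hZ', e2⟩ := hZ
      exact ⟨X' + Z', add_mem hX' hZ', by rw [mul_add, add_mul, e1, e2]⟩
    | mul X Z _ _ hX hZ =>
      obtain ⟨X', hX', e1⟩ := hX
      obtain ⟨Z', hZ', e2⟩ := hZ
      exact ⟨X' * Z', mul_mem hX' hZ', by rw [← mul_assoc, e1, mul_assoc, e2, mul_assoc]⟩
  · obtain ⟨c, d, hcd⟩ := hadj
    induction hX using Algebra.adjoin_induction with
    | mem X hX => obtain rfl : X = J := hX; exact ⟨_, hlin c d, hcd⟩
    | algebraMap r =>
      refine ⟨_, A.algebraMap_mem r, ?_⟩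
      rw [Algebra.algebraMap_eq_smul_one, Matrix.transpose_smul, Matrix.transpose_one, Matrix.smul_mul,
        Matrix.mul_smul, one_mul, mul_one]
    | add X Z _ _ hX hZ =>
      obtain ⟨X', hX', e1⟩ := hX
      obtain ⟨Z', hZ', e2⟩ := hZ
      exact ⟨X' + Z', add_mem hX' hZ', by rw [Matrix.transpose_add, add_mul, mul_add, e1, e2]⟩
    | mul X Z _ _ hX hZ =>
      obtain ⟨X', hX', e1⟩ := hX
      obtain ⟨Z', hZ', e2⟩ := hZ
      refine ⟨Z' * X', mul_mem hZ' hX', ?_⟩
      rw [Matrix.transpose_mul, mul_assoc, e1, ← mul_assoc, e2, mul_assoc]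

end OE

end H98
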