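import Cfsg.Agent.H98.OrthEven.TensorCoords
import Cfsg.Agent.H98.OrthEven.Disc
import Cfsg.Agent.H98.OrthEven.ProperSim

/-!
A tensor decomposition of a twelve-dimensional orthogonal space into symmetric forms of dimensions three and four:
the type, and in plus type the regrouping into alternating forms of dimensions two and six.
-/

set_option autoImplicit false
set_option linter.unusedSectionVars false
set_option linter.style.haveILetI false
set_option maxHeartbeats 800000

open Cfsg.Geo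
open scoped Matrix MatrixGroups Kronecker

namespace H98

namespace OE

open H51.FormAsch (unc vecCoords_unc unc_vecCoords matCoords_unc
  formOfGram_mulVec_left formOfGram_mulVec_right gram_ext isSymmetricForm_gram gramMatrix_formOfGram)

variable {ι : Type} [Fintype ι] [DecidableEq ι] {F : Type*} [Field F] [Fintype F]

local notation "V" => (ι → F)

/-- The quadratic form with a given polar matrix, odd characteristic. -/
noncomputable def quadOf {n : ℕ} (C : Matrix (Fin n) (Fin n) F) : QuadraticForm F (Fin n → F) :=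
  LinearMap.BilinMap.toQuadraticMap (Matrix.toLinearMap₂' F ((2⁻¹ : F) • C))

theorem quadOf_apply {n : ℕ} (C : Matrix (Fin n) (Fin n) F) (x : Fin n → F) :
    quadOf C x = 2⁻¹ * formOfGram (id : F → F) C x x := by
  simp only [quadOf, LinearMap.BilinMap.toQuadraticMap_apply, Matrix.toLinearMap₂'_apply', H46.formOfGram_eq,
    Function.id_comp, Matrix.smul_mulVec, dotProduct_smul, smul_eq_mul]

theorem quadOf_polar {n : ℕ} (h2 : (2 : F) ≠ 0) {C : Matrix (Fin n) (Fin n) F} (hC : Cᵀ = C) (x y : Fin n → F) :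
    H43.polB (quadOf C) x y = formOfGram (id : F → F) C x y := by
  have hsym : formOfGram (id : F → F) C y x = formOfGram (id : F → F) C x y := by
    simp only [H46.formOfGram_eq, Function.id_comp]
    rw [Matrix.dotProduct_mulVec, ← Matrix.mulVec_transpose, hC, dotProduct_comm]
  have e : formOfGram (id : F → F) C (x + y) (x + y) = formOfGram (id : F → F) C x x +
      formOfGram (id : F → F) C y y + (formOfGram (id : F → F) C x y + formOfGram (id : F → F) C y x) := by
    simp only [H46.formOfGram_eq, Function.id_comp, Matrix.mulVec_add, add_dotProduct, dotProduct_add]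
    ring
  rw [H43.polB_apply, QuadraticMap.polar, quadOf_apply, quadOf_apply, quadOf_apply, e, hsym]
  field_simp
  ring

theorem quadOf_nondeg {n : ℕ} (h2 : (2 : F) ≠ 0) {C : Matrix (Fin n) (Fin n) F} (hC : Cᵀ = C) (hu : IsUnit C) :
    (H43.polB (quadOf C)).Nondegenerate := by
  have key : ∀ x, (∀ y, H43.polB (quadOf C) x y = 0) → x = 0 := fun x hx => by
    by_contra hne
    obtain ⟨y, hy⟩ := (H46.formOfGram_nondegenerate (RingEquiv.refl F) C hu x hne).2
    exact hy ((quadOf_polar h2 hC x y).symm.trans (hx y))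
  exact ⟨key, fun y hy => key y fun x => by rw [H43.polB_comm]; exact hy x⟩

variable {q : QuadraticForm F (ι → F)} {H : Subgroup (GL ι F)} {a m : ℕ} {e : ι ≃ Fin a × Fin m} {P : GL ι F}
  {S : Matrix (Fin a) (Fin a) F} {C : Matrix (Fin m) (Fin m) F} {κ : F}

/-- The determinant of the form in tensor coordinates decides the type. -/
theorem TensorData.plus_iff_det (hd : TensorData q H e P S C κ) (hq : (H43.polB q).Nondegenerate)
    (h2 : (2 : F) ≠ 0) {j : ℕ} (hj : Fintype.card ι = 2 * j) :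
    IsPlusTypeOn ⇑q ⊤ ↔ IsSquare ((-1) ^ j * (S.det ^ m * C.det ^ a)) := by
  let L : (Fin a × Fin m → F) ≃ₗ[F] V := (LinearEquiv.funCongrLeft F F e).trans
    (Matrix.toLinearEquiv' (P : Matrix ι ι F) P.invertible)
  have hL : ∀ x, L x = unc e P x := fun x => rfl
  let b : Module.Basis (Fin a × Fin m) F V := (Pi.basisFun F _).map L
  rw [plus_iff_disc hq h2 hj b]
  have e1 : (Matrix.of fun i j => H43.polB q (b i) (b j)) = S ⊗ₖ C := by
    ext i j
    show H43.polB q (b i) (b j) = _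
    simp only [b, Module.Basis.map_apply, Pi.basisFun_apply, hL, H43.polB_apply, hd.form]
    exact H46.formOfGram_single (RingEquiv.refl F) _ i j
  rw [e1, Matrix.det_kronecker, Fintype.card_fin, Fintype.card_fin]

/-- For symmetric factors of dimensions three and four the types agree. -/
theorem TensorData.plus_iff_four {e : ι ≃ Fin 3 × Fin 4} {S : Matrix (Fin 3) (Fin 3) F}
    {C : Matrix (Fin 4) (Fin 4) F} (hd : TensorData q H e P S C κ) (hq : (H43.polB q).Nondegenerate)
    (h2 : (2 : F) ≠ 0) (hC : Cᵀ = C) :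
    IsPlusTypeOn ⇑q ⊤ ↔ IsPlusTypeOn ⇑(quadOf C) ⊤ := by
  rw [hd.plus_iff_det hq h2 (j := 6) (by rw [hd.card_eq]),
    plus_iff_disc (quadOf_nondeg h2 hC hd.unitC) h2 (m := 2) (by simp) (Pi.basisFun F (Fin 4))]
  have e1 : (Matrix.of fun i j => H43.polB (quadOf C) (Pi.basisFun F (Fin 4) i) (Pi.basisFun F (Fin 4) j)) = C := by
    ext i j
    show H43.polB (quadOf C) _ _ = _
    rw [quadOf_polar h2 hC, Pi.basisFun_apply, Pi.basisFun_apply]
    exact H46.formOfGram_single (RingEquiv.refl F) _ i j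
  have hC0 : C.det ≠ 0 := ((Matrix.isUnit_iff_isUnit_det _).1 hd.unitC).ne_zero
  have hS0 : S.det ≠ 0 := ((Matrix.isUnit_iff_isUnit_det _).1 hd.unitS).ne_zero
  rw [e1, show ((-1 : F)) ^ 2 * C.det = C.det by ring]
  constructor
  · rintro ⟨s, hs⟩
    exact ⟨s / (S.det ^ 2 * C.det), by field_simp; linear_combination hs⟩
  · rintro ⟨s, hs⟩
    exact ⟨S.det ^ 2 * C.det * s, by rw [hs]; ring⟩

theorem plus_quadOf_iff {n : ℕ} (h2 : (2 : F) ≠ 0) (C : Matrix (Fin n) (Fin n) F) :
    IsPlusTypeOn (fun v : Fin n → F => formOfGram (id : F → F) C v v) ⊤ ↔ IsPlusTypeOn ⇑(quadOf C) ⊤ := by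
  constructor
  · rintro ⟨U, hU, hts, hdim⟩
    exact ⟨U, hU, fun w hw => by rw [quadOf_apply, show formOfGram (id : F → F) C w w = 0 from hts w hw, mul_zero],
      hdim⟩
  · rintro ⟨U, hU, hts, hdim⟩
    refine ⟨U, hU, fun w hw => ?_, hdim⟩
    have h := hts w hw
    rw [quadOf_apply] at h
    exact (mul_eq_zero.1 h).resolve_left (inv_ne_zero h2)

/-- Regrouping in plus type. -/
theorem TensorData.regroup {e : ι ≃ Fin 3 × Fin 4} {S : Matrix (Fin 3) (Fin 3) F}
    {C : Matrix (Fin 4) (Fin 4) F} (hd : TensorData q H e P S C κ) (hq : (H43.polB q).Nondegenerate)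
    (h2 : (2 : F) ≠ 0) (hH : ∀ g ∈ H, ∀ v, q ((g : Matrix ι ι F) *ᵥ v) = q v)
    (hdet : ∀ g ∈ H, (g : Matrix ι ι F).det = 1) (hS : Sᵀ = S) (hC : Cᵀ = C) (hplus : IsPlusTypeOn ⇑q ⊤) :
    ∃ (e' : ι ≃ Fin 2 × Fin 6) (P' : GL ι F) (S' : Matrix (Fin 2) (Fin 2) F) (C' : Matrix (Fin 6) (Fin 6) F),
      TensorData q H e' P' S' C' (-1) := by
  classical
  set qC := quadOf C with hqC
  have hqCn := quadOf_nondeg h2 hC hd.unitC
  have hplusC := (hd.plus_iff_four hq h2 hC).1 hplus
  have htop : (⊤ : Submodule F (Fin 4 → F)) ⊓ (H43.polB qC).orthogonal ⊤ = ⊥ := by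
    rw [eq_bot_iff]
    rintro x ⟨-, hx⟩
    exact (Submodule.mem_bot F).2 (hqCn.1 x fun y => by rw [H43.polB_comm]; exact hx y trivial)
  rcases type_cases hqCn htop (m := 2) (by simp) with ⟨-, φ, hφ⟩ | ⟨hp, -⟩
  swap
  · exact absurd hplusC hp
  -- coordinates in which the second form is the determinant
  let ε : Fin 4 ≃ Fin 2 × Fin 2 := (finProdFinEquiv (m := 2) (n := 2)).symm
  let G : (Fin 4 → F) →ₗ[F] (Fin 2 ⊕ Fin 2 → F) :=
    { toFun := fun z => Sum.elim ![z (ε.symm (0, 0)), -z (ε.symm (0, 1))] ![z (ε.symm (1, 1)), z (ε.symm (1, 0))]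
      map_add' := fun z w => by
        funext i
        rcases i with i | i <;> fin_cases i <;> simp [add_comm]
      map_smul' := fun c z => by
        funext i
        rcases i with i | i <;> fin_cases i <;> simp }
  let L : (Fin 4 → F) →ₗ[F] (Fin 4 → F) := (Submodule.subtype ⊤).comp (φ.symm.toLinearMap.comp G)
  let Q0 : (Fin 4 → F) → F := fun z => z (ε.symm (0, 0)) * z (ε.symm (1, 1)) - z (ε.symm (0, 1)) * z (ε.symm (1, 0))
  have hLq : ∀ z, qC (L z) = Q0 z := by
    intro z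
    show qC ((φ.symm (G z) : (⊤ : Submodule F (Fin 4 → F))) : Fin 4 → F) = _
    rw [hφ, LinearEquiv.apply_symm_apply]
    simp [Cfsg.quadFormPlus, G, Q0, Fin.sum_univ_two]
    ring
  set T := LinearMap.toMatrix' L with hT
  have hTL : ∀ z, T *ᵥ z = L z := fun z => by rw [hT, ← Matrix.toLin'_apply, Matrix.toLin'_toMatrix']
  set C₀ : Matrix (Fin 4) (Fin 4) F := (altTwo F ⊗ₖ altTwo F).submatrix ε ε with hC₀
  have hC₀sum : ∀ z w : Fin 4 → F, formOfGram (id : F → F) C₀ z w =
      Q0 (z + w) - Q0 z - Q0 w := by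
    intro z w
    simp only [formOfGram, hC₀, Matrix.submatrix_apply, id]
    rw [← ε.symm.sum_comp]
    simp only [Fintype.sum_prod_type, Fin.sum_univ_two, Equiv.apply_symm_apply]
    simp only [← ε.symm.sum_comp (fun j => z _ * _ * w j), Fintype.sum_prod_type, Fin.sum_univ_two,
      Equiv.apply_symm_apply]
    simp [altTwo, Q0, Matrix.kroneckerMap_apply]
    ring
  have hTC : Tᵀ * C * T = C₀ := by
    apply gram_ext
    intro z w
    rw [mul_assoc, ← formOfGram_mulVec_left, ← formOfGram_mulVec_right, ← quadOf_polar h2 hC, H43.polB_apply,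
      QuadraticMap.polar, ← Matrix.mulVec_add, hTL, hTL, hTL, ← hqC, hLq, hLq, hLq, hC₀sum]
  have hC0 : C.det ≠ 0 := ((Matrix.isUnit_iff_isUnit_det _).1 hd.unitC).ne_zero
  have hCC : (altTwo F ⊗ₖ altTwo F).det = 1 := by
    rw [Matrix.det_kronecker]
    simp [altTwo, Matrix.det_fin_two]
  have hTdet : T.det ≠ 0 := by
    intro h0
    have h := congrArg Matrix.det hTC
    rw [Matrix.det_mul, h0, mul_zero, hC₀, Matrix.det_submatrix_equiv_self, hCC] at h
    exact zero_ne_one h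
  set U : GL (Fin 4) F := ((Matrix.isUnit_iff_isUnit_det _).2 (isUnit_iff_ne_zero.2 hTdet)).unit
  have hU : (U : Matrix (Fin 4) (Fin 4) F) = T := IsUnit.unit_spec _
  let σ : Fin 3 × Fin 2 ≃ Fin 6 := finProdFinEquiv (m := 3) (n := 2)
  let ψ : Fin 3 × Fin 4 ≃ Fin 2 × Fin 6 :=
    { toFun := fun p => ((ε p.2).1, σ (p.1, (ε p.2).2))
      invFun := fun p => ((σ.symm p.2).1, ε.symm (p.1, (σ.symm p.2).2))
      left_inv := fun p => by simp
      right_inv := fun p => by simp }
  set R : GL ι F := glReindex e.symm (H46.glKron 1 U) with hR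
  refine ⟨e.trans ψ, P * R, altTwo F, (S ⊗ₖ altTwo F).submatrix σ.symm σ.symm, ?_⟩
  have hsub : ∀ Z : Matrix (Fin 2 × Fin 6) (Fin 2 × Fin 6) F, H46.matCoords (e.trans ψ) (P * R) Z =
      H46.matCoords e P (((1 : Matrix (Fin 3) (Fin 3) F) ⊗ₖ T) * Z.submatrix ψ ψ *
        ((1 : Matrix (Fin 3) (Fin 3) F) ⊗ₖ ((U⁻¹ : GL (Fin 4) F) : Matrix (Fin 4) (Fin 4) F))) := by
    intro Z
    simp only [H46.matCoords, AlgEquiv.trans_apply, H46.glConj_mul]
    congr 1
    rw [map_mul, map_mul, H46.glConj_apply]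
    rw [show ((R : GL ι F) : Matrix ι ι F) = Matrix.reindexAlgEquiv F F e.symm ((1 : Matrix (Fin 3) (Fin 3) F) ⊗ₖ T) by
        rw [← hU]; rfl,
      show ((R⁻¹ : GL ι F) : Matrix ι ι F) = Matrix.reindexAlgEquiv F F e.symm
        ((1 : Matrix (Fin 3) (Fin 3) F) ⊗ₖ ((U⁻¹ : GL (Fin 4) F) : Matrix (Fin 4) (Fin 4) F)) by
        rw [hR, ← map_inv]
        show Matrix.reindexAlgEquiv F F e.symm
          (((1⁻¹ : GL (Fin 3) F) : Matrix (Fin 3) (Fin 3) F) ⊗ₖ ((U⁻¹ : GL (Fin 4) F) : Matrix (Fin 4) (Fin 4) F)) = _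
        rw [inv_one, Units.val_one]]
    rfl
  have hunc : ∀ z, unc (e.trans ψ) (P * R) z = unc e P (((1 : Matrix (Fin 3) (Fin 3) F) ⊗ₖ T) *ᵥ (z ∘ ψ)) := by
    intro z
    simp only [unc, Units.val_mul, ← Matrix.mulVec_mulVec]
    congr 1
    rw [← hU]
    show ((H46.glKron (1 : GL (Fin 3) F) U : Matrix (Fin 3 × Fin 4) (Fin 3 × Fin 4) F).submatrix e e) *ᵥ ((z ∘ ψ) ∘ e) = _
    rw [Matrix.submatrix_mulVec_equiv, Function.comp_assoc, Equiv.self_comp_symm, Function.comp_id]
    rfl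
  have hsymm6 : ((S ⊗ₖ altTwo F).submatrix σ.symm σ.symm)ᵀ = -((S ⊗ₖ altTwo F).submatrix σ.symm σ.symm) := by
    rw [Matrix.transpose_submatrix, ← Matrix.kroneckerMap_transpose, hS]
    ext u v
    simp only [Matrix.submatrix_apply, Matrix.kroneckerMap_apply, Matrix.neg_apply, Matrix.transpose_apply]
    have hK : ∀ i j, altTwo F j i = -altTwo F i j := fun i j => by fin_cases i <;> fin_cases j <;> simp [altTwo]
    rw [hK, mul_neg]
  refine ⟨le_rfl, by norm_num, ?_, ?_, fun x y => ?_, Or.inr rfl, fun i j => ?_, fun u v => ?_, fun g hg => ?_⟩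
  · rw [Matrix.isUnit_iff_isUnit_det]; simp [altTwo, Matrix.det_fin_two]
  · rw [Matrix.isUnit_iff_isUnit_det, Matrix.det_submatrix_equiv_self, Matrix.det_kronecker, isUnit_iff_ne_zero]
    have hS0 : S.det ≠ 0 := ((Matrix.isUnit_iff_isUnit_det _).1 hd.unitS).ne_zero
    simpa [altTwo, Matrix.det_fin_two] using hS0
  · rw [hunc, hunc, hd.form, formOfGram_mulVec_left, formOfGram_mulVec_right, ← Matrix.kroneckerMap_transpose,
      Matrix.transpose_one, ← Matrix.mul_kronecker_mul, ← Matrix.mul_kronecker_mul, one_mul, mul_one, hTC]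
    simp only [formOfGram, id]
    rw [← ψ.sum_comp]
    refine Finset.sum_congr rfl fun p _ => ?_
    rw [← ψ.sum_comp]
    refine Finset.sum_congr rfl fun p' _ => ?_
    simp only [Function.comp_apply, Matrix.kroneckerMap_apply, hC₀, Matrix.submatrix_apply, ψ, Equiv.coe_fn_mk,
      Equiv.symm_apply_apply]
    ring
  · fin_cases i <;> fin_cases j <;> simp [altTwo]
  · rw [neg_one_mul, ← Matrix.neg_apply, ← hsymm6]
    rfl
  · obtain ⟨x, y, hxy⟩ := hd.mem g hg
    obtain ⟨μ, hμ, hx, hy⟩ := hd.similitude hH hg hxy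
    have hdx : (x : Matrix (Fin 3) (Fin 3) F).det ≠ 0 := ((Matrix.isUnit_iff_isUnit_det _).1 x.isUnit).ne_zero
    have hdy : (y : Matrix (Fin 4) (Fin 4) F).det ≠ 0 := ((Matrix.isUnit_iff_isUnit_det _).1 y.isUnit).ne_zero
    have hS0 : S.det ≠ 0 := ((Matrix.isUnit_iff_isUnit_det _).1 hd.unitS).ne_zero
    have ex : (x : Matrix (Fin 3) (Fin 3) F).det ^ 2 = μ ^ 3 := by
      have h := congrArg Matrix.det hx
      rw [Matrix.det_mul, Matrix.det_mul, Matrix.det_transpose, Matrix.det_smul, Fintype.card_fin] at h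
      exact mul_right_cancel₀ hS0 (by linear_combination h)
    have ey : (y : Matrix (Fin 4) (Fin 4) F).det ^ 2 = μ⁻¹ ^ 4 := by
      have h := congrArg Matrix.det hy
      rw [Matrix.det_mul, Matrix.det_mul, Matrix.det_transpose, Matrix.det_smul, Fintype.card_fin] at h
      exact mul_right_cancel₀ hC0 (by linear_combination h)
    have exy : (x : Matrix (Fin 3) (Fin 3) F).det ^ 4 * (y : Matrix (Fin 4) (Fin 4) F).det ^ 3 = 1 := by
      have h := hdet g hg
      rw [hxy] at h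
      rw [← h, H46.matCoords, AlgEquiv.trans_apply, H46.glConj_apply, Matrix.det_units_conj,
        Matrix.reindexAlgEquiv_apply, Matrix.det_reindex_self, Matrix.det_kronecker, Fintype.card_fin,
        Fintype.card_fin]
    have hyd : (y : Matrix (Fin 4) (Fin 4) F).det = μ⁻¹ ^ 2 := by
      set d := (y : Matrix (Fin 4) (Fin 4) F).det
      have h1 : d * d ^ 2 * μ ^ 6 = 1 := by
        linear_combination exy - d ^ 3 * ((x : Matrix (Fin 3) (Fin 3) F).det ^ 2 + μ ^ 3) * ex
      rw [ey] at h1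
      field_simp at h1 ⊢
      linear_combination h1
    set y' := ((U⁻¹ : GL (Fin 4) F) : Matrix (Fin 4) (Fin 4) F) * (y : Matrix (Fin 4) (Fin 4) F) * T with hy'
    have hy'C : y'ᵀ * C₀ * y' = μ⁻¹ • C₀ := by
      have hTU : T * ((U⁻¹ : GL (Fin 4) F) : Matrix (Fin 4) (Fin 4) F) = 1 := by rw [← hU, Units.mul_inv]
      have hTU' : ((U⁻¹ : GL (Fin 4) F) : Matrix (Fin 4) (Fin 4) F)ᵀ * Tᵀ = 1 := by
        rw [← Matrix.transpose_mul, hTU, Matrix.transpose_one]
      rw [hy', ← hTC, Matrix.transpose_mul, Matrix.transpose_mul]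
      calc Tᵀ * ((y : Matrix (Fin 4) (Fin 4) F)ᵀ * ((U⁻¹ : GL (Fin 4) F) : Matrix (Fin 4) (Fin 4) F)ᵀ) *
            (Tᵀ * C * T) * (((U⁻¹ : GL (Fin 4) F) : Matrix (Fin 4) (Fin 4) F) * (y : Matrix (Fin 4) (Fin 4) F) * T)
          = Tᵀ * ((y : Matrix (Fin 4) (Fin 4) F)ᵀ * (((U⁻¹ : GL (Fin 4) F) : Matrix (Fin 4) (Fin 4) F)ᵀ * Tᵀ) * C *
              (T * ((U⁻¹ : GL (Fin 4) F) : Matrix (Fin 4) (Fin 4) F)) * (y : Matrix (Fin 4) (Fin 4) F)) * T := by
            simp only [mul_assoc]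
        _ = μ⁻¹ • (Tᵀ * C * T) := by rw [hTU', hTU, mul_one, mul_one, hy, Matrix.mul_smul, Matrix.smul_mul]
    obtain ⟨A, B, hAB⟩ := proper_similitude h2 (y := y'.submatrix ε.symm ε.symm) (inv_ne_zero hμ) (by
      have h := congrArg (fun Z : Matrix (Fin 4) (Fin 4) F => Z.submatrix ε.symm ε.symm) hy'C
      simp only [hC₀, Matrix.submatrix_mul _ _ _ ε.symm _ ε.symm.bijective, ← Matrix.transpose_submatrix,
        Matrix.submatrix_smul, Pi.smul_apply, Matrix.submatrix_submatrix, Equiv.self_comp_symm,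
        Matrix.submatrix_id_id] at h
      exact h) (by
      have hUd := congrArg Matrix.det (U.inv_mul)
      rw [Matrix.det_mul, Matrix.det_one, hU] at hUd
      rw [Matrix.det_submatrix_equiv_self, hy', Matrix.det_mul, Matrix.det_mul, hyd]
      linear_combination μ⁻¹ ^ 2 * hUd)
    have hy'ε : y' = (A ⊗ₖ B).submatrix ε ε := by
      rw [← hAB, Matrix.submatrix_submatrix, Equiv.symm_comp_self, Matrix.submatrix_id_id]
    have hdy' : (A ⊗ₖ B).det ≠ 0 := by
      rw [← hAB, Matrix.det_submatrix_equiv_self, hy', Matrix.det_mul, Matrix.det_mul]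
      exact mul_ne_zero (mul_ne_zero ((Matrix.isUnit_iff_isUnit_det _).1 (U⁻¹).isUnit).ne_zero hdy) hTdet
    rw [Matrix.det_kronecker, Fintype.card_fin] at hdy'
    have hA : IsUnit A := (Matrix.isUnit_iff_isUnit_det _).2 (isUnit_iff_ne_zero.2 fun h => by simp [h] at hdy')
    have hB : IsUnit B := (Matrix.isUnit_iff_isUnit_det _).2 (isUnit_iff_ne_zero.2 fun h => by simp [h] at hdy')
    set W : Matrix (Fin 6) (Fin 6) F := ((x : Matrix (Fin 3) (Fin 3) F) ⊗ₖ B).submatrix σ.symm σ.symm with hW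
    have hWu : IsUnit W := by
      rw [Matrix.isUnit_iff_isUnit_det, hW, Matrix.det_submatrix_equiv_self, Matrix.det_kronecker,
        isUnit_iff_ne_zero]
      exact mul_ne_zero (pow_ne_zero _ hdx) (pow_ne_zero _ ((Matrix.isUnit_iff_isUnit_det _).1 hB).ne_zero)
    refine ⟨hA.unit, hWu.unit, ?_⟩
    rw [IsUnit.unit_spec, IsUnit.unit_spec, hsub, hxy]
    congr 1
    have e2 : (A ⊗ₖ W).submatrix ψ ψ = (x : Matrix (Fin 3) (Fin 3) F) ⊗ₖ y' := by
      rw [hy'ε]
      ext ⟨i, u⟩ ⟨j, v⟩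
      simp only [Matrix.submatrix_apply, Matrix.kroneckerMap_apply, hW, ψ, Equiv.coe_fn_mk, Equiv.symm_apply_apply]
      ring
    rw [e2, ← Matrix.mul_kronecker_mul, ← Matrix.mul_kronecker_mul, one_mul, mul_one, hy', ← mul_assoc, ← mul_assoc,
      ← hU, Units.mul_inv, one_mul, mul_assoc, Units.mul_inv, mul_one]

end OE

end H98
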